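import Cfsg.Agent.Omega.KL.QF.OfNeg
import Cfsg.Agent.Omega.Node.MulG

/-!
# Row (7), branch (B) over `MulG` (`HypL` and the case (L) of GammaFF at the same time)

* `MH` : `MulG`, `k = 2`, `4 ≤ q`, TI, nonlocal;
* `false_of` : **`MH`, `QFr Z W B T`, `MLK`, `NoPreG` give `False`**;
* `qfr_neg` : `QFr` at stage `-1`; `QInG`, `QTopG` (the half `Top S P K₀`), `qInG_of`, `kInG_of`.
-/

set_option autoImplicit false
set_option linter.unusedSectionVars false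

namespace Cfsg.Agent.Omega.KL.QF.KInG

open Subgroup Cfsg Cfsg.Agent.ZN.ChoiceBase
open Cfsg.Agent.ZN (jj zj bau zc zl o2)
open Cfsg.Agent.Omega.OM
open Cfsg.Agent.Omega.NO3S (HypJ HypN Hyp HypF FrP)
open Cfsg.Agent.Omega.NO3S.Level (nxt)
open Cfsg.Agent.Omega.NO3S.EThree.Frame
open Cfsg.Agent.Omega.NO3S.EThree.Row7 (vec2 fin2 Nn)
open Cfsg.Agent.Omega.MinPar (NonLoc)
open Cfsg.Agent.Omega.Frame (Cls)
open Cfsg.Agent.Omega.Node.MulG
open Cfsg.Agent.Omega.KL.Q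

universe u

variable {G : Type u} [Group G]

/-- The data of row (7) over `MulG`. -/
structure MH [Finite G] (S : Sylow 2 G) (P K B ZJ : Subgroup G) (L W Z C : Fin 2 → Subgroup G) (q : ℕ) : Prop where
  mul : MulG S P K B ZJ L W Z C q
  hq : 4 ≤ q
  ti : ∀ i, TI (Z i)
  nonloc : NonLoc (normalizer (Z 0 : Set G)) (normalizer (Z 1 : Set G))

section

variable [Finite G] {S : Sylow 2 G} {P K' B ZJ : Subgroup G} {L W Z C : Fin 2 → Subgroup G} {q : ℕ}

theorem exists_pa (h : Bg S P B ZJ L W Z C q) : ∃ s, Pa (S : Subgroup G) W 0 1 s := by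
  obtain ⟨j, s, p⟩ := h.exists_partner 0
  rcases fin2 j with rfl | rfl
  · exact absurd rfl p.ne
  · exact ⟨s, p⟩

/-- **(B)** over `Bg`, `k = 2`. -/
theorem false_of_bg (h : Bg S P B ZJ L W Z C q) (hq : 4 ≤ q) (hML : ML.Final.MLK.{u, u})
    (hN : DefG.NoPreG.{u, u}) {T : Subgroup G} (D : QFr Z W B T) : False := by
  obtain ⟨s, p⟩ := exists_pa h
  refine Fin.false_of_qfr h p (fun l => fin2 l) hq hML hN (T := T) ?_
  rw [vec2, vec2]
  exact D

/-- **(B)** over `MulG`. -/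
theorem false_of (h : MH S P K' B ZJ L W Z C q) (hML : ML.Final.MLK.{u, u})
    (hN : DefG.NoPreG.{u, u}) {T : Subgroup G} (D : QFr Z W B T) : False :=
  false_of_bg h.mul.bg h.hq hML hN D

/-- **`QFr` at stage `-1`.** -/
theorem qfr_neg (hFF : FFThm.Stmt.{u}) (h : MH S P K' (bau (S : Subgroup G)) (zj (S : Subgroup G)) L W Z C q)
    (hj : ¬ jj (S : Subgroup G) ≤ o2 P) (hW : W 0 ≤ PG.NN Z (Z 0)) :
    QFr Z W (bau (S : Subgroup G)) ((S : Subgroup G) ⊓ centralizer (Z 0 : Set G)) := by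
  obtain ⟨s, p⟩ := exists_pa h.mul.bg
  obtain ⟨F, _, _, _, hF, ⟨N⟩⟩ := h.mul.nat
  have hJ : HypJ S P := ⟨h.mul.hyp.toHypN, hj⟩
  obtain ⟨L', W', Z', C', A', -, -, -, -, h'⟩ := Line.exists_nat hJ le_rfl N.toNatK
  rw [hF] at h'
  have hq : 2 < q := lt_of_lt_of_le (by norm_num) h.hq
  have h1 : QFr ![Z 0, Z 1] ![W 0, W 1] (bau (S : Subgroup G)) ((S : Subgroup G) ⊓ centralizer (Z 0 : Set G)) := by
    refine OfBg.qfr_of h.mul.bg p (fun l => fin2 l) (h.ti 0) h.nonloc ?_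
      (OfNeg.genU h.mul.bg h' hq p (fun l => fin2 l) (h.ti 0) hFF)
      (OfNeg.fixU h.mul.bg h' hq p.ne (h.ti 0) h.nonloc)
    rw [vec2]
    exact hW
  rwa [vec2, vec2] at h1

end

section sockets

variable (K : Cls.{u}) (H : FrP.{u})

/-- the frame `QFr` over `MulG` and `H` -/
def QInG : Prop :=
  ∀ (G : Type u) [Group G] [Finite G], K G → ∀ (S : Sylow 2 G) (P K' B ZJ : Subgroup G)
    (L W Z C : Fin 2 → Subgroup G) (q : ℕ), H G S P → MH S P K' B ZJ L W Z C q → (∀ i, W i ≤ PG.NN Z (Z i)) →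
      ∃ T : Subgroup G, QFr Z W B T

/-- the half `Top S P K₀` of `QInG` -/
def QTopG : Prop :=
  ∀ (G : Type u) [Group G] [Finite G], K G → ∀ (S : Sylow 2 G) (P K₀ : Subgroup G)
    (L W Z C : Fin 2 → Subgroup G) (q : ℕ), H G S P → Top S P K₀ →
      MH S P (nxt (S : Subgroup G) K₀) ((S : Subgroup G) ⊓ centralizer (zc (nxt (S : Subgroup G) K₀) : Set G))
        (zc (nxt (S : Subgroup G) K₀)) L W Z C q → (∀ i, W i ≤ PG.NN Z (Z i)) →
      ∃ T : Subgroup G, QFr Z W ((S : Subgroup G) ⊓ centralizer (zc (nxt (S : Subgroup G) K₀) : Set G)) T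

/-- **(B)** over `MulG` and `H`: `W i ≤ N_i` is impossible. -/
def BInG : Prop :=
  ∀ (G : Type u) [Group G] [Finite G], K G → ∀ (S : Sylow 2 G) (P K' B ZJ : Subgroup G)
    (L W Z C : Fin 2 → Subgroup G) (q : ℕ), H G S P → MH S P K' B ZJ L W Z C q →
      (∀ i, W i ≤ PG.NN Z (Z i)) → False

variable {K} {H}

theorem qInG_of (hFF : FFThm.Stmt.{u}) (hT : QTopG K H) : QInG K H := by
  intro G _ _ hG S P K' B ZJ L W Z C q hH h hW
  have hs := h.mul.stg
  cases hs with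
  | neg hj => exact ⟨_, qfr_neg hFF h hj (hW 0)⟩
  | lev K₀ hK => exact hT G hG S P K₀ L W Z C q hH hK h hW

/-- **Row (7), (B), over `MulG`.** -/
theorem kInG_of (hML : ML.Final.MLK.{u, u}) (hE : ML.Ex.Two.Ext.{u, u}) (hQ : QInG K H) : BInG K H := by
  intro G _ _ hG S P K' B ZJ L W Z C q hH h hW
  obtain ⟨T, D⟩ := hQ G hG S P K' B ZJ L W Z C q hH h hW
  exact false_of h hML (EndG.noPreG hML hE) D

end sockets

end Cfsg.Agent.Omega.KL.QF.KInG
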