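import Cfsg.Agent.Omega.KL.QF.Frame
import Cfsg.Agent.Omega.KL.Q.ExG
import Cfsg.Agent.Omega.KL.Q.DefG
import Cfsg.Agent.Omega.NOThreeL.AdjTransv

/-!
# CARD #18791 `[H]` (iii), `q ≥ 4`, all levels: from the frame to the module (helper49; helper381 #22723 (Gq))

`C = C_G(Z 0)` acts on `M = N₀ / Z 0`, `N₀ = NN Z (Z 0)`; `X = Z 1 ~`, `Y = U 0 / Z 0` (`V = U 1 ~`).

* `QFx Z U B T` : `QFr`, `|U 0 : Z 0| ≥ 4`, `H₀ = C_G(Z 0) N_{H₀}(Z 1)`, `O₂(H₀ / C(N₀)) = 1`;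
* **`QFx.preG`** : the frame and an exact group give `PreG`, the input of the abstract half (`KL/Q/DefG.lean`).
-/

set_option autoImplicit false
set_option linter.unusedSectionVars false
set_option maxHeartbeats 400000

namespace Cfsg.Agent.Omega.KL.QF

open Subgroup Cfsg Cfsg.Agent.ZN Cfsg.Agent.Omega.MinPar Cfsg.Agent.Omega.OM.PG
open Cfsg.Agent.ClassTwoFusion.Quad Cfsg.Agent.Omega.ML.MinFrame
open Cfsg.Agent.Omega.KL.Q.Def (nrm mem_nrm)
open Cfsg.Agent.Omega.KL.Q.DefG (PreG gen_of_orb)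
open Cfsg.Agent.Omega.OM.PG.Peel (Exa)
open Cfsg.Agent.ZN.ChoiceSit (Syl syl_not_dvd)
open Cfsg.Agent.MinSimple.MinParabolic (IsMinPar)
open Cfsg.Agent.MinSimple.VModule (o2_isPGroup)
open Cfsg.Agent.Omega.NoFF.Basic (conj_conj mem_conj conj_le_iff conj_le_centralizer comm_symm comm_mono)
open Cfsg.Agent.Omega.NOThreeL.Pair (conj_eq_of_mem)
open scoped Pointwise

universe u v

variable {G : Type u} [Group G]

/-! ### Tools (copied from `KL/Plug.lean`) -/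

/-- minimal parabolics of a subgroup -/
theorem minPar_map {C T : Subgroup G} (hTC : T ≤ C) {P : Subgroup C} (hP : IsMinPar (T.subgroupOf C) P) :
    IsMinPar T (P.map C.subtype) := by
  have hTP : T ≤ P.map C.subtype := fun t ht => ⟨⟨t, hTC ht⟩, hP.le (mem_subgroupOf.2 ht), rfl⟩
  refine ⟨hTP, fun h => hP.not_le fun p hp => ?_, ?_⟩
  · have h1 := h (mem_map_of_mem C.subtype hp)
    rw [mem_normalizer_iff] at h1 ⊢
    exact fun t => h1 t
  · obtain ⟨M, hMP, hM⟩ := hP.exists_max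
    refine ⟨M.map C.subtype, (map_lt_map_iff_of_injective C.subtype_injective).2 hMP, fun K hTK hKP => ?_⟩
    have hKC : K ≤ C := hKP.le.trans (map_subtype_le P)
    have e : (K.subgroupOf C).map C.subtype = K := by rw [subgroupOf_map_subtype, inf_eq_left.2 hKC]
    rw [← e] at hKP ⊢
    refine map_mono (hM _ ?_ ((map_lt_map_iff_of_injective C.subtype_injective).1 hKP))
    exact fun t ht => mem_subgroupOf.2 (hTK (mem_subgroupOf.1 ht))

/-- `O₂` of a subgroup of `C` -/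
theorem sub_o2 [Finite G] {C S B : Subgroup G} {S' : Subgroup C} (hS : ∀ c : C, c ∈ S' ↔ (c : G) ∈ S) (hB : B ≤ o2 S) :
    B.subgroupOf C ≤ o2 S' := by
  have h1 : B.subgroupOf C ≤ (o2 S).subgroupOf C := fun b hb => mem_subgroupOf.2 (hB (mem_subgroupOf.1 hb))
  refine h1.trans (MinSimple.VModule.le_o2 (fun c hc => (hS c).2 (o2_le _ (mem_subgroupOf.1 hc)))
    ((o2_isPGroup S).comap_of_injective C.subtype C.subtype_injective) fun s hs => ?_)
  have h2 := MinSimple.VModule.le_normalizer_o2 S ((hS s).1 hs)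
  rw [mem_normalizer_iff] at h2 ⊢
  exact fun t => h2 t

/-! ### The frame -/

/-- the frame and the three facts on `N₀` -/
structure QFx (Z U : Fin 2 → Subgroup G) (B T : Subgroup G) : Prop extends QFr Z U B T where
  four : 4 ≤ (Z 0).relIndex (U 0)
  adjC : ∀ u, Adj Z (Z 0) u → ∃ c ∈ centralizer (Z 0 : Set G), u = MulAut.conj c • Z 1
  core0 : ∀ J : Subgroup G, J ≤ HH (Z 0) → HH (Z 0) ≤ normalizer (J : Set G) →
    (∀ y ∈ J, y ^ 2 ∈ centralizer (NN Z (Z 0) : Set G)) → J ≤ centralizer (NN Z (Z 0) : Set G)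

namespace QFr

variable {Z U : Fin 2 → Subgroup G} {B T : Subgroup G} (D : QFr Z U B T)

include D

theorem Z1ne : Z 1 ≠ ⊥ := by
  intro h
  obtain ⟨s, -, h1, -, -⟩ := D.swap
  apply D.ne
  rw [← h1, h, Subgroup.smul_bot]

/-- some minimal parabolic moves `Z 1` -/
theorem exists_mv [Finite G] (adjC : ∀ u, Adj Z (Z 0) u → ∃ c ∈ centralizer (Z 0 : Set G), u = MulAut.conj c • Z 1) :
    ∃ R : Subgroup G, IsMinPar T R ∧ R ≤ centralizer (Z 0 : Set G) ∧ ¬ R ≤ normalizer (Z 1 : Set G) := by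
  by_contra hcon
  push Not at hcon
  have h1 : centralizer (Z 0 : Set G) ≤ normalizer (Z 1 : Set G) := by
    rw [← Cfsg.Agent.MinSimple.MinParabolic.sup_iSup_eq D.TC]
    refine sup_le ((le_inf inf_le_left inf_le_right).trans (D.nT.trans inf_le_left)) (iSup_le fun R => ?_)
    exact hcon R R.2.1 R.2.2
  have h2 : NN Z (Z 0) ≤ Z 1 := by
    refine sSup_le fun u hu => ?_
    obtain ⟨c, hc, rfl⟩ := adjC u hu
    exact (conj_eq_of_mem (h1 hc)).le
  apply D.ne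
  rw [eq_bot_iff, ← D.inf]
  exact le_inf D.ZU ((D.Z0N.trans h2).trans D.ZU1)

end QFr

namespace QFx

variable {Z U : Fin 2 → Subgroup G} {B T : Subgroup G} (D : QFx Z U B T)

include D

/-- the kernel of `C_G(Z 0)` on `N₀ / Z 0` is `C(N₀)` -/
theorem ker_le {c : G} (hc : c ∈ centralizer (Z 0 : Set G)) (h : ∀ n ∈ NN Z (Z 0), c * n * c⁻¹ * n⁻¹ ∈ Z 0) :
    c ∈ centralizer (NN Z (Z 0) : Set G) := by
  have hZn : centralizer (Z 0 : Set G) ≤ normalizer (Z 0 : Set G) := centralizer_le_normalizer _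
  let J : Subgroup G :=
    { carrier := {g | g ∈ centralizer (Z 0 : Set G) ∧ ∀ w ∈ NN Z (Z 0), g * w * g⁻¹ * w⁻¹ ∈ Z 0}
      one_mem' := ⟨one_mem _, fun w _ => by simp⟩
      mul_mem' := by
        rintro a b ⟨ha, ha'⟩ ⟨hb, hb'⟩
        refine ⟨mul_mem ha hb, fun w hw => ?_⟩
        have e : a * b * w * (a * b)⁻¹ * w⁻¹ = (a * (b * w * b⁻¹ * w⁻¹) * a⁻¹) * (a * w * a⁻¹ * w⁻¹) := by group
        rw [e]
        exact mul_mem ((mem_normalizer_iff.1 (hZn ha) _).1 (hb' w hw)) (ha' w hw)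
      inv_mem' := by
        rintro a ⟨ha, ha'⟩
        refine ⟨inv_mem ha, fun w hw => ?_⟩
        have e : a⁻¹ * w * a⁻¹⁻¹ * w⁻¹ = a⁻¹ * (a * w * a⁻¹ * w⁻¹)⁻¹ * a⁻¹⁻¹ := by group
        rw [e]
        exact (mem_normalizer_iff.1 (hZn (inv_mem ha)) _).1 (inv_mem (ha' w hw)) }
  refine D.core0 J (fun x hx => hZn hx.1) ?_ ?_ (⟨hc, h⟩ : c ∈ J)
  · have key : ∀ g ∈ HH (Z 0), ∀ k ∈ J, g * k * g⁻¹ ∈ J := by
      rintro g hg k ⟨hk, hk'⟩
      refine ⟨?_, fun x hx => ?_⟩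
      · have h1 := NO3L.LemP.normalizer_le_normalizer_cent (Z 0) hg
        exact (mem_normalizer_iff.1 h1 k).1 hk
      · have h1 : g⁻¹ * x * g ∈ NN Z (Z 0) := by
          have := (mem_normalizer_iff.1 (inv_mem (PP.HH_le_NN _ hg)) x).1 hx
          rwa [inv_inv] at this
        have h2 := hk' _ h1
        have e : g * k * g⁻¹ * x * (g * k * g⁻¹)⁻¹ * x⁻¹ = g * (k * (g⁻¹ * x * g) * k⁻¹ * (g⁻¹ * x * g)⁻¹) * g⁻¹ := by
          group
        rw [e]
        exact (mem_normalizer_iff.1 hg _).1 h2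
    intro g hg
    rw [mem_normalizer_iff]
    intro k
    refine ⟨key g hg k, fun h => ?_⟩
    have := key g⁻¹ (inv_mem hg) _ h
    have e : g⁻¹ * (g * k * g⁻¹) * g⁻¹⁻¹ = k := by group
    rwa [e] at this
  · rintro y ⟨hy, hy'⟩
    refine mem_centralizer_iff.2 fun n hn => ?_
    have h1 := hy' n hn
    have h2 : y * (y * n * y⁻¹ * n⁻¹) * y⁻¹ = y * n * y⁻¹ * n⁻¹ := D.cz h1 hy
    have h3 := D.Nsq (D.Z0N h1)
    have h4 : y * y * n * y⁻¹ * y⁻¹ = n := by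
      calc y * y * n * y⁻¹ * y⁻¹ = (y * (y * n * y⁻¹ * n⁻¹) * y⁻¹) * (y * n * y⁻¹ * n⁻¹) * n := by group
        _ = n := by rw [h2, h3, one_mul]
    calc n * y ^ 2 = y * y * n * y⁻¹ * y⁻¹ * y ^ 2 := by rw [h4]
      _ = y ^ 2 * n := by rw [pow_two]; group

/-- **the input (Gq) from the frame** -/
theorem preG [Finite G] (hK : IsKGroup (centralizer (Z 0 : Set G))) {A : Subgroup G} (hA2 : ∀ a ∈ A, a * a = 1)
    (hAO : A ≤ o2 (centralizer ((Z 0 ⊔ Z 1 : Subgroup G) : Set G))) (hAU : A ≤ o2 (centralizer (U 0 : Set G)))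
    (hEx : Exa (NN Z (Z 0)) A) (hAn : ¬ A ≤ centralizer (NN Z (Z 0) : Set G)) :
    ∃ (M : Type u) (_ : Group M) (_ : Finite M) (_ : MulDistribMulAction (centralizer (Z 0 : Set G)) M)
      (X Y : Subgroup M),
      PreG (T.subgroupOf (centralizer (Z 0 : Set G))) (A.subgroupOf (centralizer (Z 0 : Set G))) X Y := by
  set C : Subgroup G := centralizer (Z 0 : Set G) with hC
  set N : Subgroup G := NN Z (Z 0) with hN
  have hCN : C ≤ normalizer (N : Set G) := D.CN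
  have hCZ : C ≤ normalizer (Z 0 : Set G) := centralizer_le_normalizer _
  have hNC : N ≤ C := D.NC
  have hTC : T ≤ C := D.TC
  have hAC : A ≤ C := hAO.trans ((o2_le _).trans (centralizer_le (SetLike.coe_subset_coe.2 le_sup_left)))
  have hnor : ((Z 0).subgroupOf N).Normal := normal_subgroupOf_of_le_normalizer (hNC.trans hCZ)
  let _ := ML.Final.conjAct hCN hCZ
  let mk : N →* N ⧸ (Z 0).subgroupOf N := QuotientGroup.mk' ((Z 0).subgroupOf N)
  have hmk : Function.Surjective mk := QuotientGroup.mk'_surjective _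
  have hmem : ∀ (g : C) (n : N), (g : G) * n * (g : G)⁻¹ ∈ N := fun g n =>
    (mem_normalizer_iff.1 (hCN g.2) n).1 n.2
  have hsm : ∀ (g : C) (n : N), g • mk n = mk ⟨(g : G) * n * (g : G)⁻¹, hmem g n⟩ := fun _ _ => rfl
  have hone : ∀ a b : N, mk a = mk b ↔ (a : G) * (b : G)⁻¹ ∈ Z 0 := by
    intro a b
    rw [← mul_inv_eq_one, ← map_inv, ← map_mul, ← MonoidHom.mem_ker, QuotientGroup.ker_mk']
    exact Iff.rfl
  have hfix : ∀ (g : C) (n : N), g • mk n = mk n ↔ (g : G) * n * (g : G)⁻¹ * (n : G)⁻¹ ∈ Z 0 := by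
    intro g n
    rw [hsm, hone]
  have hnZ : ∀ K ≤ N, K ≤ normalizer (Z 0 : Set G) := fun K hK => hK.trans (hNC.trans hCZ)
  -- images
  have him : ∀ K ≤ N, ∀ n : N, mk n ∈ (K.subgroupOf N).map mk ↔ (n : G) ∈ Z 0 ⊔ K := by
    intro K hKN n
    constructor
    · rintro ⟨k, hk, hkn⟩
      have h1 := (hone k n).1 hkn
      have e : (n : G) = ((k : G) * (n : G)⁻¹)⁻¹ * k := by group
      rw [e]
      exact mul_mem (inv_mem (mem_sup_left h1)) (mem_sup_right (mem_subgroupOf.1 hk))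
    · intro h
      obtain ⟨z, hz, k, hk, hzk⟩ := OM.KTwo.exists_mul_of_mem_sup (hnZ K hKN) h
      refine ⟨⟨k, hKN hk⟩, mem_subgroupOf.2 hk, (hone _ _).2 ?_⟩
      change k * (n : G)⁻¹ ∈ Z 0
      have e : k * (n : G)⁻¹ = z⁻¹ := by rw [hzk]; group
      rw [e]
      exact inv_mem hz
  have hsupN : ∀ K ≤ N, Z 0 ⊔ K ≤ N := fun K hK => sup_le D.Z0N hK
  have hnrm : ∀ K ≤ N, ∀ c : C, c ∈ nrm C ((K.subgroupOf N).map mk) ↔
      (c : G) ∈ normalizer ((Z 0 ⊔ K : Subgroup G) : Set G) := by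
    intro K hKN c
    rw [mem_nrm, mem_normalizer_iff]
    constructor
    · intro h g
      by_cases hg : g ∈ N
      · have h1 := h (mk ⟨g, hg⟩)
        rw [hsm, him K hKN, him K hKN] at h1
        exact h1.symm
      · refine ⟨fun h' => absurd (hsupN K hKN h') hg, fun h' => absurd ?_ hg⟩
        exact (mem_normalizer_iff.1 (hCN c.2) g).2 (hsupN K hKN h')
    · intro h m
      obtain ⟨n, rfl⟩ := hmk m
      rw [hsm, him K hKN, him K hKN]
      exact (h n).symm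
  have hnrm' : ∀ K ≤ N, ∀ c : C, (c : G) ∈ normalizer (K : Set G) → c ∈ nrm C ((K.subgroupOf N).map mk) := by
    intro K hKN c hc
    rw [hnrm K hKN]
    refine (ThmG.norm_sup (K := zpowers (c : G)) ?_ ?_) (mem_zpowers _)
    · rw [zpowers_le]; exact hCZ c.2
    · rw [zpowers_le]; exact hc
  have hZU : Z 0 ⊔ U 0 = U 0 := sup_eq_right.2 D.ZU
  set X : Subgroup (N ⧸ (Z 0).subgroupOf N) := ((Z 1).subgroupOf N).map mk with hX
  set Y : Subgroup (N ⧸ (Z 0).subgroupOf N) := ((U 0).subgroupOf N).map mk with hY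
  set V : Subgroup (N ⧸ (Z 0).subgroupOf N) := ((U 1).subgroupOf N).map mk with hV
  -- the kernel
  have hker : ∀ c : C, (∀ m : N ⧸ (Z 0).subgroupOf N, c • m = m) ↔ (c : G) ∈ centralizer (N : Set G) := by
    intro c
    constructor
    · intro h
      exact D.ker_le c.2 fun n hn => (hfix c ⟨n, hn⟩).1 (h _)
    · intro h m
      obtain ⟨n, rfl⟩ := hmk m
      rw [hfix, ← mem_centralizer_iff.1 h n n.2, mul_inv_cancel_right, mul_inv_cancel]
      exact one_mem _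
  -- `N_C(T)`
  have hnT : ∀ g ∈ normalizer (T.subgroupOf C : Set C), (g : G) ∈ C ⊓ normalizer (T : Set G) := by
    intro g hg
    refine mem_inf.2 ⟨g.2, ?_⟩
    rw [mem_normalizer_iff]
    intro t
    constructor
    · intro ht
      exact (mem_normalizer_iff.1 hg ⟨t, hTC ht⟩).1 ht
    · intro ht
      have h1 : (g : G)⁻¹ * ((g : G) * t * (g : G)⁻¹) * (g : G)⁻¹⁻¹ ∈ T :=
        (mem_normalizer_iff.1 (inv_mem hg) ⟨(g : G) * t * (g : G)⁻¹, hTC ht⟩).1 ht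
      have e : (g : G)⁻¹ * ((g : G) * t * (g : G)⁻¹) * (g : G)⁻¹⁻¹ = t := by group
      rwa [e] at h1
  -- the index of the fixed space
  have hcvle : (centralizer (A : Set G)).subgroupOf N ≤
      (cv (N ⧸ (Z 0).subgroupOf N) (A.subgroupOf C : Set C)).comap mk := by
    intro n hn a ha
    refine (hfix a n).2 ?_
    have h1 := mem_centralizer_iff.1 (mem_subgroupOf.1 hn) a (mem_subgroupOf.1 ha)
    rw [h1, mul_inv_cancel_right, mul_inv_cancel]
    exact one_mem _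
  have hfxr : fxr C (⊤ : Subgroup (N ⧸ (Z 0).subgroupOf N)) = (centralizer (N : Set G)).subgroupOf C := by
    ext c
    rw [mem_subgroupOf, ← hker]
    exact ⟨fun h m => h m (mem_top m), fun h m _ => h m⟩
  have hle : (cv (N ⧸ (Z 0).subgroupOf N) (A.subgroupOf C : Set C)).index ≤
      (fxr C (⊤ : Subgroup (N ⧸ (Z 0).subgroupOf N))).relIndex (A.subgroupOf C) := by
    rw [hfxr, relIndex_subgroupOf hAC, ← index_comap_of_surjective _ hmk]
    refine (index_antitone hcvle).trans ?_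
    exact hEx.ge
  -- nontrivial vectors of `X`
  have hXel : ∀ m ∈ X, ∃ z : N, (z : G) ∈ Z 1 ∧ mk z = m := by
    rintro m ⟨z, hz, rfl⟩
    exact ⟨z, mem_subgroupOf.1 hz, rfl⟩
  have hYel : ∀ m ∈ Y, ∃ z : N, (z : G) ∈ U 0 ∧ mk z = m := by
    rintro m ⟨z, hz, rfl⟩
    exact ⟨z, mem_subgroupOf.1 hz, rfl⟩
  have hVel : ∀ m ∈ V, ∃ z : N, (z : G) ∈ U 1 ∧ mk z = m := by
    rintro m ⟨z, hz, rfl⟩
    exact ⟨z, mem_subgroupOf.1 hz, rfl⟩
  have hmk1 : ∀ n : N, mk n = 1 ↔ (n : G) ∈ Z 0 := by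
    intro n
    rw [← map_one mk, hone]
    simp
  have hone' : ∀ z : N, mk z ≠ 1 → (z : G) ≠ 1 := by
    intro z h h'
    apply h
    rw [hmk1, h']
    exact one_mem _
  -- the minimal parabolics
  have huni : ∀ R : Subgroup C, IsMinPar (T.subgroupOf C) R → ¬ R ≤ nrm C X →
      IsMinPar T (R.map C.subtype) ∧ R.map C.subtype ≤ C ∧ ¬ R.map C.subtype ≤ normalizer (Z 1 : Set G) := by
    intro R hR hmv
    refine ⟨minPar_map hTC hR, map_subtype_le R, fun h => hmv fun r hr => ?_⟩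
    exact hnrm' _ D.Z1N r (h (mem_map_of_mem C.subtype hr))
  have hVY : V ⊓ Y = ⊥ := by
    rw [eq_bot_iff]
    rintro m ⟨h1, h2⟩
    obtain ⟨a, ha, rfl⟩ := hVel m h1
    obtain ⟨b, hb, hba⟩ := hYel _ h2
    have h3 := (hone b a).1 hba
    have h4 : (a : G) ∈ U 0 ⊓ U 1 := by
      refine mem_inf.2 ⟨?_, ha⟩
      have e : (a : G) = ((b : G) * (a : G)⁻¹)⁻¹ * b := by group
      rw [e]
      exact mul_mem (inv_mem (D.ZU h3)) hb
    rw [D.inf, mem_bot] at h4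
    rw [mem_bot, hmk1, h4]
    exact one_mem _
  have hXV : X ≤ V := map_mono fun a ha => mem_subgroupOf.2 (D.ZU1 (mem_subgroupOf.1 ha))
  refine ⟨N ⧸ (Z 0).subgroupOf N, inferInstance, inferInstance, inferInstance, X, Y, ?_⟩
  refine PreG.mk ?_ ?_ ?_ ?_ ?_ ?_ ?_ ?_ ?_ ?_ ?_ ?_ ?_ ?_ ?_ ?_ ?_ ?_ ?_ hle hK
  · -- sq
    intro m
    obtain ⟨n, rfl⟩ := hmk m
    rw [← map_mul, hmk1]
    have h1 : (n : G) * n = 1 := D.Nsq n.2
    change (n : G) * n ∈ Z 0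
    rw [h1]
    exact one_mem _
  · exact D.T2.comap_of_injective C.subtype C.subtype_injective
  · exact D.odd
  · -- Y4
    have h1 := relIndex_ker ((U 0).subgroupOf N) mk
    rw [QuotientGroup.ker_mk', relIndex_subgroupOf D.U0N] at h1
    rw [hY, ← h1]
    exact D.four
  · -- XY
    rw [eq_bot_iff, ← hVY]
    exact inf_le_inf_right _ hXV
  · -- nX
    intro g hg
    exact hnrm' _ D.Z1N g (D.nT (hnT g hg)).1
  · -- nY
    intro g hg
    exact hnrm' _ D.U0N g (D.nT (hnT g hg)).2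
  · -- tY
    intro t ht m hm
    obtain ⟨z, hz, rfl⟩ := hYel m hm
    exact (hfix t z).2 (D.com t (mem_subgroupOf.1 ht) z hz)
  · -- sX
    intro m hm hm1 g hg
    obtain ⟨z, hz, rfl⟩ := hXel m hm
    have h1 := (hfix g z).1 (MulAction.mem_stabilizer_iff.1 hg)
    exact hnrm' _ D.Z1N g (D.tix hz (hone' z hm1) h1).1
  · -- sY
    intro m hm hm1 g hg
    obtain ⟨z, hz, rfl⟩ := hYel m hm
    have h1 := (hfix g z).1 (MulAction.mem_stabilizer_iff.1 hg)
    exact hnrm' _ D.U0N g (D.tiy g.2 hz (fun h => hm1 ((hmk1 z).2 h)) h1)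
  · -- u1
    rintro R hR m hm hTm ⟨p, hp, hpm⟩ r hr y hy
    obtain ⟨z, hz, rfl⟩ := hXel m hm
    obtain ⟨w, hw, rfl⟩ := hYel y hy
    have hz1 : (z : G) ≠ 1 := by
      intro h
      apply hpm
      have h1 : mk z = 1 := by rw [hmk1, h]; exact one_mem _
      rw [h1, smul_one]
    refine (hfix r w).2 ?_
    refine D.u1 (minPar_map hTC hR) (map_subtype_le R) hz ?_ (mem_map_of_mem C.subtype hp) ?_ _
      (mem_map_of_mem C.subtype hr) _ hw
    · intro t ht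
      exact (D.tix hz hz1 ((hfix ⟨t, hTC ht⟩ z).1 (hTm _ (mem_subgroupOf.2 ht)))).2
    · intro h
      apply hpm
      rw [hfix]
      have h' : (p : G) * z * (p : G)⁻¹ = z := h
      rw [h', mul_inv_cancel]
      exact one_mem _
  · -- uni
    intro R hR hmv
    obtain ⟨h1, h2, h3⟩ := huni R hR hmv
    obtain ⟨h4, -, h5, -⟩ := D.uni _ h1 h2 h3
    refine ⟨?_, V, hXV, fun r hr => hnrm' _ D.U1N r (h4 (mem_map_of_mem C.subtype hr)), hVY, ?_⟩
    · intro r hr y hy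
      obtain ⟨w, hw, rfl⟩ := hYel y hy
      exact (hfix r w).2 (D.uni2 h1 h2 h3 _ (mem_map_of_mem C.subtype hr) _ hw)
    · intro v hv w hw hv1 hw1
      obtain ⟨a, ha, rfl⟩ := hVel v hv
      obtain ⟨b, hb, rfl⟩ := hVel w hw
      obtain ⟨_, ⟨r, hr, rfl⟩, hrab⟩ := h5 a ha (hone' a hv1) b hb (hone' b hw1)
      refine ⟨r, hr, ?_⟩
      rw [hsm]
      exact congrArg mk (Subtype.ext hrab)
  · -- ex
    obtain ⟨z, hz, hz1, hTz⟩ := NOThreeL.AdjTransv.exists_fixed D.T2 D.Z1ne (fun z hz => D.Nsq (D.Z1N hz))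
      fun t ht z hz => (mem_normalizer_iff.1 (D.T1 ht) z).1 hz
    refine ⟨mk ⟨z, D.Z1N hz⟩, ⟨_, mem_subgroupOf.2 hz, rfl⟩, fun h => hz1 ?_, fun t ht => ?_⟩
    · have h2 : z ∈ Z 0 ⊓ Z 1 := ⟨(hmk1 _).1 h, hz⟩
      rwa [D.inf01, mem_bot] at h2
    · rw [hfix]
      change (t : G) * z * (t : G)⁻¹ * z⁻¹ ∈ Z 0
      rw [hTz _ (mem_subgroupOf.1 ht), mul_inv_cancel]
      exact one_mem _
  · -- gen
    intro m hm hm1 _ U₀ hmU _ hU₀
    refine gen_of_orb ?_ hmU hU₀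
    obtain ⟨z, hz, rfl⟩ := hXel m hm
    obtain ⟨R, hR, hRC, hRm⟩ := D.toQFr.exists_mv D.adjC
    obtain ⟨-, -, h5, -⟩ := D.uni _ hR hRC hRm
    have hVW : ∀ y : N, (y : G) ∈ U 1 → mk y ∈ orb (⊤ : Subgroup C) (mk z) := by
      intro y hy
      by_cases hy1 : (y : G) = 1
      · have h1 : mk y = 1 := by rw [hmk1, hy1]; exact one_mem _
        rw [h1]
        exact one_mem _
      · obtain ⟨r, hr, hrz⟩ := h5 z (D.ZU1 hz) (hone' z hm1) y hy hy1
        have h2 := smul_mem_orb (g := (⟨r, hRC hr⟩ : C)) (mem_top _) (mem_orb_self (⊤ : Subgroup C) (mk z))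
        rw [hsm] at h2
        have e : (⟨r * (z : G) * r⁻¹, hmem ⟨r, hRC hr⟩ z⟩ : N) = y := Subtype.ext hrz
        exact e ▸ h2
    set W : Subgroup G := ((orb (⊤ : Subgroup C) (mk z)).comap mk).map N.subtype with hW
    have hWmem : ∀ a : N, (a : G) ∈ W ↔ mk a ∈ orb (⊤ : Subgroup C) (mk z) := by
      intro a
      constructor
      · rintro ⟨b, hb, hba⟩
        rw [← (Subtype.ext hba : b = a)]
        exact hb
      · exact fun ha => ⟨a, ha, rfl⟩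
    have h1 : N ≤ W := by
      rw [hN]
      refine sSup_le fun u hu => ?_
      obtain ⟨c, hc, rfl⟩ := D.adjC u hu
      rintro _ ⟨x, hx, rfl⟩
      have h2 := smul_mem_orb (g := (⟨c, hc⟩ : C)) (mem_top _) (hVW ⟨x, D.Z1N hx⟩ (D.ZU1 hx))
      rw [hsm] at h2
      exact (hWmem _).2 h2
    rw [eq_top_iff]
    intro m _
    obtain ⟨n, rfl⟩ := hmk m
    exact (hWmem n).1 (h1 n.2)
  · -- pair
    intro ζ hζ O hO hYO hc m hm
    obtain ⟨u, hu, rfl⟩ := hYel m hm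
    have hζn := hnT ζ hζ
    -- `[ζ, t]` centralises `U 0`
    have key : ∀ t ∈ T, ∀ x ∈ U 0, ((ζ : G) * t * (ζ : G)⁻¹ * t⁻¹) * x = x * ((ζ : G) * t * (ζ : G)⁻¹ * t⁻¹) := by
      intro t ht x hx
      set c : C := ζ * ⟨t, hTC ht⟩ * ζ⁻¹ * (⟨t, hTC ht⟩ : C)⁻¹ with hcd
      have hcG : (c : G) = (ζ : G) * t * (ζ : G)⁻¹ * t⁻¹ := rfl
      rw [← hcG]
      have hcO : ∀ w ∈ O, c • w = w := fun w hw => hc ⟨t, hTC ht⟩ (mem_subgroupOf.2 ht) w hw
      let K : Subgroup N := (centralizer {(c : G)}).subgroupOf N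
      have hOK : O ⊆ K.map mk := by
        intro w hw
        obtain ⟨g, m, hm, rfl⟩ := hO w hw
        obtain ⟨z, hz, rfl⟩ := hXel m hm
        have h1 := hcO _ hw
        rw [hsm, hfix] at h1
        have h1' : (c : G) * ((g : G) * z * (g : G)⁻¹) * (c : G)⁻¹ * ((g : G) * z * (g : G)⁻¹)⁻¹ ∈ Z 0 := h1
        by_cases hz1 : (z : G) = 1
        · have h2 : mk z = 1 := by rw [hmk1, hz1]; exact one_mem _
          rw [h2, smul_one]
          exact one_mem _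
        have h2 : ((g : G)⁻¹ * c * g) * z * ((g : G)⁻¹ * c * g)⁻¹ * (z : G)⁻¹ ∈ Z 0 := by
          have h3 := D.cz h1' (inv_mem g.2)
          rw [← h3] at h1'
          have e : (g : G)⁻¹ * ((c : G) * ((g : G) * z * (g : G)⁻¹) * (c : G)⁻¹ * ((g : G) * z * (g : G)⁻¹)⁻¹) *
              (g : G)⁻¹⁻¹ = ((g : G)⁻¹ * c * g) * z * ((g : G)⁻¹ * c * g)⁻¹ * (z : G)⁻¹ := by group
          rwa [e] at h1'
        have h3 := (D.tix hz hz1 h2).2
        rw [hsm]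
        refine ⟨_, mem_subgroupOf.2 (mem_centralizer_singleton_iff.2 ?_), rfl⟩
        change (g : G) * z * (g : G)⁻¹ * c = c * ((g : G) * z * (g : G)⁻¹)
        calc (g : G) * z * (g : G)⁻¹ * c = g * (((g : G)⁻¹ * c * g) * z * ((g : G)⁻¹ * c * g)⁻¹) * (g : G)⁻¹ * c := by
              rw [h3]
          _ = c * ((g : G) * z * (g : G)⁻¹) := by group
      have hYK : Y ≤ K.map mk := hYO.trans ((closure_le _).2 hOK)
      obtain ⟨k, hk, hkx⟩ := hYK (⟨⟨x, D.U0N hx⟩, mem_subgroupOf.2 hx, rfl⟩ : mk ⟨x, D.U0N hx⟩ ∈ Y)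
      have h1 := (hone k _).1 hkx
      have h2 : x ∈ centralizer {(c : G)} := by
        have e : x = ((k : G) * x⁻¹)⁻¹ * k := by group
        rw [e]
        refine mul_mem (inv_mem ?_) (mem_subgroupOf.1 hk)
        exact mem_centralizer_singleton_iff.2 (mem_centralizer_iff.1 c.2 _ h1)
      exact (mem_centralizer_singleton_iff.1 h2).symm
    rw [hfix]
    set w : G := (ζ : G) * u * (ζ : G)⁻¹ with hw
    have hwU : w ∈ U 0 := (mem_normalizer_iff.1 (D.nT hζn).2 _).1 hu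
    refine D.fixU _ (mul_mem hwU (inv_mem hu)) fun t ht => ?_
    have h1 := D.com t ht u hu
    set z := t * (u : G) * t⁻¹ * (u : G)⁻¹ with hz
    have htw : t * w * t⁻¹ ∈ U 0 := (mem_normalizer_iff.1 (D.TU0 ht) _).1 hwU
    -- `t w t⁻¹ = z w`
    have h2 : t * w * t⁻¹ = z * w := by
      have h3 := key t ht _ htw
      have h4 := D.cz h1 ζ.2
      calc t * w * t⁻¹ = ((ζ : G) * t * (ζ : G)⁻¹ * t⁻¹)⁻¹ *
            (((ζ : G) * t * (ζ : G)⁻¹ * t⁻¹) * (t * w * t⁻¹)) := by group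
        _ = ((ζ : G) * t * (ζ : G)⁻¹ * t⁻¹)⁻¹ * ((t * w * t⁻¹) * ((ζ : G) * t * (ζ : G)⁻¹ * t⁻¹)) := by rw [h3]
        _ = (((ζ : G) * t * (ζ : G)⁻¹ * t⁻¹)⁻¹ * (t * w * t⁻¹)) * ((ζ : G) * t * (ζ : G)⁻¹ * t⁻¹) := by group
        _ = z * w := ?_
      have h3' : ((ζ : G) * t * (ζ : G)⁻¹ * t⁻¹) * (t * w * t⁻¹) * ((ζ : G) * t * (ζ : G)⁻¹ * t⁻¹)⁻¹ =
          t * w * t⁻¹ := by rw [h3, mul_inv_cancel_right]
      have h5 : ((ζ : G) * t * (ζ : G)⁻¹ * t⁻¹) * (t * w * t⁻¹) * ((ζ : G) * t * (ζ : G)⁻¹ * t⁻¹)⁻¹ =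
          (ζ : G) * (t * u * t⁻¹) * (ζ : G)⁻¹ := by rw [hw]; group
      have h6 : (ζ : G) * (t * u * t⁻¹) * (ζ : G)⁻¹ = z * w := by
        calc (ζ : G) * (t * u * t⁻¹) * (ζ : G)⁻¹ = ((ζ : G) * z * (ζ : G)⁻¹) * ((ζ : G) * u * (ζ : G)⁻¹) := by
              rw [hz]; group
          _ = z * w := by rw [h4]
      rw [← h6, ← h5, h3']
      calc ((ζ : G) * t * (ζ : G)⁻¹ * t⁻¹)⁻¹ * (t * w * t⁻¹) * ((ζ : G) * t * (ζ : G)⁻¹ * t⁻¹)
          = ((ζ : G) * t * (ζ : G)⁻¹ * t⁻¹)⁻¹ * ((t * w * t⁻¹) * ((ζ : G) * t * (ζ : G)⁻¹ * t⁻¹)) := by group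
        _ = t * w * t⁻¹ := by rw [← h3]; group
    have hzN := D.Z0N h1
    have hwN := D.U0N hwU
    calc t * (w * (u : G)⁻¹) * t⁻¹ = (t * w * t⁻¹) * (u : G)⁻¹ * (t * u * t⁻¹ * (u : G)⁻¹)⁻¹ := by group
      _ = z * w * (u : G)⁻¹ * z⁻¹ := by rw [h2, ← hz]
      _ = w * (u : G)⁻¹ := by
        rw [mul_assoc z, D.cm hzN (mul_mem hwN (inv_mem (D.U0N hu))), mul_inv_cancel_right]
  · -- el
    intro a ha
    exact Subtype.ext (hA2 a (mem_subgroupOf.1 ha))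
  · -- Ax
    refine sub_o2 (S := C ⊓ normalizer ((Z 0 ⊔ Z 1 : Subgroup G) : Set G)) (fun c => ?_) ?_
    · rw [hnrm _ D.Z1N]
      exact ⟨fun h => ⟨c.2, h⟩, fun h => h.2⟩
    · refine hAO.trans (MinSimple.VModule.le_o2 ?_ (o2_isPGroup _) ?_)
      · exact (o2_le _).trans (le_inf (centralizer_le (SetLike.coe_subset_coe.2 le_sup_left)) (centralizer_le_normalizer _))
      · exact (inf_le_right.trans (NO3L.LemP.normalizer_le_normalizer_cent _)).trans
          (Cfsg.Agent.Omega.normalizer_le_normalizer_o2' _)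
  · -- Ay
    refine sub_o2 (S := C ⊓ normalizer (U 0 : Set G)) (fun c => ?_) ?_
    · rw [hnrm _ D.U0N, hZU]
      exact ⟨fun h => ⟨c.2, h⟩, fun h => h.2⟩
    · refine hAU.trans (MinSimple.VModule.le_o2 ?_ (o2_isPGroup _) ?_)
      · exact (o2_le _).trans (le_inf (centralizer_le (SetLike.coe_subset_coe.2 D.ZU)) (centralizer_le_normalizer _))
      · exact (inf_le_right.trans (NO3L.LemP.normalizer_le_normalizer_cent _)).trans
          (Cfsg.Agent.Omega.normalizer_le_normalizer_o2' _)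
  · -- mv
    by_contra hcon
    push Not at hcon
    apply hAn
    intro a ha
    exact (hker ⟨a, hAC ha⟩).1 fun m => hcon ⟨a, hAC ha⟩ (mem_subgroupOf.2 ha) m

end QFx

end Cfsg.Agent.Omega.KL.QF
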