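import Cfsg.Agent.Omega.KL.Q.ExQF
import Cfsg.Agent.Omega.KL.QF.Plug

/-!
# `(E)`, `k = 2`, `q ≥ 4`, `V_i ≤ N_i`: the assembly over `Bg` (every level)

* `frattini` : `N(Z i) = C(Z i) N_{N(Z i)}(T)`; `adjC` : the neighbours of `Z i` are the conjugates of `Z j` under `C(Z i)`;
* `qfx_of` : helper49's `QFx` from `Bg` and `QFr`;
* `false_of_qfr` : **`Bg`, `QFr`, `MLK`, `NoPreG` give `False`**.
-/

set_option autoImplicit false
set_option linter.unusedSectionVars false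

namespace Cfsg.Agent.Omega.KL.QF.Fin

open Subgroup Cfsg Cfsg.Agent.ZN.ChoiceBase
open Cfsg.Agent.ZN (jj zj bau zc zl o2)
open Cfsg.Agent.ZN.ChoiceSit (Syl exists_syl syl_conj syl_not_dvd)
open Cfsg.Agent.Omega.OM Cfsg.Agent.Omega.OM.Uni
open Cfsg.Agent.Omega.OM.PG
open Cfsg.Agent.Omega.NO3S.EThree.Frame
open Cfsg.Agent.Omega.KL.Q
open Cfsg.Agent.Omega.MinPar (NonLoc)
open Cfsg.Agent.MinSimple.MinParabolic (IsMinPar)
open scoped Pointwise

universe u

variable {G : Type u} [Group G]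

/-- Frattini -/
theorem frattini [Finite G] {X T : Subgroup G} (hT : Syl T (centralizer (X : Set G))) {g : G}
    (hg : g ∈ normalizer (X : Set G)) : ∃ x ∈ centralizer (X : Set G), x⁻¹ * g ∈ normalizer (T : Set G) := by
  have hcg : cj g (centralizer (X : Set G)) = centralizer (X : Set G) := by
    rw [cj_centralizer, cj_eq_of_mem_normalizer hg]
  have hgT : Syl (cj g T) (centralizer (X : Set G)) := by
    refine ⟨by rw [← hcg]; exact cj_mono g hT.1, isPGroup_cj g hT.2.1, fun R hR hR2 hle => ?_⟩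
    have h3 : cj g⁻¹ R = T := by
      refine hT.2.2 (cj g⁻¹ R) ?_ (isPGroup_cj _ hR2) ?_
      · have := cj_mono g⁻¹ hR
        have e : cj g⁻¹ (centralizer (X : Set G)) = centralizer (X : Set G) := by
          rw [← hcg, cj_inv_cj, hcg]
        rwa [e] at this
      · have := cj_mono g⁻¹ hle
        rwa [cj_inv_cj] at this
    rw [← h3, cj_cj, mul_inv_cancel, cj_one]
  obtain ⟨x, hx, e⟩ := syl_conj hT hgT
  refine ⟨x, hx, ?_⟩
  rw [mem_normalizer_iff_cj, ← cj_cj, ← e, cj_inv_cj]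

/-- TI -/
theorem ti_of_qfr {A X U V B T : Subgroup G} (D : QFr ![A, X] ![U, V] B T) : TI A := by
  intro g hg
  obtain ⟨x, hx, hx1⟩ : ∃ x ∈ cj g A ⊓ A, x ≠ 1 := by
    by_contra hcon
    push Not at hcon
    exact hg ((eq_bot_iff_forall _).2 hcon)
  exact D.ti (cj g A) A ⟨g, rfl⟩ ⟨1, by rw [map_one, one_smul]; rfl⟩ x hx.1 hx.2 hx1

variable [Finite G] {S : Sylow 2 G} {P : Subgroup G} {ι : Type} {B ZJ : Subgroup G}
  {L W Z C : ι → Subgroup G} {q : ℕ} (h : Bg S P B ZJ L W Z C q) {i j : ι} {s : G}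
include h

/-- The neighbours of `Z i` are the conjugates of `Z j` under `C(Z i)`. -/
theorem adjC (hij : i ≠ j) (h2 : ∀ l : ι, l = i ∨ l = j) {T : Subgroup G} (hBT : B ≤ T)
    (hT : Syl T (centralizer (Z i : Set G))) {u : Subgroup G} (hu : Adj ![Z i, Z j] (Z i) u) :
    ∃ c ∈ centralizer (Z i : Set G), u = MulAut.conj c • Z j := by
  obtain ⟨k, hk, rfl⟩ := hu
  have hk' : k ∈ normalizer (Z i : Set G) := mem_normalizer_iff_cj.2 hk.symm
  obtain ⟨x, hx, hn⟩ := frattini hT hk'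
  refine ⟨x, hx, ?_⟩
  have h1 : x⁻¹ * k ∈ normalizer (Z j : Set G) := ExQF.norm_j h hij h2 hT.2.1 hBT
    (mul_mem (inv_mem (centralizer_le_normalizer _ hx)) hk') hn
  have e : cj k (Z j) = cj x (cj (x⁻¹ * k) (Z j)) := by rw [cj_cj, mul_inv_cancel_left]
  rw [cj_eq_of_mem_normalizer h1] at e
  exact e

variable [Finite ι] {T : Subgroup G}

/-- **`QFx` from `Bg` and `QFr`.** -/
theorem qfx_of (p : Pa (S : Subgroup G) W i j s) (h2 : ∀ l : ι, l = i ∨ l = j) (hq : 4 ≤ q)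
    (D : QFr ![Z i, Z j] ![W i, W j] B T) : QFx ![Z i, Z j] ![W i, W j] B T where
  toQFr := D
  four := by
    have h1 : Nat.card (Z i) * (Z i).relIndex (W i) = Nat.card (W i) :=
      Cfsg.Agent.Omega.NO3S.ML.card_mul_relIndex (h.fr.blk i).ZV
    rw [(h.fr.blk i).card] at h1
    have h3 : (Z i).relIndex (W i) = q := Nat.eq_of_mul_eq_mul_left Nat.card_pos h1
    change 4 ≤ (Z i).relIndex (W i)
    rw [h3]
    exact hq
  adjC := fun u hu => adjC h p.ne h2 (D.TB ▸ inf_le_left) D.syl hu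
  core0 := fun _ hJ hn hsq => h.core_sq p hJ hn fun y hy => by
    rw [← pow_two]
    exact hsq y hy

/-- **`V_i ≤ N_i` is impossible (`k = 2`, `q ≥ 4`, every level).** -/
theorem false_of_qfr (p : Pa (S : Subgroup G) W i j s) (h2 : ∀ l : ι, l = i ∨ l = j) (hq : 4 ≤ q)
    (hML : ML.Final.MLK.{u, u}) (hN : DefG.NoPreG.{u, u}) (D : QFr ![Z i, Z j] ![W i, W j] B T) : False := by
  have hnl : NonLoc (normalizer (Z i : Set G)) (normalizer (Z j : Set G)) := D.nonLoc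
  obtain ⟨A, hA, -, hAO, hAU, -, hEx, hAn⟩ := ExQF.exists_ex_of_qfr h p h2 (ti_of_qfr D) hML D
  have hK : IsKGroup (centralizer (Z i : Set G)) := by
    refine h.hyp.ctx.kproper _ fun e => ?_
    exact ExBg.ne_top' h hnl (top_le_iff.1 (e ▸ centralizer_le_normalizer _))
  obtain ⟨M, _, _, _, X, Y, hP⟩ := (qfx_of h p h2 hq D).preG hK
    (fun a ha => by rw [← pow_two]; exact hA.2 a ha) hAO hAU hEx hAn
  exact hN _ _ _ _ _ _ hP

end Cfsg.Agent.Omega.KL.QF.Fin
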