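import Cfsg.Agent.Omega.OM.Lev.Uni

/-!
# FIX-X at a level (#22723 (FIX-X), helper381; helper20)

* `fixX` : `FrL B Q V X ZJ L W Z C A q`, `n ∈ X ∩ Q`, `[n, Q] ≤ Z i` : `n ∈ V`.
-/

set_option autoImplicit false
set_option maxHeartbeats 400000

namespace Cfsg.Agent.Omega.KL.QF.FixX

open Subgroup Cfsg Cfsg.Agent.ZN.ChoiceBase
open Cfsg.Agent.Omega.SQ1.Bau (mem_sup_comm card_sup_comm elem_comm elem_sq)
open Cfsg.Agent.Omega.OM.Uni Cfsg.Agent.Omega.OM.Lev.Uni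
open scoped Pointwise

universe u

variable {G : Type u} [Group G]

/-- the homomorphism `x ↦ [x, e]` on an abelian normal subgroup, counted -/
theorem card_comm [Finite G] {X D R : Subgroup G} {e : G} (hX : ∀ x ∈ X, ∀ y ∈ X, x * y = y * x)
    (he : ∀ x ∈ X, x * e * x⁻¹ * e⁻¹ ∈ X) (hD : D ≤ X) (hR : ∀ r ∈ R, ∃ x ∈ D, x * e * x⁻¹ * e⁻¹ = r) :
    Nat.card R * Nat.card ↥(D ⊓ centralizer {e}) ≤ Nat.card D := by
  classical
  let f : D →* G :=
    { toFun := fun x => (x : G) * e * (x : G)⁻¹ * e⁻¹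
      map_one' := by simp
      map_mul' := by
        intro x y
        have h1 := he y (hD y.2)
        have h2 := hX _ (hD x.2) _ h1
        have h3 := hX _ h1 _ (he x (hD x.2))
        show (x : G) * y * e * ((x : G) * y)⁻¹ * e⁻¹ = (x : G) * e * (x : G)⁻¹ * e⁻¹ * ((y : G) * e * (y : G)⁻¹ * e⁻¹)
        have e1 : (x : G) * y * e * ((x : G) * y)⁻¹ * e⁻¹ =
          (x * ((y : G) * e * (y : G)⁻¹ * e⁻¹)) * (e * (x : G)⁻¹ * e⁻¹) := by group
        rw [e1, h2, ← h3]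
        group }
  have hf : ∀ x : D, f x = (x : G) * e * (x : G)⁻¹ * e⁻¹ := fun x => rfl
  have hker : ∀ x : D, x ∈ f.ker ↔ (x : G) ∈ D ⊓ centralizer {e} := by
    intro x
    rw [MonoidHom.mem_ker, hf, mem_inf, mem_centralizer_singleton_iff, mul_inv_eq_one, mul_inv_eq_iff_eq_mul]
    exact ⟨fun h => ⟨x.2, h⟩, fun h => h.2⟩
  have h1 : Nat.card f.ker = Nat.card ↥(D ⊓ centralizer {e}) :=
    Nat.card_congr
      { toFun := fun x => ⟨x.1, (hker x.1).1 x.2⟩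
        invFun := fun x => ⟨⟨x.1, x.2.1⟩, (hker _).2 x.2⟩
        left_inv := fun x => rfl
        right_inv := fun x => rfl }
  have h2 : Nat.card f.range = f.ker.index := by rw [Subgroup.index_ker]
  have h3 : R ≤ f.range := by
    intro r hr
    obtain ⟨x, hx, e⟩ := hR r hr
    exact ⟨⟨x, hx⟩, e⟩
  have h4 := Subgroup.card_mul_index f.ker
  rw [h1, ← h2] at h4
  rw [← h4, mul_comm]
  exact Nat.mul_le_mul_left _ (Subgroup.card_le_of_le h3)

/-- the homomorphism `e ↦ [y, e]` into a group `x'` centralised by `E`, counted -/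
theorem card_ker_le [Finite G] {E x' : Subgroup G} {y : G} (hx' : ∀ e ∈ E, y * e * y⁻¹ * e⁻¹ ∈ x')
    (hc : ∀ e ∈ E, ∀ x ∈ x', e * x = x * e) :
    Nat.card E ≤ Nat.card x' * Nat.card ↥(E ⊓ centralizer {y}) := by
  classical
  let f : E →* G :=
    { toFun := fun x => y * (x : G) * y⁻¹ * (x : G)⁻¹
      map_one' := by simp
      map_mul' := by
        intro a b
        have h1 := hx' b b.2
        have h2 := hc a a.2 _ h1
        show y * ((a : G) * b) * y⁻¹ * ((a : G) * b)⁻¹ = y * (a : G) * y⁻¹ * (a : G)⁻¹ * (y * (b : G) * y⁻¹ * (b : G)⁻¹)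
        have e1 : y * ((a : G) * b) * y⁻¹ * ((a : G) * b)⁻¹ =
          y * (a : G) * y⁻¹ * ((y * (b : G) * y⁻¹ * (b : G)⁻¹) * (a : G)⁻¹) := by group
        have e2 : (y * (b : G) * y⁻¹ * (b : G)⁻¹) * (a : G)⁻¹ = (a : G)⁻¹ * (y * (b : G) * y⁻¹ * (b : G)⁻¹) :=
          (Commute.inv_left (show Commute (a : G) _ from h2)).symm
        rw [e1, e2]
        group }
  have hf : ∀ x : E, f x = y * (x : G) * y⁻¹ * (x : G)⁻¹ := fun x => rfl
  have hker : ∀ x : E, x ∈ f.ker ↔ (x : G) ∈ E ⊓ centralizer {y} := by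
    intro x
    rw [MonoidHom.mem_ker, hf, mem_inf, mem_centralizer_singleton_iff, mul_inv_eq_one, mul_inv_eq_iff_eq_mul]
    exact ⟨fun h => ⟨x.2, h.symm⟩, fun h => h.2.symm⟩
  have h1 : Nat.card f.ker = Nat.card ↥(E ⊓ centralizer {y}) :=
    Nat.card_congr
      { toFun := fun x => ⟨x.1, (hker x.1).1 x.2⟩
        invFun := fun x => ⟨⟨x.1, x.2.1⟩, (hker _).2 x.2⟩
        left_inv := fun x => rfl
        right_inv := fun x => rfl }
  have h2 : Nat.card f.range = f.ker.index := by rw [Subgroup.index_ker]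
  have h3 : f.range ≤ x' := by
    rintro _ ⟨x, rfl⟩
    exact hx' x x.2
  have h4 := Subgroup.card_mul_index f.ker
  rw [h1, ← h2] at h4
  rw [← h4, mul_comm]
  exact Nat.mul_le_mul_right _ (Subgroup.card_le_of_le h3)

variable {ι : Type*} {B Q V X ZJ : Subgroup G} {L W Z C A : ι → Subgroup G} {q : ℕ}

/-- `A i` is the full root group on `W i`. -/
theorem A_surj (h : FrL B Q V X ZJ L W Z C A q) [Finite G] {i : ι} {v : G} (hv : v ∈ W i) (hvZ : v ∉ Z i) {z : G}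
    (hz : z ∈ Z i) : ∃ a ∈ A i, a * v * a⁻¹ * v⁻¹ = z := by
  obtain ⟨R, h1, h2, -, h4⟩ := (h.blk i).toMd.relIndex_comm (h.AB i) hv hvZ
  have h5 := (h.A_full i).2.2
  rw [← h5] at h4
  have h6 : Nat.card R = q := Nat.eq_of_mul_eq_mul_right Nat.card_pos h4
  have h7 : R = Z i := Subgroup.eq_of_le_of_card_ge h1 (by rw [h6, h.cardZ])
  rw [← h7] at hz
  obtain ⟨x, hx, e⟩ := h2 z hz
  exact ⟨x, hx, e.symm⟩

/-- **FIX-X.** -/
theorem fixX (h : FrL B Q V X ZJ L W Z C A q) [Finite G] {i : ι} {n : G} (hn : n ∈ X) (hnQ : n ∈ Q)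
    (hc : ∀ b ∈ Q, n * b * n⁻¹ * b⁻¹ ∈ Z i) : n ∈ V := by
  obtain ⟨l, hl, hmv⟩ := h.exists_mv i
  have htri := h.tri' hl hmv
  have hBL := (h.blk i).BL
  have hAL : ∀ a ∈ A i, a ∈ L i := fun a ha => hBL (h.AB i ha)
  set x' : Subgroup G := cj l (Z i) with hx'
  have hxW : x' ≤ W i := by
    rintro _ ⟨z, hz, rfl⟩
    exact (h.blk i).nV l hl z ((h.blk i).ZV hz)
  set y : G := l * n * l⁻¹ with hy
  have hyX : y ∈ X := h.LX i l hl n hn
  have hyQ : y ∈ Q := h.LQ i l hl n hnQ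
  -- `[y, Q] ≤ x'`
  have hyc : ∀ b ∈ Q, y * b * y⁻¹ * b⁻¹ ∈ x' := by
    intro b hb
    have h1 : l⁻¹ * b * l ∈ Q := by
      have := h.LQ i l⁻¹ (inv_mem hl) b hb
      rwa [inv_inv] at this
    rw [hx', mem_cj]
    have e : l⁻¹ * (y * b * y⁻¹ * b⁻¹) * l = n * (l⁻¹ * b * l) * n⁻¹ * (l⁻¹ * b * l)⁻¹ := by rw [hy]; group
    rw [e]
    exact hc _ h1
  -- it is enough that `y ∈ V`
  suffices hyV : y ∈ V by
    have := h.LV i l⁻¹ (inv_mem hl) y hyV
    have e : l⁻¹ * y * l⁻¹⁻¹ = n := by rw [hy]; group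
    rwa [e] at this
  have hE0 : A i ⊓ Q = A i ⊓ centralizer (W i : Set G) := h.A_inf_Q i
  obtain ⟨hcut, hbest⟩ := h.cut i
  by_cases hφ : ∀ e ∈ A i ⊓ Q, e * y = y * e
  · -- `φ = 0`
    have h1 : y ∈ X ⊓ centralizer ((A i ⊓ Q : Subgroup G) : Set G) := ⟨hyX, mem_centralizer_iff.2 fun e he => hφ e he⟩
    rw [hcut] at h1
    obtain ⟨v, hv, c, hcc, hvc⟩ := mem_sup_comm (A := V) (B := X ⊓ centralizer (A i : Set G))
      (fun a ha b hb => h.Xc a (h.VX ha) b hb.1) h1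
    -- an element of `A i` moving `x'`
    have h2 := h.Ane i
    push Not at h2
    obtain ⟨a, ha, w₀, hw₀, hne⟩ := h2
    refine h.zcQ y hyQ (elem_sq h.elX y hyX) fun b hb => ?_
    have hyb := hyc b hb
    set δ := y * b * y⁻¹ * b⁻¹ with hδ
    -- `a y a⁻¹ = z y`
    set z := a * v * a⁻¹ * v⁻¹ with hz
    have hzZ : z ∈ Z i := h.A_comm ha hv
    have hay : a * y * a⁻¹ = z * y := by
      have h3 : a * c = c * a := mem_centralizer_iff.1 hcc.2 a ha
      have e1 : a * (v * c) * a⁻¹ = a * v * a⁻¹ * v⁻¹ * (v * (a * c * a⁻¹)) := by group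
      rw [hvc] at *
      rw [e1, h3, ← hz]; group
    -- `a⁻¹ b a ∈ Q`
    have hb' : a⁻¹ * b * a ∈ Q := by
      have := h.LQ i a⁻¹ (inv_mem (hAL a ha)) b hb
      rwa [inv_inv] at this
    have h4 := hyc _ hb'
    set δ' := y * (a⁻¹ * b * a) * y⁻¹ * (a⁻¹ * b * a)⁻¹ with hδ'
    have h5 : a * δ' * a⁻¹ = δ := by
      have e1 : a * δ' * a⁻¹ = (a * y * a⁻¹) * b * (a * y * a⁻¹)⁻¹ * b⁻¹ := by rw [hδ']; group
      have e2 : z * (y * b * y⁻¹) * z⁻¹ = y * b * y⁻¹ := by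
        have h6 : y * b * y⁻¹ ∈ Q := mul_mem (mul_mem hyQ hb) (inv_mem hyQ)
        rw [← h.cQ h6 (h.ZV i hzZ)]; group
      rw [e1, hay, hδ]
      have e3 : z * y * b * (z * y)⁻¹ * b⁻¹ = z * (y * b * y⁻¹) * z⁻¹ * b⁻¹ := by group
      rw [e3, e2]
    have h6 : a * δ' * a⁻¹ * δ'⁻¹ ∈ x' ⊓ Z i := by
      refine mem_inf.2 ⟨?_, (h.blk i).com a (h.AB i ha) _ (hxW h4)⟩
      rw [h5]
      exact mul_mem hyb (inv_mem h4)
    rw [htri, mem_bot] at h6
    have h7 : a * δ' = δ' * a := mul_inv_eq_iff_eq_mul.1 (mul_inv_eq_one.1 h6)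
    have h8 : δ' = 1 := by
      by_contra h1'
      have h9 : δ' ∉ Z i := fun hh => h1' (by
        have h10 : δ' ∈ x' ⊓ Z i := ⟨h4, hh⟩
        rwa [htri, mem_bot] at h10)
      exact hne ((h.blk i).free a (h.AB i ha) _ (hxW h4) h9 h7 _ hw₀)
    rw [h8] at h5
    have h9 : δ = 1 := by rw [← h5]; group
    exact mul_inv_eq_iff_eq_mul.1 (mul_inv_eq_one.1 h9)
  · -- `φ ≠ 0`
    exfalso
    push Not at hφ
    obtain ⟨e, he, hne⟩ := hφ
    set F : Subgroup G := (A i ⊓ Q) ⊓ centralizer {y} with hF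
    set D : Subgroup G := X ⊓ centralizer (F : Set G) with hD
    set δ := y * e * y⁻¹ * e⁻¹ with hδ
    have hδx : δ ∈ x' := hyc e he.2
    have hδ1 : δ ≠ 1 := by
      intro h1
      apply hne
      exact (mul_inv_eq_iff_eq_mul.1 (mul_inv_eq_one.1 h1)).symm
    have hδZ : δ ∉ Z i := by
      intro hh
      have h10 : δ ∈ x' ⊓ Z i := ⟨hδx, hh⟩
      rw [htri, mem_bot] at h10
      exact hδ1 h10
    -- `[a y a⁻¹, e'] = a [y, e'] a⁻¹`
    have hae : ∀ a ∈ A i, ∀ e' ∈ A i, (a * y * a⁻¹) * e' * (a * y * a⁻¹)⁻¹ * e'⁻¹ = a * (y * e' * y⁻¹ * e'⁻¹) * a⁻¹ := by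
      intro a ha e' he'
      have h1 := (h.AX i).comm a⁻¹ (inv_mem ha) e' he'
      set c := a⁻¹ * e' * a⁻¹⁻¹ * e'⁻¹ with hc'
      have h2 : y * c = c * y := mem_centralizer_iff.1 h1 y hyX
      have e1 : a⁻¹ * e' * a = c * e' := by rw [hc']; group
      have e2 : (a * y * a⁻¹) * e' * (a * y * a⁻¹)⁻¹ * e'⁻¹ =
          a * (y * (a⁻¹ * e' * a) * y⁻¹ * (a⁻¹ * e' * a)⁻¹) * a⁻¹ := by group
      rw [e2, e1]
      have e3 : y * (c * e') * y⁻¹ * (c * e')⁻¹ = c * (y * e' * y⁻¹ * e'⁻¹) * c⁻¹ := by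
        calc y * (c * e') * y⁻¹ * (c * e')⁻¹ = (y * c) * e' * y⁻¹ * (c * e')⁻¹ := by group
          _ = (c * y) * e' * y⁻¹ * (c * e')⁻¹ := by rw [h2]
          _ = _ := by group
      have hyeX : y * e' * y⁻¹ * e'⁻¹ ∈ X := by
        have h3 : e' * y⁻¹ * e'⁻¹ ∈ X := h.LX i e' (hAL e' he') _ (inv_mem hyX)
        have e4 : y * e' * y⁻¹ * e'⁻¹ = y * (e' * y⁻¹ * e'⁻¹) := by group
        rw [e4]
        exact mul_mem hyX h3
      have h4 : (y * e' * y⁻¹ * e'⁻¹) * c = c * (y * e' * y⁻¹ * e'⁻¹) := mem_centralizer_iff.1 h1 _ hyeX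
      rw [e3, ← h4]; group
    have hAX : A i ⊓ centralizer (X : Set G) ≤ A i ⊓ Q := by
      refine le_inf inf_le_left fun a ha => (h.mem_Q a (h.AB i ha.1)).2 fun v hv => ?_
      exact (mem_centralizer_iff.1 ha.2 v (h.VX hv)).symm
    -- `y ^ a ∈ D`
    have hyD : ∀ a ∈ A i, a * y * a⁻¹ ∈ D := by
      intro a ha
      refine mem_inf.2 ⟨h.LX i a (hAL a ha) y hyX, mem_centralizer_iff.2 fun e' he' => ?_⟩
      obtain ⟨he1, he2⟩ := mem_inf.1 he'
      have h1 := hae a ha e' he1.1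
      have h2 : y * e' * y⁻¹ * e'⁻¹ = 1 := by
        rw [← mem_centralizer_singleton_iff.1 he2]; group
      rw [h2, mul_one, mul_inv_cancel] at h1
      exact (mul_inv_eq_iff_eq_mul.1 (mul_inv_eq_one.1 h1)).symm
    have hzδ : ∀ z ∈ Z i, z * δ = δ * z := fun z hz => (h.blk i).comm ((h.blk i).ZV hz) (hxW hδx)
    -- the image of `D` under `x ↦ [x, e]` contains `⟨δ⟩ × Z i`
    let im : Subgroup G :=
      { carrier := {r | ∃ x ∈ D, x * e * x⁻¹ * e⁻¹ = r}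
        one_mem' := ⟨1, one_mem _, by simp⟩
        mul_mem' := by
          rintro a b ⟨x, hx, rfl⟩ ⟨y', hy', rfl⟩
          have heX : ∀ x ∈ X, x * e * x⁻¹ * e⁻¹ ∈ X := by
            intro x hx
            have h3 : e * x⁻¹ * e⁻¹ ∈ X := h.LX i e (hAL e he.1) _ (inv_mem hx)
            have e4 : x * e * x⁻¹ * e⁻¹ = x * (e * x⁻¹ * e⁻¹) := by group
            rw [e4]
            exact mul_mem hx h3
          refine ⟨x * y', mul_mem hx hy', ?_⟩
          have h1 := heX y' hy'.1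
          have h2 := h.Xc _ hx.1 _ h1
          have h3 := h.Xc _ h1 _ (heX x hx.1)
          have e1 : x * y' * e * (x * y')⁻¹ * e⁻¹ = (x * (y' * e * y'⁻¹ * e⁻¹)) * (e * x⁻¹ * e⁻¹) := by group
          rw [e1, h2, ← h3]
          group
        inv_mem' := by
          rintro a ⟨x, hx, rfl⟩
          refine ⟨x⁻¹, inv_mem hx, ?_⟩
          have h3 : e * x⁻¹ * e⁻¹ ∈ X := h.LX i e (hAL e he.1) _ (inv_mem hx.1)
          have h4 := h.Xc _ (inv_mem hx.1) _ (h.LX i e (hAL e he.1) _ hx.1)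
          have e1 : x⁻¹ * e * x⁻¹⁻¹ * e⁻¹ = x⁻¹ * (e * x * e⁻¹) := by group
          rw [e1, h4]
          group }
    have hδim : δ ∈ im := by
      refine ⟨y, ?_, rfl⟩
      have := hyD 1 (one_mem _)
      rwa [one_mul, inv_one, mul_one] at this
    have hZim : Z i ≤ im := by
      intro z hz
      obtain ⟨a, ha, e1⟩ := A_surj h (hxW hδx) hδZ hz
      have h1 : a * δ * a⁻¹ ∈ im := ⟨a * y * a⁻¹, hyD a ha, hae a ha e he.1⟩
      have h2 : z = (a * δ * a⁻¹) * δ⁻¹ := e1.symm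
      rw [h2]
      exact mul_mem h1 (inv_mem hδim)
    have hδ2 : δ ^ 2 = 1 := elem_sq (h.blk i).el δ (hxW hδx)
    have hcard : 2 * q ≤ Nat.card im := by
      have h1 := card_sup_comm (A := zpowers δ) (B := Z i) (by
        intro a ha b hb
        obtain ⟨k, rfl⟩ := mem_zpowers_iff.1 ha
        exact (Commute.zpow_left (show Commute δ b from (hzδ b hb).symm) k).eq)
      have h2 : zpowers δ ⊓ Z i = ⊥ := by
        rw [eq_bot_iff, ← htri]
        exact inf_le_inf_right _ (by rw [zpowers_le]; exact hδx)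
      rw [h2, card_bot, mul_one, Nat.card_zpowers, h.cardZ,
        orderOf_eq_prime hδ2 hδ1] at h1
      rw [← h1]
      exact Subgroup.card_le_of_le (sup_le (by rw [zpowers_le]; exact hδim) hZim)
    have h1 : Nat.card im * Nat.card ↥(D ⊓ centralizer {e}) ≤ Nat.card D :=
      card_comm (X := X) h.Xc (fun x hx => by
        have h3 : e * x⁻¹ * e⁻¹ ∈ X := h.LX i e (hAL e he.1) _ (inv_mem hx)
        have e4 : x * e * x⁻¹ * e⁻¹ = x * (e * x⁻¹ * e⁻¹) := by group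
        rw [e4]
        exact mul_mem hx h3) inf_le_left fun r hr => hr
    have h2 : X ⊓ centralizer ((A i ⊓ Q : Subgroup G) : Set G) ≤ D ⊓ centralizer {e} := by
      refine le_inf (inf_le_inf_left _ (centralizer_le inf_le_left)) (inf_le_right.trans (centralizer_le ?_))
      simpa using he
    have h3 := Subgroup.card_le_of_le h2
    have h4 : Nat.card ↥(A i ⊓ Q) ≤ q * Nat.card F := by
      have := card_ker_le (E := A i ⊓ Q) (x' := x') (y := y) (fun e' he' => hyc e' he'.2)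
        (fun e' he' x hx => h.cQ he'.2 (h.WV i (hxW hx)))
      rwa [hx', card_cj, h.cardZ] at this
    have h5 : Nat.card F * Nat.card D ≤
        Nat.card ↥(A i ⊓ Q) * Nat.card ↥(X ⊓ centralizer ((A i ⊓ Q : Subgroup G) : Set G)) := by
      refine hbest F ?_ inf_le_left
      refine le_inf inf_le_left fun a ha => mem_centralizer_singleton_iff.2 ?_
      exact (mem_centralizer_iff.1 ha.2 y hyX).symm
    set a₁ := Nat.card ↥(X ⊓ centralizer ((A i ⊓ Q : Subgroup G) : Set G)) with ha₁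
    have hp1 : 0 < a₁ := Nat.card_pos
    have hp2 : 0 < Nat.card F := Nat.card_pos
    have hq : 1 < q := (h.blk i).one
    have h6 : 2 * q * a₁ ≤ Nat.card D :=
      (Nat.mul_le_mul hcard h3).trans h1
    have h7 : Nat.card F * (2 * q * a₁) ≤ q * Nat.card F * a₁ :=
      (Nat.mul_le_mul_left _ h6).trans (h5.trans (Nat.mul_le_mul_right _ h4))
    have h8 : Nat.card F * (2 * q * a₁) = 2 * (q * Nat.card F * a₁) := by ring
    have h9 : 0 < q * Nat.card F * a₁ := Nat.mul_pos (Nat.mul_pos (by omega) hp2) hp1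
    omega

end Cfsg.Agent.Omega.KL.QF.FixX
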