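import Cfsg.Agent.Omega.KL.QF.Frame

/-!
# `(E)`, `k = 2`, `q ≥ 4`, every level, `J(O)` moves `W i`: the frame (helper651; the module is `X_0 / Z_0`, `X_0 = ⟨U_0 ^ H_0⟩ N_0`)

helper49's `QFr` (`KL/QF/Frame.lean`) with `U 0 ≤ NN Z (Z 0)` replaced by `U 0, N_0 ≤ X`, `X` elementary abelian,
`C(Z 0)`-invariant.

* `QFb Z U B T` : `QFr` without `U 0 ≤ N_0`; `QFs Z U B T X` : with `X`;
* `QFs.{tix, tiy, uni2, triv_y, u1}` : as for `QFr`.
-/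

set_option autoImplicit false
set_option linter.unusedSectionVars false
set_option maxHeartbeats 400000

namespace Cfsg.Agent.Omega.KL.QF

open Subgroup Cfsg Cfsg.Agent.ZN Cfsg.Agent.Omega.MinPar Cfsg.Agent.Omega.OM.PG
open Cfsg.Agent.ZN.ChoiceSit (Syl syl_not_dvd)
open Cfsg.Agent.MinSimple.MinParabolic (IsMinPar)
open Cfsg.Agent.MinSimple.VModule (le_normalizer_o2 le_o2 o2_le o2_isPGroup)
open Cfsg.Agent.Omega.NoFF.Basic (conj_conj mem_conj conj_le_iff conj_le_centralizer comm_symm comm_mono)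
open Cfsg.Agent.Omega.NOThreeL.Pair (conj_eq_of_mem)
open scoped Pointwise

universe u

variable {G : Type u} [Group G]

/-- helper49's frame `QFr` without `U 0 ≤ NN Z (Z 0)` -/
structure QFb (Z U : Fin 2 → Subgroup G) (B T : Subgroup G) : Prop extends PP Z U where
  ti : ∀ a b, IsPt Z a → IsPt Z b → ∀ x ∈ a, x ∈ b → x ≠ 1 → a = b
  fus : ∀ a, IsPt Z a → ∀ x ∈ a, x ∈ Z 0 ⊔ Z 1 → x ≠ 1 → a = Z 0 ∨ a = Z 1
  inf : U 0 ⊓ U 1 = ⊥
  ZU1 : Z 1 ≤ U 1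
  U1N : U 1 ≤ NN Z (Z 0)
  pts : ∀ x ∈ U 0, x ≠ 1 → ∃ a, IsPt Z a ∧ x ∈ a ∧ a ≤ U 0
  prod : ∀ a, IsPt Z a → a ≤ U 0 → a ≠ Z 0 → U 0 ≤ Z 0 ⊔ a
  syl : Syl T (centralizer (Z 0 : Set G))
  TB : T ⊓ centralizer (Z 1 : Set G) = B
  T1 : T ≤ normalizer (Z 1 : Set G)
  TU0 : T ≤ normalizer (U 0 : Set G)
  TU1 : T ≤ normalizer (U 1 : Set G)
  com : ∀ t ∈ T, ∀ x ∈ U 0, t * x * t⁻¹ * x⁻¹ ∈ Z 0
  fixU : ∀ x ∈ U 0, (∀ t ∈ T, t * x * t⁻¹ = x) → x ∈ Z 0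
  fixU1 : ∀ x ∈ U 1, (∀ t ∈ T, t * x * t⁻¹ = x) → x ∈ Z 1
  nT : centralizer (Z 0 : Set G) ⊓ normalizer (T : Set G) ≤ normalizer (Z 1 : Set G) ⊓ normalizer (U 0 : Set G)
  nB : centralizer (Z 0 : Set G) ⊓ normalizer (B : Set G) ≤ normalizer (U 0 : Set G)
  /-- UNI -/
  uni : ∀ R : Subgroup G, IsMinPar T R → R ≤ centralizer (Z 0 : Set G) → ¬ R ≤ normalizer (Z 1 : Set G) →
    R ≤ normalizer (U 1 : Set G) ∧ R ≤ normalizer ((U 0 ⊔ U 1 : Subgroup G) : Set G) ∧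
    (∀ x ∈ U 1, x ≠ 1 → ∀ y ∈ U 1, y ≠ 1 → ∃ r ∈ R, r * x * r⁻¹ = y) ∧
    ∃ r ∈ R, r ∉ normalizer (Z 1 : Set G) ∧ ∃ l ∈ centralizer (Z 0 : Set G), l ∈ centralizer (U 0 : Set G) ∧
      ∀ x ∈ U 1, l * x * l⁻¹ = r * x * r⁻¹

theorem QFr.qfb {Z U : Fin 2 → Subgroup G} {B T : Subgroup G} (D : QFr Z U B T) : QFb Z U B T :=
  ⟨D.toPP, D.ti, D.fus, D.inf, D.ZU1, D.U1N, D.pts, D.prod, D.syl, D.TB, D.T1, D.TU0, D.TU1, D.com, D.fixU, D.fixU1,
    D.nT, D.nB, D.uni⟩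

theorem QFb.qfr {Z U : Fin 2 → Subgroup G} {B T : Subgroup G} (D : QFb Z U B T) (h : U 0 ≤ NN Z (Z 0)) :
    QFr Z U B T :=
  ⟨D.toPP, D.ti, D.fus, D.inf, D.ZU1, h, D.U1N, D.pts, D.prod, D.syl, D.TB, D.T1, D.TU0, D.TU1, D.com, D.fixU, D.fixU1,
    D.nT, D.nB, D.uni⟩

/-- **The frame with the module `X`.** -/
structure QFs (Z U : Fin 2 → Subgroup G) (B T X : Subgroup G) : Prop extends QFb Z U B T where
  NX : NN Z (Z 0) ≤ X
  U0N : U 0 ≤ X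
  Ncomm : X ≤ centralizer (X : Set G)
  Xsq : ∀ x ∈ X, x ^ 2 = 1
  CN : centralizer (Z 0 : Set G) ≤ normalizer (X : Set G)

namespace QFs

variable {Z U : Fin 2 → Subgroup G} {B T X : Subgroup G} (D : QFs Z U B T X)

include D

theorem pt0 : IsPt Z (Z 0) := ⟨1, by rw [map_one, one_smul]⟩

theorem adj01 : Adj Z (Z 0) (Z 1) := ⟨1, by rw [map_one, one_smul], by rw [map_one, one_smul]⟩

theorem pt1 : IsPt Z (Z 1) := D.toPP.adj_pt D.adj01

theorem U1X : U 1 ≤ X := D.U1N.trans D.NX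

theorem Z0N : Z 0 ≤ X := D.ZU.trans D.U0N

theorem Z1N : Z 1 ≤ X := D.ZU1.trans D.U1X

theorem NC : X ≤ centralizer (Z 0 : Set G) := D.Ncomm.trans (centralizer_le D.Z0N)

theorem cm {x y : G} (hx : x ∈ X) (hy : y ∈ X) : x * y = y * x :=
  mem_centralizer_iff.1 (D.Ncomm hy) x hx

theorem Nsq {x : G} (hx : x ∈ X) : x * x = 1 := by
  rw [← pow_two]
  exact D.Xsq x hx

theorem VN : U 0 ⊔ U 1 ≤ X := sup_le D.U0N D.U1X

theorem inf01 : Z 0 ⊓ Z 1 = ⊥ := by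
  rw [eq_bot_iff, ← D.inf]
  exact inf_le_inf D.ZU D.ZU1

theorem inf0U : Z 0 ⊓ U 1 = ⊥ := by
  rw [eq_bot_iff, ← D.inf]
  exact inf_le_inf D.ZU le_rfl

theorem TC : T ≤ centralizer (Z 0 : Set G) := D.syl.1

theorem T2 : IsPGroup 2 T := D.syl.2.1

theorem odd [Finite G] : ¬ 2 ∣ T.relIndex (centralizer (Z 0 : Set G)) := syl_not_dvd D.syl

theorem oddR [Finite G] {R : Subgroup G} (hTR : T ≤ R) (hR : R ≤ centralizer (Z 0 : Set G)) : ¬ 2 ∣ T.relIndex R := by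
  intro h
  apply D.odd
  rw [← relIndex_mul_relIndex T R _ hTR hR]
  exact h.mul_right _

theorem cz {z g : G} (hz : z ∈ Z 0) (hg : g ∈ centralizer (Z 0 : Set G)) : g * z * g⁻¹ = z := by
  rw [← mem_centralizer_iff.1 hg z hz, mul_inv_cancel_right]

/-- **(TI) for `x`** -/
theorem tix {g m : G} (hm : m ∈ Z 1) (hm1 : m ≠ 1)
    (h : g * m * g⁻¹ * m⁻¹ ∈ Z 0) : g ∈ normalizer (Z 1 : Set G) ∧ g * m * g⁻¹ = m := by
  have h1 : g * m * g⁻¹ ∈ MulAut.conj g • Z 1 := by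
    rw [mem_conj]
    have e : g⁻¹ * (g * m * g⁻¹) * g = m := by group
    rwa [e]
  have h2 : g * m * g⁻¹ ∈ Z 0 ⊔ Z 1 := by
    have e : g * m * g⁻¹ = (g * m * g⁻¹ * m⁻¹) * m := by group
    rw [e]
    exact mul_mem (mem_sup_left h) (mem_sup_right hm)
  have h3 : g * m * g⁻¹ ≠ 1 := fun h' => hm1 (conj_eq_one_iff.1 h')
  rcases D.fus _ (D.pt1.conj g) _ h1 h2 h3 with h4 | h4
  · exfalso
    rw [h4] at h1
    have h5 : m ∈ Z 0 := by
      have e : m = (g * m * g⁻¹ * m⁻¹)⁻¹ * (g * m * g⁻¹) := by group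
      rw [e]
      exact mul_mem (inv_mem h) h1
    have h6 : m ∈ Z 0 ⊓ Z 1 := ⟨h5, hm⟩
    rw [D.inf01, mem_bot] at h6
    exact hm1 h6
  · refine ⟨ChoiceBase.mem_normalizer_iff_cj.2 h4, ?_⟩
    rw [h4] at h1
    have h6 : g * m * g⁻¹ * m⁻¹ ∈ Z 0 ⊓ Z 1 := mem_inf.2 ⟨h, mul_mem h1 ((Z 1).inv_mem hm)⟩
    rw [D.inf01, mem_bot] at h6
    exact mul_inv_eq_one.1 h6

/-- **(TI) for `y`** -/
theorem tiy [Finite G] {g w : G} (hg : g ∈ centralizer (Z 0 : Set G)) (hw : w ∈ U 0) (hw0 : w ∉ Z 0)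
    (h : g * w * g⁻¹ * w⁻¹ ∈ Z 0) : g ∈ normalizer (U 0 : Set G) := by
  have hw1 : w ≠ 1 := fun h' => hw0 (h' ▸ one_mem _)
  have h0 : g * w * g⁻¹ ∈ U 0 := by
    have e : g * w * g⁻¹ = (g * w * g⁻¹ * w⁻¹) * w := by group
    rw [e]
    exact mul_mem (D.ZU h) hw
  have h1 : g * w * g⁻¹ ≠ 1 := fun h' => hw1 (conj_eq_one_iff.1 h')
  have hn0 : g * w * g⁻¹ ∉ Z 0 := by
    intro h'
    apply hw0
    have e : w = (g * w * g⁻¹ * w⁻¹)⁻¹ * (g * w * g⁻¹) := by group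
    rw [e]
    exact mul_mem (inv_mem h) h'
  obtain ⟨a, ha, hwa, haU⟩ := D.pts w hw hw1
  obtain ⟨b, hb, hwb, hbU⟩ := D.pts _ h0 h1
  have h2 : MulAut.conj g • a = b := by
    refine D.ti _ _ (ha.conj g) hb _ ?_ hwb h1
    rw [mem_conj]
    have e : g⁻¹ * (g * w * g⁻¹) * g = w := by group
    rwa [e]
  have ha0 : a ≠ Z 0 := by
    rintro rfl
    exact hw0 hwa
  have h3 : MulAut.conj g • U 0 ≤ U 0 := by
    refine (conj_le_iff.2 (D.prod a ha haU ha0)).trans ?_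
    rw [Subgroup.smul_sup, h2]
    have h4 : MulAut.conj g • Z 0 = Z 0 := conj_eq_of_mem (centralizer_le_normalizer _ hg)
    rw [h4]
    exact sup_le D.ZU hbU
  refine ChoiceBase.mem_normalizer_iff_cj.2 ?_
  change MulAut.conj g • U 0 = U 0
  exact Subgroup.eq_of_le_of_card_ge h3
    (le_of_eq (Nat.card_congr (Subgroup.equivSMul (MulAut.conj g) (U 0)).toEquiv))

/-- the intersection of `T` with a normal subgroup of a minimal parabolic -/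
theorem norm_inf [Finite G] {R N : Subgroup G} (hR : IsMinPar T R) (hRC : R ≤ centralizer (Z 0 : Set G))
    (hN : R ≤ normalizer (N : Set G)) (h : ¬ R ≤ (N ⊓ R) ⊔ T) : R ≤ normalizer ((T ⊓ N : Subgroup G) : Set G) := by
  have : Fact (Nat.Prime 2) := ⟨Nat.prime_two⟩
  have hNR : R ≤ normalizer ((N ⊓ R : Subgroup G) : Set G) := NO3L.LemP.le_normalizer_inf hN le_normalizer
  rcases hR.sup_eq_or_inf_le (p := 2) D.T2 (D.oddR hR.le hRC) inf_le_right hNR with h1 | h1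
  · exact absurd h1.ge h
  · have h2 : T ⊓ N = o2 R ⊓ N := by
      apply le_antisymm
      · refine le_inf ?_ inf_le_right
        exact (le_inf inf_le_left (le_inf inf_le_right (inf_le_left.trans hR.le))).trans h1
      · exact inf_le_inf_right _ (Cfsg.Agent.MinSimple.VModule.o2_le_of_sylow D.T2 (D.oddR hR.le hRC))
    rw [h2]
    exact NO3L.LemP.le_normalizer_inf (le_normalizer_o2 _) hN

/-- a normal subgroup of a minimal parabolic which contains `T` is everything -/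
theorem le_of_norm [Finite G] {R K : Subgroup G} (hR : IsMinPar T R) (hRC : R ≤ centralizer (Z 0 : Set G))
    (hKR : K ≤ R) (hTK : T ≤ K) (hRK : ∀ r ∈ R, ∀ g ∈ K, r * g * r⁻¹ ∈ K) : R ≤ K := by
  have : Fact (Nat.Prime 2) := ⟨Nat.prime_two⟩
  have hRK' : R ≤ normalizer (K : Set G) := by
    intro r hr
    rw [mem_normalizer_iff]
    intro g
    refine ⟨hRK r hr g, fun h => ?_⟩
    have := hRK r⁻¹ (inv_mem hr) _ h
    have e : r⁻¹ * (r * g * r⁻¹) * r⁻¹⁻¹ = g := by group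
    rwa [e] at this
  rcases hR.sup_eq_or_inf_le (p := 2) D.T2 (D.oddR hR.le hRC) hKR hRK' with h1 | h1
  · rw [← h1]
    exact sup_le le_rfl hTK
  · exfalso
    apply hR.not_le
    have h2 : T = o2 R := by
      apply le_antisymm
      · exact (le_inf le_rfl hTK).trans h1
      · exact Cfsg.Agent.MinSimple.VModule.o2_le_of_sylow D.T2 (D.oddR hR.le hRC)
    rw [h2]
    exact le_normalizer_o2 _

/-- `R` normalises `W` and `M`, `T` is trivial on `W / M`: so is `R` -/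
theorem triv_of [Finite G] {R W M : Subgroup G} (hR : IsMinPar T R) (hRC : R ≤ centralizer (Z 0 : Set G))
    (hW : R ≤ normalizer (W : Set G)) (hM : R ≤ normalizer (M : Set G))
    (hT : ∀ t ∈ T, ∀ w ∈ W, t * w * t⁻¹ * w⁻¹ ∈ M) : ∀ r ∈ R, ∀ w ∈ W, r * w * r⁻¹ * w⁻¹ ∈ M := by
  let K : Subgroup G :=
    { carrier := {g | g ∈ R ∧ ∀ w ∈ W, g * w * g⁻¹ * w⁻¹ ∈ M}
      one_mem' := ⟨one_mem _, fun w _ => by simp⟩
      mul_mem' := by
        rintro a b ⟨ha, ha'⟩ ⟨hb, hb'⟩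
        refine ⟨mul_mem ha hb, fun w hw => ?_⟩
        have e : a * b * w * (a * b)⁻¹ * w⁻¹ = (a * (b * w * b⁻¹ * w⁻¹) * a⁻¹) * (a * w * a⁻¹ * w⁻¹) := by group
        rw [e]
        exact mul_mem ((mem_normalizer_iff.1 (hM ha) _).1 (hb' w hw)) (ha' w hw)
      inv_mem' := by
        rintro a ⟨ha, ha'⟩
        refine ⟨inv_mem ha, fun w hw => ?_⟩
        have e : a⁻¹ * w * a⁻¹⁻¹ * w⁻¹ = a⁻¹ * (a * w * a⁻¹ * w⁻¹)⁻¹ * a⁻¹⁻¹ := by group
        rw [e]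
        exact (mem_normalizer_iff.1 (hM (inv_mem ha)) _).1 (inv_mem (ha' w hw)) }
  have hKR : K ≤ R := fun g hg => hg.1
  have h1 : R ≤ K := by
    refine D.le_of_norm hR hRC hKR (fun t ht => ⟨hR.le ht, hT t ht⟩) ?_
    rintro r hr g ⟨hg, hg'⟩
    refine ⟨mul_mem (mul_mem hr hg) (inv_mem hr), fun w hw => ?_⟩
    have h1 : r⁻¹ * w * r ∈ W := by
      have := (mem_normalizer_iff.1 (hW (inv_mem hr)) w).1 hw
      rwa [inv_inv] at this
    have h2 := hg' _ h1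
    have e : r * g * r⁻¹ * w * (r * g * r⁻¹)⁻¹ * w⁻¹ = r * (g * (r⁻¹ * w * r) * g⁻¹ * (r⁻¹ * w * r)⁻¹) * r⁻¹ := by
      group
    rw [e]
    exact (mem_normalizer_iff.1 (hM hr) _).1 h2
  exact fun r hr => (h1 hr).2

/-- `R` is trivial on `V / U 1 (Z 0)` -/
theorem triv_quot [Finite G] {R : Subgroup G} (hR : IsMinPar T R) (hRC : R ≤ centralizer (Z 0 : Set G))
    (hm : ¬ R ≤ normalizer (Z 1 : Set G)) : ∀ r ∈ R, ∀ w ∈ U 0 ⊔ U 1, r * w * r⁻¹ * w⁻¹ ∈ Z 0 ⊔ U 1 := by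
  obtain ⟨hU1, hV, -⟩ := D.uni R hR hRC hm
  refine D.triv_of hR hRC hV (ThmG.norm_sup (hRC.trans (centralizer_le_normalizer _)) hU1) ?_
  intro t ht w hw
  have hn : U 1 ≤ normalizer (U 0 : Set G) :=
    (comm_mono D.Ncomm D.U1X D.U0N).trans (centralizer_le_normalizer _)
  obtain ⟨a, ha, b, hb, rfl⟩ := OM.KTwo.exists_mul_of_mem_sup hn hw
  have h1 := D.com t ht a ha
  have h2 : t * b * t⁻¹ ∈ U 1 := (mem_normalizer_iff.1 (D.TU1 ht) b).1 hb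
  have h3 : t * b * t⁻¹ * b⁻¹ ∈ U 1 := mul_mem h2 (inv_mem hb)
  have e : t * (a * b) * t⁻¹ * (a * b)⁻¹ = (t * a * t⁻¹) * (t * b * t⁻¹ * b⁻¹) * a⁻¹ := by group
  have h4 : t * a * t⁻¹ ∈ X := by
    have e' : t * a * t⁻¹ = (t * a * t⁻¹ * a⁻¹) * a := by group
    rw [e']
    exact mul_mem (D.Z0N h1) (D.U0N ha)
  have e2 : (t * a * t⁻¹) * (t * b * t⁻¹ * b⁻¹) * a⁻¹ = (t * b * t⁻¹ * b⁻¹) * (t * a * t⁻¹ * a⁻¹) := by
    rw [D.cm h4 (D.U1X h3)]; group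
  rw [e, e2]
  exact mul_mem (mem_sup_right h3) (mem_sup_left h1)

/-- `T`-fixed vectors of `V / Z 0` in the coset of `w ∈ U 0`: `w u`, `u ∈ Z 1` -/
theorem fix_coset {w c : G} (hw : w ∈ U 0) (hc : c * w⁻¹ ∈ Z 0 ⊔ U 1)
    (h : ∀ t ∈ T, t * c * t⁻¹ * c⁻¹ ∈ Z 0) : ∃ z ∈ Z 0, ∃ u ∈ Z 1, c = w * u * z := by
  have hn : U 1 ≤ normalizer (Z 0 : Set G) :=
    ((D.U1X.trans D.NC).trans (centralizer_le_normalizer _))
  obtain ⟨z, hz, u, hu, hzu⟩ := OM.KTwo.exists_mul_of_mem_sup hn hc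
  have hcN : c = z * u * w := by rw [← hzu]; group
  have hz' := D.Z0N hz
  have hu' := D.U1X hu
  have hw' := D.U0N hw
  have h1 : ∀ t ∈ T, t * u * t⁻¹ = u := by
    intro t ht
    have h2 := h t ht
    have h3 := D.com t ht w hw
    have h4 : t * z * t⁻¹ = z := D.cz hz (D.TC ht)
    have h5 : t * u * t⁻¹ ∈ U 1 := (mem_normalizer_iff.1 (D.TU1 ht) u).1 hu
    have h6 : t * w * t⁻¹ ∈ X := by
      have e' : t * w * t⁻¹ = (t * w * t⁻¹ * w⁻¹) * w := by group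
      rw [e']
      exact mul_mem (D.Z0N h3) hw'
    have e : t * c * t⁻¹ * c⁻¹ = (t * u * t⁻¹ * u⁻¹) * (t * w * t⁻¹ * w⁻¹) := by
      rw [hcN]
      have e1 : t * (z * u * w) * t⁻¹ * (z * u * w)⁻¹ =
          (t * z * t⁻¹) * (t * u * t⁻¹) * (t * w * t⁻¹) * w⁻¹ * u⁻¹ * z⁻¹ := by group
      rw [e1, h4]
      have e2 : z * (t * u * t⁻¹) * (t * w * t⁻¹) * w⁻¹ * u⁻¹ * z⁻¹ =
          z * ((t * u * t⁻¹) * ((t * w * t⁻¹ * w⁻¹) * u⁻¹)) * z⁻¹ := by group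
      rw [e2, D.cm (D.Z0N h3) (inv_mem hu')]
      have e3 : z * ((t * u * t⁻¹) * (u⁻¹ * (t * w * t⁻¹ * w⁻¹))) * z⁻¹ =
          z * ((t * u * t⁻¹ * u⁻¹) * (t * w * t⁻¹ * w⁻¹)) * z⁻¹ := by group
      rw [e3, D.cm hz' (mul_mem (mul_mem (D.U1X h5) (inv_mem hu')) (D.Z0N h3)), mul_inv_cancel_right]
    have h7 : t * u * t⁻¹ * u⁻¹ ∈ Z 0 := by
      have e4 : t * u * t⁻¹ * u⁻¹ = (t * c * t⁻¹ * c⁻¹) * (t * w * t⁻¹ * w⁻¹)⁻¹ := by rw [e]; group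
      rw [e4]
      exact mul_mem h2 (inv_mem h3)
    have h8 : t * u * t⁻¹ * u⁻¹ ∈ Z 0 ⊓ U 1 := mem_inf.2 ⟨h7, mul_mem h5 ((U 1).inv_mem hu)⟩
    rw [D.inf0U, mem_bot] at h8
    exact mul_inv_eq_one.1 h8
  refine ⟨z, hz, u, D.fixU1 u hu h1, ?_⟩
  rw [hcN, mul_assoc, D.cm hz' (mul_mem hu' hw'), D.cm hu' hw']

/-- minimal parabolics which move `Z 1` fix `U 0 / Z 0` pointwise -/
theorem uni2 [Finite G] {R : Subgroup G} (hR : IsMinPar T R) (hRC : R ≤ centralizer (Z 0 : Set G))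
    (hm : ¬ R ≤ normalizer (Z 1 : Set G)) : ∀ r ∈ R, ∀ w ∈ U 0, r * w * r⁻¹ * w⁻¹ ∈ Z 0 := by
  obtain ⟨hU1, hV, -, r₀, hr₀, hr₀n, l, hl, hlU, hlr⟩ := D.uni R hR hRC hm
  have hq := D.triv_quot hR hRC hm
  have hRZ : R ≤ normalizer (Z 0 : Set G) := hRC.trans (centralizer_le_normalizer _)
  -- the averaged vector is `w`, modulo `Z 0`
  have key : ∀ w ∈ U 0, ∀ c ∈ U 0 ⊔ U 1, c * w⁻¹ ∈ Z 0 ⊔ U 1 → (∀ r ∈ R, r * c * r⁻¹ * c⁻¹ ∈ Z 0) →
      c * w⁻¹ ∈ Z 0 := by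
    intro w hw c hcV hcw hc
    obtain ⟨z, hz, u, hu, rfl⟩ := D.fix_coset hw hcw fun t ht => hc t (hR.le ht)
    by_cases hu1 : u = 1
    · have e : w * u * z * w⁻¹ = z := by
        rw [hu1, mul_one, D.cm (D.U0N hw) (D.Z0N hz), mul_inv_cancel_right]
      rw [e]
      exact hz
    exfalso
    have hu' := D.ZU1 hu
    -- `δ = [l⁻¹, u] ≠ 1`
    have hr₀u : r₀ * u * r₀⁻¹ ≠ u := by
      intro h
      apply hr₀n
      exact (D.tix (g := r₀) hu hu1 (by rw [h, mul_inv_cancel]; exact one_mem _)).1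
    have hlu : l * u * l⁻¹ ≠ u := by rw [hlr u hu']; exact hr₀u
    set δ := l⁻¹ * u * l * u⁻¹ with hδ
    have hδ1 : δ ≠ 1 := by
      intro h
      apply hlu
      have h1 : l⁻¹ * u * l = u := mul_inv_eq_one.1 h
      calc l * u * l⁻¹ = l * (l⁻¹ * u * l) * l⁻¹ := by rw [h1]
        _ = u := by group
    have hlU1 : l ∈ normalizer (U 1 : Set G) := by
      refine ChoiceBase.mem_normalizer_iff_cj.2 ?_
      change MulAut.conj l • U 1 = U 1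
      refine Subgroup.eq_of_le_of_card_ge ?_
        (le_of_eq (Nat.card_congr (Subgroup.equivSMul (MulAut.conj l) (U 1)).toEquiv))
      rintro _ ⟨x, hx, rfl⟩
      change l * x * l⁻¹ ∈ U 1
      rw [hlr x hx]
      exact (mem_normalizer_iff.1 (hU1 hr₀) x).1 hx
    have hδU : δ ∈ U 1 := by
      have := (mem_normalizer_iff.1 (inv_mem hlU1) u).1 hu'
      rw [inv_inv] at this
      exact mul_mem this (inv_mem hu')
    have hlN : ∀ a ∈ U 0, l * a * l⁻¹ = a := fun a ha => by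
      rw [← mem_centralizer_iff.1 hlU a ha, mul_inv_cancel_right]
    have hVc : ∀ x ∈ U 0 ⊔ U 1, ∀ y ∈ U 0 ⊔ U 1, x * y = y * x := fun x hx y hy => D.cm (D.VN hx) (D.VN hy)
    have hn : U 1 ≤ normalizer (U 0 : Set G) :=
      (comm_mono D.Ncomm D.U1X D.U0N).trans (centralizer_le_normalizer _)
    have hlV : l ∈ normalizer ((U 0 ⊔ U 1 : Subgroup G) : Set G) := by
      refine (ThmG.norm_sup (K := zpowers l) ?_ ?_) (mem_zpowers l)
      · rw [zpowers_le]; exact centralizer_le_normalizer _ hlU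
      · rw [zpowers_le]; exact hlU1
    let E₀ : Subgroup G := centralizer (Z 0 : Set G) ⊓ normalizer ((U 0 ⊔ U 1 : Subgroup G) : Set G) ⊓
      normalizer (U 1 : Set G)
    let N : Subgroup G := E₀ ⊓ centralizer (U 1 : Set G)
    let K : Subgroup G :=
      { carrier := {g | g ∈ N ∧ ∀ x ∈ U 0 ⊔ U 1, g * x * g⁻¹ * x⁻¹ ∈ Z 0}
        one_mem' := ⟨one_mem _, fun w _ => by simp⟩
        mul_mem' := by
          rintro a b ⟨ha, ha'⟩ ⟨hb, hb'⟩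
          refine ⟨mul_mem ha hb, fun w hw => ?_⟩
          have e : a * b * w * (a * b)⁻¹ * w⁻¹ = (a * (b * w * b⁻¹ * w⁻¹) * a⁻¹) * (a * w * a⁻¹ * w⁻¹) := by group
          rw [e, D.cz (hb' w hw) ha.1.1.1]
          exact mul_mem (hb' w hw) (ha' w hw)
        inv_mem' := by
          rintro a ⟨ha, ha'⟩
          refine ⟨inv_mem ha, fun w hw => ?_⟩
          have e : a⁻¹ * w * a⁻¹⁻¹ * w⁻¹ = a⁻¹ * (a * w * a⁻¹ * w⁻¹)⁻¹ * a⁻¹⁻¹ := by group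
          rw [e, D.cz (inv_mem (ha' w hw)) (inv_mem ha.1.1.1)]
          exact inv_mem (ha' w hw) }
    have hTE : T ≤ E₀ := le_inf (le_inf D.TC (ThmG.norm_sup D.TU0 D.TU1)) D.TU1
    have hTK : N ⊓ T ≤ K := by
      rintro t ⟨htN, ht⟩
      refine ⟨htN, fun x hx => ?_⟩
      obtain ⟨a, ha, b, hb, rfl⟩ := OM.KTwo.exists_mul_of_mem_sup hn hx
      have h1 : t * b * t⁻¹ = b := by rw [← mem_centralizer_iff.1 htN.2 b hb, mul_inv_cancel_right]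
      have e : t * (a * b) * t⁻¹ * (a * b)⁻¹ = t * a * t⁻¹ * (t * b * t⁻¹) * b⁻¹ * a⁻¹ := by group
      rw [e, h1, mul_inv_cancel_right]
      exact D.com t ht a ha
    have hodd : ¬ 2 ∣ K.relIndex N := by
      intro h
      refine ThmG.not_dvd_inf (H := E₀) (T := T) (N := N) hTE (D.oddR hTE (inf_le_left.trans inf_le_left))
        inf_le_left ?_ (h.trans (Subgroup.relIndex_dvd_of_le_left N hTK))
      refine NO3L.LemP.le_normalizer_inf le_normalizer ?_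
      exact (inf_le_right : E₀ ≤ _).trans (NO3L.LemP.normalizer_le_normalizer_cent (U 1))
    have hNK : N ≤ normalizer (K : Set G) := by
      have key2 : ∀ g ∈ N, ∀ k ∈ K, g * k * g⁻¹ ∈ K := by
        rintro g hg k ⟨hk, hk'⟩
        refine ⟨mul_mem (mul_mem hg hk) (inv_mem hg), fun x hx => ?_⟩
        have h1 : g⁻¹ * x * g ∈ U 0 ⊔ U 1 := by
          have := (mem_normalizer_iff.1 (inv_mem hg.1.1.2) x).1 hx
          rwa [inv_inv] at this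
        have h2 := hk' _ h1
        have e : g * k * g⁻¹ * x * (g * k * g⁻¹)⁻¹ * x⁻¹ = g * (k * (g⁻¹ * x * g) * k⁻¹ * (g⁻¹ * x * g)⁻¹) * g⁻¹ := by
          group
        rw [e, D.cz h2 hg.1.1.1]
        exact h2
      intro g hg
      rw [mem_normalizer_iff]
      intro k
      refine ⟨key2 g hg k, fun h => ?_⟩
      have := key2 g⁻¹ (inv_mem hg) _ h
      have e : g⁻¹ * (g * k * g⁻¹) * g⁻¹⁻¹ = k := by group
      rwa [e] at this
    have hcN : l⁻¹ * r₀ ∈ N := by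
      refine mem_inf.2 ⟨mem_inf.2 ⟨mem_inf.2 ⟨mul_mem (Subgroup.inv_mem _ hl) (hRC hr₀),
        mul_mem (Subgroup.inv_mem _ hlV) (hV hr₀)⟩, mul_mem (Subgroup.inv_mem _ hlU1) (hU1 hr₀)⟩,
        mem_centralizer_iff.2 fun x hx => ?_⟩
      have h1 := hlr x hx
      have h2 : r₀ * x = l * x * l⁻¹ * r₀ := by rw [h1]; group
      calc x * (l⁻¹ * r₀) = l⁻¹ * (l * x * l⁻¹ * r₀) := by group
        _ = l⁻¹ * r₀ * x := by rw [← h2]; group
    have hcK : l⁻¹ * r₀ ∈ K := by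
      refine mem_of_sq hNK hodd hcN ⟨mul_mem hcN hcN, fun x hx => ?_⟩
      -- `[c', x] ∈ Z 0 ⊔ U 1`
      set g := l⁻¹ * r₀ with hg
      have hZU : ∀ y ∈ Z 0 ⊔ U 1, g * y * g⁻¹ = y := by
        intro y hy
        have h1 : Z 0 ⊔ U 1 ≤ centralizer {g} := by
          refine sup_le (fun y hy => ?_) fun y hy => ?_
          · exact mem_centralizer_singleton_iff.2 (mem_centralizer_iff.1 hcN.1.1.1 y hy)
          · exact mem_centralizer_singleton_iff.2 (mem_centralizer_iff.1 hcN.2 y hy)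
        rw [← mem_centralizer_singleton_iff.1 (h1 hy), mul_inv_cancel_right]
      have hlM : ∀ y ∈ Z 0 ⊔ U 1, l⁻¹ * y * l ∈ Z 0 ⊔ U 1 := by
        intro y hy
        have h1 : l⁻¹ ∈ normalizer ((Z 0 ⊔ U 1 : Subgroup G) : Set G) := by
          refine inv_mem ((ThmG.norm_sup (K := zpowers l) ?_ ?_) (mem_zpowers l))
          · rw [zpowers_le]; exact centralizer_le_normalizer _ hl
          · rw [zpowers_le]; exact hlU1
        have := (mem_normalizer_iff.1 h1 y).1 hy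
        rwa [inv_inv] at this
      have hgx : g * x * g⁻¹ * x⁻¹ ∈ Z 0 ⊔ U 1 := by
        have h1 := hq r₀ hr₀ x hx
        have h2 : l⁻¹ * x * l * x⁻¹ ∈ U 1 := by
          obtain ⟨a, ha, b, hb, rfl⟩ := OM.KTwo.exists_mul_of_mem_sup hn hx
          have h3 : l⁻¹ * a * l = a := by
            calc l⁻¹ * a * l = l⁻¹ * (l * a * l⁻¹) * l := by rw [hlN a ha]
              _ = a := by group
          have h4 : l⁻¹ * b * l ∈ U 1 := by
            have := (mem_normalizer_iff.1 (inv_mem hlU1) b).1 hb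
            rwa [inv_inv] at this
          have h5 : l⁻¹ * b * l * b⁻¹ ∈ U 1 := mul_mem h4 (inv_mem hb)
          have e : l⁻¹ * (a * b) * l * (a * b)⁻¹ = (l⁻¹ * a * l) * (l⁻¹ * b * l * b⁻¹) * a⁻¹ := by group
          rw [e, h3, D.cm (D.U0N ha) (D.U1X h5), mul_inv_cancel_right]
          exact h5
        have e : g * x * g⁻¹ * x⁻¹ = (l⁻¹ * (r₀ * x * r₀⁻¹ * x⁻¹) * l) * (l⁻¹ * x * l * x⁻¹) := by
          rw [hg]; group
        rw [e]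
        exact mul_mem (hlM _ h1) (mem_sup_right h2)
      have h1 := hZU _ hgx
      have e : g * g * x * (g * g)⁻¹ * x⁻¹ = (g * (g * x * g⁻¹ * x⁻¹) * g⁻¹) * (g * x * g⁻¹ * x⁻¹) := by group
      rw [e, h1, D.Nsq (sup_le D.Z0N D.U1X hgx)]
      exact one_mem _
    -- `δ ∈ Z 0`
    have hc1 := hc r₀ hr₀
    have hc2 := hcK.2 _ hcV
    set c := w * u * z with hcdef
    have h1 : l⁻¹ * c * l * c⁻¹ ∈ Z 0 := by
      have e : (l⁻¹ * r₀) * c * (l⁻¹ * r₀)⁻¹ * c⁻¹ = (l⁻¹ * (r₀ * c * r₀⁻¹ * c⁻¹) * l⁻¹⁻¹) * (l⁻¹ * c * l * c⁻¹) := by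
        group
      rw [e, D.cz hc1 (inv_mem hl)] at hc2
      exact (Subgroup.mul_mem_cancel_left _ hc1).1 hc2
    have h2 : l⁻¹ * c * l * c⁻¹ = δ := by
      have h3 : l⁻¹ * w * l = w := by
        calc l⁻¹ * w * l = l⁻¹ * (l * w * l⁻¹) * l := by rw [hlN w hw]
          _ = w := by group
      have h4 : l⁻¹ * z * l = z := by
        calc l⁻¹ * z * l = l⁻¹ * (l * z * l⁻¹) * l := by rw [hlN z (D.ZU hz)]
          _ = z := by group
      have e : l⁻¹ * c * l * c⁻¹ = (l⁻¹ * w * l) * (l⁻¹ * u * l) * (l⁻¹ * z * l) * z⁻¹ * u⁻¹ * w⁻¹ := by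
        rw [hcdef]; group
      rw [e, h3, h4, mul_inv_cancel_right]
      have e2 : w * (l⁻¹ * u * l) * u⁻¹ * w⁻¹ = w * δ * w⁻¹ := by rw [hδ]; group
      rw [e2, D.cm (D.U0N hw) (D.U1X hδU), mul_inv_cancel_right]
    rw [h2] at h1
    have h3 : δ ∈ Z 0 ⊓ U 1 := mem_inf.2 ⟨h1, hδU⟩
    rw [D.inf0U, mem_bot] at h3
    exact hδ1 h3
  intro r hr w hw
  obtain ⟨c, hcV, hcw, hc⟩ := ThmG.avg (U := U 0 ⊔ U 1) (T := T) (R := R) (Z := Z 0) (M := Z 0 ⊔ U 1) (v := w)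
    (fun x hx y hy => D.cm (D.VN hx) (D.VN hy)) hV hRZ (D.oddR hR.le hRC) (mem_sup_left hw) (D.Nsq (D.U0N hw))
    (fun t ht => D.com t ht w hw) (fun r hr => hq r hr w (mem_sup_left hw))
  have h1 := key w hw c hcV hcw hc
  have h2 := hc r hr
  have h3 : r * w * r⁻¹ * w⁻¹ ∈ X :=
    mul_mem ((mem_normalizer_iff.1 (D.CN (hRC hr)) w).1 (D.U0N hw)) (inv_mem (D.U0N hw))
  have e : r * c * r⁻¹ * c⁻¹ = r * w * r⁻¹ * w⁻¹ := by
    have e1 : r * c * r⁻¹ * c⁻¹ = (r * (c * w⁻¹) * r⁻¹) * (r * w * r⁻¹ * w⁻¹) * (c * w⁻¹)⁻¹ := by group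
    rw [e1, D.cz h1 (hRC hr), D.cm (D.Z0N h1) h3, mul_inv_cancel_right]
  rwa [e] at h2

/-- the minimal parabolics over `T` which normalise `U 0` fix `U 0 / Z 0` pointwise -/
theorem triv_y [Finite G] {R : Subgroup G} (hR : IsMinPar T R) (hRC : R ≤ centralizer (Z 0 : Set G))
    (hU : R ≤ normalizer (U 0 : Set G)) : ∀ r ∈ R, ∀ w ∈ U 0, r * w * r⁻¹ * w⁻¹ ∈ Z 0 :=
  D.triv_of hR hRC hU (hRC.trans (centralizer_le_normalizer _)) D.com

/-- **(U1)** -/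
theorem u1 [Finite G] {R : Subgroup G} (hR : IsMinPar T R) (hRC : R ≤ centralizer (Z 0 : Set G)) {m r₀ : G}
    (hm : m ∈ Z 1) (hmT : ∀ t ∈ T, t * m * t⁻¹ = m) (hr₀ : r₀ ∈ R) (hmr : r₀ * m * r₀⁻¹ ≠ m) :
    ∀ r ∈ R, ∀ w ∈ U 0, r * w * r⁻¹ * w⁻¹ ∈ Z 0 := by
  by_cases h1 : R ≤ normalizer (Z 1 : Set G)
  · refine D.triv_y hR hRC ?_
    have h2 : R ≤ normalizer ((T ⊓ centralizer (Z 1 : Set G) : Subgroup G) : Set G) := by
      refine D.norm_inf hR hRC (h1.trans (NO3L.LemP.normalizer_le_normalizer_cent _)) fun h => hmr ?_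
      have h3 : centralizer (Z 1 : Set G) ⊓ R ⊔ T ≤ centralizer {m} := by
        refine sup_le (inf_le_left.trans (centralizer_le (by simpa using hm))) fun t ht => ?_
        rw [mem_centralizer_singleton_iff]
        calc t * m = t * m * t⁻¹ * t := by group
          _ = m * t := by rw [hmT t ht]
      rw [mem_centralizer_singleton_iff.1 (h3 (h hr₀)), mul_inv_cancel_right]
    rw [D.TB] at h2
    exact (le_inf hRC h2).trans D.nB
  · exact D.uni2 hR hRC h1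

end QFs

end Cfsg.Agent.Omega.KL.QF
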