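import Cfsg.Agent.Omega.KL.Q.ExG
import Cfsg.Agent.Omega.NO3S.EThree.RQ

/-!
# Not FAIL (helper23 #22505 (II), helper475 #24418), two centres of any order, no generation by minimal parabolics (helper651)

`D : FQ Z U B q`, `I : ExG.In Z U`, `O = O₂(C_G(Z 0 Z 1))`.

* `not_fail` : some `A ∈ AA O`, `A ≤ Q_1`, with `C_A(ZV)` moving `N_0`, `ZV = ⟨Z_1 ^ C_G(U_0)⟩`;
* **`exists_exX`** : if `AA O` centralises `U 0` : some elementary abelian `A ≤ O ∩ O₂(C_G(U_0))` which moves `N_0` is exact on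
  `X_0 = XW Z U (Z 0)`, with the same kernel.
-/

set_option autoImplicit false
set_option linter.unusedSectionVars false

namespace Cfsg.Agent.Omega.KL.QF.NotFail

open Subgroup Cfsg Cfsg.Agent.ZN Cfsg.Agent.Omega.MinPar
open Cfsg.Agent.Omega.OM.PG Cfsg.Agent.Omega.OM.PG.Peel
open Cfsg.Agent.Omega.NO3S.EThree
open Cfsg.Agent.Omega.NO3S.EThree.ExactA (eab_iff eab_mono eab_sup swp)
open Cfsg.Agent.Omega.NoFF.Basic (conj_conj mem_conj conj_le_iff conj_le_centralizer comm_symm comm_mono Z_le_V V_le)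
open Cfsg.Agent.Omega.NOThreeL.Pair (conj_eq_of_mem)
open Cfsg.Agent.ZN.ChoiceBase (AA mm mm_eq mem_AA_iff AA_nonempty card_le_mm cj_mem_AA mm_cj)
open Cfsg.Agent.Omega.KL.Q.ExG (In ZV conj_ZV conj_cent conj_inf le_V' le_normalizer_V' le_norm_of)
open scoped Pointwise

universe u

variable {G : Type u} [Group G] [Finite G] {Z U : Fin 2 → Subgroup G} {B : Subgroup G} {q : ℕ}

/-- `C_A(N_0) N_0` -/
def RR (Z : Fin 2 → Subgroup G) (A : Subgroup G) : Subgroup G :=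
  (A ⊓ centralizer (NN Z (Z 0) : Set G)) ⊔ NN Z (Z 0)

/-- `{C_A(N_0) N_0 : A ∈ AA O, A ≤ Q_1}` -/
def SS (Z : Fin 2 → Subgroup G) : Set (Subgroup G) :=
  {X | ∃ A ∈ AA (OO Z), A ≤ QQ (Z 1) ∧ X = RR Z A}

/-- FAIL -/
def Fail (Z U : Fin 2 → Subgroup G) : Prop :=
  ∀ A ∈ AA (OO Z), A ≤ QQ (Z 1) → A ⊓ centralizer (ZV Z U : Set G) ≤ centralizer (NN Z (Z 0) : Set G)

section

variable (D : FQ Z U B q)
include D

/-- conjugation by `HH (Z i)` preserves `AA O ∩ Q_i` -/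
theorem conj_AA (i : Fin 2) {A : Subgroup G} (hA : A ∈ AA (OO Z)) (hAQ : A ≤ QQ (Z i)) {g : G} (hg : g ∈ HH (Z i)) :
    MulAut.conj g • A ∈ AA (OO Z) ∧ MulAut.conj g • A ≤ QQ (Z i) := by
  have h3 := conj_le_iff (g := g) |>.2 hAQ
  have h4 : MulAut.conj g • QQ (Z i) = QQ (Z i) := conj_eq_of_mem (MinSimple.VModule.le_normalizer_o2 _ hg)
  rw [h4] at h3
  refine ⟨?_, h3⟩
  have h2 := cj_mem_AA g hA
  rw [mem_AA_iff] at hA ⊢
  refine ⟨h2.1, h3.trans (D.Q_le_O i), ?_⟩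
  have h5 : Nat.card (MulAut.conj g • A : Subgroup G) = Nat.card A := ChoiceBase.card_cj g A
  rw [h5]
  exact hA.2.2

theorem RR_mem (hNO : NoDQ Z) {A : Subgroup G} (hA : A ∈ AA (OO Z)) :
    RR Z A ∈ AA (OO Z) ∧ RR Z A ≤ QQ (Z 0) ∧ NN Z (Z 0) ≤ RR Z A := by
  have h := (D.exact_AA hNO 0 hA).2.2
  refine ⟨h, ?_, le_sup_right⟩
  exact (le_inf h.2.1 (sup_le inf_le_right (D.N_comm 0))).trans (D.O_inf_le 0)

variable (I : In Z U)
include I

theorem Q1_le_C : QQ (Z 1) ≤ centralizer (U 0 : Set G) :=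
  (D.Q_cent_N 1).trans (centralizer_le I.U01)

theorem nobZV {A : Subgroup G} (hA : A ∈ AA (OO Z)) (hAQ : A ≤ QQ (Z 1)) : Nob (ZV Z U) A :=
  I.noH A hA.1 hAQ (hAQ.trans (Q1_le_C D I))

theorem fail_eq (hF : Fail Z U) (hNO : NoDQ Z) {A : Subgroup G} (hA : A ∈ AA (OO Z)) (hAQ : A ≤ QQ (Z 1)) :
    RR Z A = (A ⊓ centralizer (ZV Z U : Set G)) ⊔ ZV Z U := by
  have h1 := (RR_mem D hNO hA).1
  have h2 : (A ⊓ centralizer (ZV Z U : Set G)) ⊔ ZV Z U ∈ AA (OO Z) :=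
    (swp (eab_mono (D.N_eab 0) I.ZV_le) (I.ZV_le.trans (D.N_le_O 0)) hA (nobZV D I hA hAQ)).2.2
  have h3 : (A ⊓ centralizer (ZV Z U : Set G)) ⊔ ZV Z U ≤ RR Z A :=
    sup_le_sup (le_inf inf_le_left (hF A hA hAQ)) I.ZV_le
  exact (Subgroup.eq_of_le_of_card_ge h3 (h2.2.2 _ h1.1 h1.2.1)).symm

theorem SS_step (hF : Fail Z U) (hNO : NoDQ Z) {g : G} (hg : g ∈ HH (Z 1)) (hg2 : g ∈ HH (Z 0) ∨ g ∈ HH (U 0))
    {X : Subgroup G} (hX : X ∈ SS Z) : MulAut.conj g • X ∈ SS Z := by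
  obtain ⟨A, hA, hAQ, rfl⟩ := hX
  obtain ⟨hA', hAQ'⟩ := conj_AA D 1 hA hAQ hg
  refine ⟨MulAut.conj g • A, hA', hAQ', ?_⟩
  rcases hg2 with h | h
  · have e2 : MulAut.conj g • NN Z (Z 0) = NN Z (Z 0) := conj_eq_of_mem (D.HH_norm_N 0 h)
    unfold RR
    rw [Subgroup.smul_sup, conj_inf, conj_cent, e2]
  · have e2 : MulAut.conj g • ZV Z U = ZV Z U := conj_ZV hg h
    rw [fail_eq D I hF hNO hA hAQ, fail_eq D I hF hNO hA' hAQ', Subgroup.smul_sup, conj_inf, conj_cent, e2]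

theorem SS_inv (hF : Fail Z U) (hNO : NoDQ Z) {g : G} (hg : g ∈ HH (Z 1)) {X : Subgroup G} (hX : X ∈ SS Z) :
    MulAut.conj g • X ∈ SS Z := by
  let K : Subgroup G :=
    { carrier := {g | ∀ X, X ∈ SS Z ↔ MulAut.conj g • X ∈ SS Z}
      one_mem' := fun X => by rw [map_one, one_smul]
      mul_mem' := by
        intro a b ha hb X
        rw [hb X, ha, conj_conj]
      inv_mem' := by
        intro a ha X
        have h := ha (MulAut.conj a⁻¹ • X)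
        rw [conj_conj, mul_inv_cancel, map_one, one_smul] at h
        exact h.symm }
  have key : ∀ r : G, r ∈ HH (Z 1) → (r ∈ HH (Z 0) ∨ r ∈ HH (U 0)) → r ∈ K := by
    intro r hr hr2 X
    refine ⟨SS_step D I hF hNO hr hr2, fun h => ?_⟩
    have h1 := SS_step D I hF hNO (inv_mem hr) (hr2.imp (fun h => inv_mem h) fun h => inv_mem h) h
    rwa [conj_conj, inv_mul_cancel, map_one, one_smul] at h1
  have h : HH (Z 1) ≤ K :=
    I.gen.trans (sup_le (fun r hr => key r hr.1 (Or.inr hr.2)) fun r hr => key r hr.1 (Or.inl hr.2))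
  exact (h hg X).1 hX

theorem SS_le (hF : Fail Z U) (hNO : NoDQ Z) {X : Subgroup G} (hX : X ∈ SS Z) : X ≤ QQ (Z 1) := by
  have hm : ∀ Y ∈ SS Z, Y ≤ OO Z := by
    rintro Y ⟨A, hA, -, rfl⟩
    exact (RR_mem D hNO hA).1.2.1
  have h1 : NoFF.Basic.V X (HH (Z 1)) ≤ OO Z := V_le fun c hc => hm _ (SS_inv D I hF hNO hc hX)
  have h2 : NoFF.Basic.V X (HH (Z 1)) ≤ QQ (Z 1) :=
    MinSimple.VModule.le_o2 ((h1.trans D.O_le_B).trans (D.B_le_HH 1)) ((MinSimple.VModule.o2_isPGroup _).to_le h1) (le_normalizer_V' _ _)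
  exact (le_V' _ _).trans h2

theorem SS_iff (hF : Fail Z U) (hNO : NoDQ Z) (X : Subgroup G) :
    X ∈ SS Z ↔ X ∈ AA (OO Z) ∧ X ≤ QQ (Z 0) ∧ X ≤ QQ (Z 1) := by
  constructor
  · intro hX
    have h := SS_le D I hF hNO hX
    obtain ⟨A, hA, -, rfl⟩ := hX
    exact ⟨(RR_mem D hNO hA).1, (RR_mem D hNO hA).2.1, h⟩
  · rintro ⟨h1, h2, h3⟩
    refine ⟨X, h1, h3, ?_⟩
    have h4 : X ≤ centralizer (NN Z (Z 0) : Set G) := h2.trans (D.Q_cent_N 0)
    have h5 : NN Z (Z 0) ≤ X := (le_inf le_rfl (comm_symm h4)).trans (D.exact_AA hNO 0 h1).2.1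
    unfold RR
    rw [inf_eq_left.2 h4, sup_eq_left.2 h5]

/-- **not FAIL** -/
theorem not_fail (hNO : NoDQ Z) (hF : Fail Z U) : False := by
  obtain ⟨s, -, hs0, hs1, -, -⟩ := D.swB
  have hO : MulAut.conj s • OO Z = OO Z := by
    have h2 : MulAut.conj s • (Z 0 ⊔ Z 1) = Z 0 ⊔ Z 1 := by
      rw [Subgroup.smul_sup, hs0, hs1, sup_comm]
    have h3 : s ∈ normalizer ((Z 0 ⊔ Z 1 : Subgroup G) : Set G) := ChoiceBase.mem_normalizer_iff_cj.2 h2
    have h4 := NO3L.LemP.normalizer_le_normalizer_cent (Z 0 ⊔ Z 1) h3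
    exact conj_eq_of_mem (Cfsg.Agent.Omega.normalizer_le_normalizer_o2' _ h4)
  have hs : ∀ X, X ∈ SS Z → MulAut.conj s • X ∈ SS Z := by
    intro X hX
    rw [SS_iff D I hF hNO] at hX ⊢
    obtain ⟨h1, h2, h3⟩ := hX
    refine ⟨?_, ?_, ?_⟩
    · have h4 := cj_mem_AA s h1
      have h5 : ChoiceBase.cj s (OO Z) = OO Z := hO
      rwa [h5] at h4
    · have h4 := conj_le_iff (g := s) |>.2 h3
      rwa [← QQ_conj, hs1] at h4
    · have h4 := conj_le_iff (g := s) |>.2 h2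
      rwa [← QQ_conj, hs0] at h4
  have hs' : ∀ X, X ∈ SS Z → MulAut.conj s⁻¹ • X ∈ SS Z := by
    intro X hX
    rw [SS_iff D I hF hNO] at hX ⊢
    obtain ⟨h1, h2, h3⟩ := hX
    have e0 : MulAut.conj s⁻¹ • Z 1 = Z 0 := by rw [← hs0, inv_conj_conj]
    have e1 : MulAut.conj s⁻¹ • Z 0 = Z 1 := by rw [← hs1, inv_conj_conj]
    refine ⟨?_, ?_, ?_⟩
    · have h4 := cj_mem_AA s⁻¹ h1
      have h5 : ChoiceBase.cj s⁻¹ (OO Z) = OO Z := by
        have h6 : MulAut.conj s⁻¹ • (MulAut.conj s • OO Z) = OO Z := inv_conj_conj s _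
        rw [hO] at h6
        exact h6
      rwa [h5] at h4
    · have h4 := conj_le_iff (g := s⁻¹) |>.2 h3
      rwa [← QQ_conj, e0] at h4
    · have h4 := conj_le_iff (g := s⁻¹) |>.2 h2
      rwa [← QQ_conj, e1] at h4
  set J : Subgroup G := ⨆ A : SS Z, (A : Subgroup G) with hJ
  have hJO : J ≤ OO Z := iSup_le fun A => ((SS_iff D I hF hNO _).1 A.2).1.2.1
  have hinv : ∀ g : G, (∀ X, X ∈ SS Z → MulAut.conj g • X ∈ SS Z) → ∀ x ∈ J, g * x * g⁻¹ ∈ J := by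
    intro g hg x hx
    have h2 : J ≤ MulAut.conj g⁻¹ • J := by
      refine iSup_le fun A => ?_
      have h3 : MulAut.conj g • (A : Subgroup G) ≤ J := le_iSup (fun A : SS Z => (A : Subgroup G)) ⟨_, hg A A.2⟩
      have h4 : MulAut.conj g⁻¹ • (MulAut.conj g • (A : Subgroup G)) ≤ MulAut.conj g⁻¹ • J := conj_le_iff.2 h3
      rwa [conj_conj, inv_mul_cancel, map_one, one_smul] at h4
    have h5 := h2 hx
    rw [mem_conj, inv_inv] at h5
    exact h5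
  have hJ1 : J = ⊥ := by
    refine D.nonLoc J ((MinSimple.VModule.o2_isPGroup _).to_le hJO) (le_norm_of fun g hg => hinv g fun X hX => ?_)
      (le_norm_of fun g hg => hinv g fun X hX => SS_inv D I hF hNO hg hX)
    have h1 : s * g * s⁻¹ ∈ HH (Z 1) := by
      rw [← hs0, HH_conj, mem_conj]
      have e : s⁻¹ * (s * g * s⁻¹) * s = g := by group
      rwa [e]
    have h2 := hs' _ (SS_inv D I hF hNO h1 (hs X hX))
    rw [conj_conj, conj_conj] at h2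
    have e : s⁻¹ * (s * g * s⁻¹) * s = g := by group
    rwa [e] at h2
  obtain ⟨A', hA'⟩ := AA_nonempty (OO Z)
  have h1 := (D.exact_AA hNO 1 hA').2.2
  have h2 : (A' ⊓ centralizer (NN Z (Z 1) : Set G)) ⊔ NN Z (Z 1) ≤ QQ (Z 1) :=
    (le_inf h1.2.1 (sup_le inf_le_right (D.N_comm 1))).trans (D.O_inf_le 1)
  have h3 : RR Z ((A' ⊓ centralizer (NN Z (Z 1) : Set G)) ⊔ NN Z (Z 1)) ∈ SS Z := ⟨_, h1, h2, rfl⟩
  have h4 : Z 1 ≤ J := I.adj01.le_NN.trans ((le_sup_right : NN Z (Z 0) ≤ _).trans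
    (le_iSup (fun A : SS Z => (A : Subgroup G)) ⟨_, h3⟩))
  rw [hJ1, le_bot_iff] at h4
  apply D.ne
  rw [← hs1, h4, Subgroup.smul_bot]

/-- **The exact group on `X_0`** if `AA O` centralises `U 0`. -/
theorem exists_exX (hNO : NoDQ Z) (hc : ∀ A ∈ AA (OO Z), A ≤ centralizer (U 0 : Set G)) :
    ∃ A : Subgroup G, IsElementaryAbelian 2 A ∧ A ≤ OO Z ∧ A ≤ o2 (centralizer (U 0 : Set G)) ∧
      (centralizer (A : Set G)).relIndex (XW Z U (Z 0)) ≤ (centralizer (NN Z (Z 0) : Set G)).relIndex A ∧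
      ¬ A ≤ centralizer (NN Z (Z 0) : Set G) := by
  by_contra hcon
  refine not_fail D I hNO fun A hA hAQ => ?_
  by_contra hmv
  apply hcon
  have hNX : NN Z (Z 0) ≤ XW Z U (Z 0) := le_sup_left
  -- `C_A(N_0)` centralises `X_0`
  have hK := RR_mem D hNO hA
  have hKX : RR Z A ≤ centralizer (XW Z U (Z 0) : Set G) := by
    have hKC : RR Z A ≤ centralizer (NN Z (Z 0) : Set G) := hK.2.1.trans (D.Q_cent_N 0)
    refine comm_symm (sup_le (comm_symm hKC) (iSup_le fun l => comm_symm ?_))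
    obtain ⟨c, hc', e⟩ := D.ln_conj l.2
    have h1 := (conj_AA D 0 hK.1 hK.2.1 (inv_mem hc')).1
    have h4 := conj_le_centralizer (g := c) (hc _ h1)
    rw [conj_conj, mul_inv_cancel, map_one, one_smul] at h4
    rw [e]
    exact h4
  have hAX : A ⊓ centralizer (NN Z (Z 0) : Set G) ≤ centralizer (XW Z U (Z 0) : Set G) :=
    (le_sup_left : _ ≤ RR Z A).trans hKX
  have hrel : ∀ A' ≤ A, (centralizer (XW Z U (Z 0) : Set G)).relIndex A' =
      (centralizer (NN Z (Z 0) : Set G)).relIndex A' := by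
    intro A' hA'
    rw [← inf_relIndex_left A', ← inf_relIndex_left A' (centralizer (NN Z (Z 0) : Set G))]
    congr 1
    refine le_antisymm (inf_le_inf_left _ (centralizer_le hNX)) (le_inf inf_le_left ?_)
    exact (inf_le_inf_right _ hA').trans hAX
  have hnob : ∀ A' ≤ A, Nob (NN Z (Z 0)) A' → Nob (XW Z U (Z 0)) A' := by
    intro A' hA' h
    unfold Nob at h ⊢
    rw [hrel A' hA']
    exact h.trans (relIndex_le_of_le_right hNX index_ne_zero_of_finite)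
  have hXO : XW Z U (Z 0) ≤ OO Z := (D.XW_le_Q 0).trans (D.Q_le_O 0)
  have hE : Exa (XW Z U (Z 0)) A := (swp (D.XW_eab 0) hXO hA (hnob A le_rfl (hNO 0 A hA.1 hA.2.1))).1
  have h1 : IsElementaryAbelian 2 (A ⊓ centralizer (ZV Z U : Set G) : Subgroup G) := eab_mono hA.1 inf_le_left
  have h2 : A ⊓ centralizer (ZV Z U : Set G) ≤ OO Z := inf_le_left.trans hA.2.1
  have h3 := (exa_peel (I.ZV_le.trans hNX) hE (nobZV D I hA hAQ) (hnob _ inf_le_left (hNO 0 _ h1 h2))).1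
  refine ⟨_, h1, h2, ?_, ?_, hmv⟩
  · exact I.le_o2_cent h2 (inf_le_left.trans (hAQ.trans (Q1_le_C D I))) inf_le_right
  · unfold Exa at h3
    rw [← h3, hrel _ inf_le_left]

end

end Cfsg.Agent.Omega.KL.QF.NotFail
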