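import Cfsg.Agent.Omega.KL.QF.PtV
import Cfsg.Agent.Omega.OM.UniPlus

/-!
# `QFr` from the frame `Bg`, `k = 2`, any `q` (#22058, #22723; helper20)

* `GenU` : generation by blocks: the minimal parabolics `R` over `T = C_S(Z i)` in `C(Z i)` which move `Z j` are
  `⟨T, L'⟩`, `L'` a natural block with `[V', B] = Z l`, `V' ≤ W l Z_J`;
* `FixU` : `r ∈ R`, `w ∈ W i`, `r w r⁻¹ ∈ O₂(P)`, `[r w r⁻¹, O₂(P)] ≤ Z i` : `r w r⁻¹ ∈ V_P`;
* `qfr_of` : **`QFr ![Z i, Z j] ![W i, W j] B T`**.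
-/

set_option autoImplicit false
set_option linter.unusedSectionVars false
set_option maxHeartbeats 400000

namespace Cfsg.Agent.Omega.KL.QF.OfBg

open Subgroup Cfsg Cfsg.Agent.ZN.ChoiceBase
open Cfsg.Agent.ZN (jj zj bau zc zl o2)
open Cfsg.Agent.ZN.ChoiceSit (Syl exists_syl syl_conj)
open Cfsg.Agent.Omega.OM Cfsg.Agent.Omega.OM.Uni
open Cfsg.Agent.Omega.OM.UniPlus (NB)
open Cfsg.Agent.Omega.NO3S.EThree.Frame
open Cfsg.Agent.Omega.MinPar (NonLoc)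
open Cfsg.Agent.MinSimple.MinParabolic (IsMinPar)
open PtV
open scoped Pointwise

universe u

variable {G : Type u} [Group G]

/-- The minimal parabolics over `T = C_S(Z i)` in `C(Z i)` which move `Z j` are `⟨T, L'⟩`, `L'` a block. -/
def GenU (S : Subgroup G) (B ZJ : Subgroup G) {ι : Type} (W Z : ι → Subgroup G) (q : ℕ) (i j : ι) : Prop :=
  ∀ R : Subgroup G, IsMinPar (S ⊓ centralizer (Z i : Set G)) R → R ≤ centralizer (Z i : Set G) →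
    ¬ R ≤ normalizer (Z j : Set G) → ∃ (L' V' : Subgroup G) (l : ι), L' ≤ R ∧
      R ≤ (S ⊓ centralizer (Z i : Set G)) ⊔ L' ∧ NB B L' V' (Z l) q ∧ V' ≤ W l ⊔ ZJ

/-- FIX for the conjugates of `W i` in `C(Z i)`. -/
def FixU (S P : Subgroup G) {ι : Type} (W Z : ι → Subgroup G) (i j : ι) : Prop :=
  ∀ R : Subgroup G, IsMinPar (S ⊓ centralizer (Z i : Set G)) R → R ≤ centralizer (Z i : Set G) →
    ¬ R ≤ normalizer (Z j : Set G) → ∀ r ∈ R, ∀ w ∈ W i, r * w * r⁻¹ ∈ o2 P →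
      (∀ b ∈ o2 P, r * w * r⁻¹ * b * (r * w * r⁻¹)⁻¹ * b⁻¹ ∈ Z i) → r * w * r⁻¹ ∈ zl S P

section

variable [Finite G] {S : Sylow 2 G} {P : Subgroup G} {ι : Type} [Finite ι] {B ZJ : Subgroup G}
  {L W Z C : ι → Subgroup G} {q : ℕ} (h : Bg S P B ZJ L W Z C q) {i j : ι} {s : G}
  (p : Pa (S : Subgroup G) W i j s) (h2 : ∀ l : ι, l = i ∨ l = j)
  (hTI : TI (Z i))
  (hnl : NonLoc (normalizer (Z i : Set G)) (normalizer (Z j : Set G)))
include h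

include hTI in
/-- (TI) -/
theorem ti {a b : Subgroup G} (ha : PG.IsPt ![Z i, Z j] a) (hb : PG.IsPt ![Z i, Z j] b) {x : G} (hx : x ∈ a)
    (hx' : x ∈ b) (hx1 : x ≠ 1) : a = b := by
  obtain ⟨k, rfl⟩ := ha
  obtain ⟨l, rfl⟩ := hb
  have h1 : cj (l⁻¹ * k) (Z i) = Z i := by
    apply hTI
    intro hbot
    have h3 : l⁻¹ * x * l ∈ cj (l⁻¹ * k) (Z i) ⊓ Z i := by
      refine mem_inf.2 ⟨?_, mem_cj.1 hx'⟩
      rw [mem_cj]
      have e : (l⁻¹ * k)⁻¹ * (l⁻¹ * x * l) * (l⁻¹ * k) = k⁻¹ * x * k := by group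
      rw [e]
      exact mem_cj.1 hx
    rw [hbot, mem_bot] at h3
    apply hx1
    have e : x = l * (l⁻¹ * x * l) * l⁻¹ := by group
    rw [e, h3]; group
  have h3 := congrArg (cj l) h1
  rw [cj_cj, mul_inv_cancel_left] at h3
  exact h3

omit h in
theorem pti : PG.IsPt ![Z i, Z j] (Z i) := ⟨1, by rw [map_one, one_smul]; rfl⟩

include p in
theorem ptj : PG.IsPt ![Z i, Z j] (Z j) := ⟨s, (h.cj_s_Z p).symm⟩

include h2 in
theorem U1N (hij : i ≠ j) : W j ≤ PG.NN ![Z i, Z j] (Z i) := by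
  intro x hx
  by_cases hx1 : x = 1
  · rw [hx1]; exact one_mem _
  obtain ⟨l, -, hlc, z, hz, rfl⟩ := h.tr j x hx hx1
  have h3 : l ∈ centralizer (Z i : Set G) :=
    centralizer_le ((h.fr.blk i).ZV.trans (h.fr.WjC j i hij.symm)) hlc
  have h4 : PG.Adj ![Z i, Z j] (Z i) (cj l (Z j)) := by
    refine ⟨l, ?_, rfl⟩
    exact (cj_eq_of_mem_normalizer (centralizer_le_normalizer _ h3)).symm
  exact h4.le_NN ⟨z, hz, rfl⟩

theorem pts {x : G} (hx : x ∈ W i) (hx1 : x ≠ 1) : ∃ a, PG.IsPt ![Z i, Z j] a ∧ x ∈ a ∧ a ≤ W i := by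
  obtain ⟨l, hl, hlc, z, hz, rfl⟩ := h.tr i x hx hx1
  refine ⟨cj l (Z i), ⟨l, rfl⟩, ⟨z, hz, rfl⟩, ?_⟩
  rw [← h.fix hl hlc i]
  exact cj_mono l (h.fr.blk i).ZV

include hTI in
theorem prod {a : Subgroup G} (ha : PG.IsPt ![Z i, Z j] a) (haW : a ≤ W i) (hne : a ≠ Z i) : W i ≤ Z i ⊔ a := by
  have h3 : Z i ⊓ a = ⊥ := by
    rw [eq_bot_iff]
    rintro x ⟨hx, hx'⟩
    by_contra hx1
    exact hne (ti h hTI (i := i) (j := j) ha pti hx' hx hx1)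
  have h4 : Nat.card a = q := by
    obtain ⟨k, rfl⟩ := ha
    rw [← h.fr.cardZ i]
    exact card_cj k (Z i)
  have h5 := SQ1.Bau.card_sup_comm (A := Z i) (B := a)
    fun x hx y hy => (h.fr.blk i).comm ((h.fr.blk i).ZV hx) (haW hy)
  rw [h3, card_bot, mul_one, h4, h.fr.cardZ] at h5
  exact (Subgroup.eq_of_le_of_card_ge (sup_le (h.fr.blk i).ZV haW) (by rw [h5, card_W h])).ge

/-! ### UNI -/

include p h2 in
/-- `R ≤ N(W j)` and `V' = W j` -/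
theorem uni_a {R L' V' : Subgroup G} {l : ι} (hRC : R ≤ centralizer (Z i : Set G))
    (hLR : L' ≤ R) (hR : R ≤ ((S : Subgroup G) ⊓ centralizer (Z i : Set G)) ⊔ L') (hb : NB B L' V' (Z l) q)
    (hV : V' ≤ W l ⊔ ZJ) : R ≤ normalizer (W j : Set G) ∧ l = j ∧ V' = W j := by
  have hZi : ∀ z ∈ Z i, (∀ x ∈ L', x * z = z * x) := fun z hz x hx =>
    (mem_centralizer_iff.1 (hRC (hLR hx)) z hz).symm
  have hl : l = j := by
    rcases h2 l with rfl | rfl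
    · exfalso
      apply h.Z_ne l
      rw [eq_bot_iff]
      intro z hz
      exact mem_bot.2 (hb.cent hz (hZi z hz))
    · rfl
  subst hl
  set Y : Subgroup G := W l ⊔ Z i with hY
  have hVY : V' ≤ Y := by
    refine hV.trans ?_
    rw [ZJ_eq h h2 p.ne]
    exact sup_le le_sup_left (sup_le le_sup_right ((h.fr.blk l).ZV.trans le_sup_left))
  have hYV : Y ≤ zl (S : Subgroup G) P := sup_le (h.fr.WV l) (h.fr.ZV i)
  have hcardY : Nat.card Y = q * q * q := by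
    have h3 := SQ1.Bau.card_sup_comm (A := W l) (B := Z i) fun a ha b hb => h.fr.Vc (h.fr.WV l ha) (h.fr.ZV i hb)
    have h4 : W l ⊓ Z i = ⊥ := by
      rw [eq_bot_iff, ← h.W_disj p.ne]
      exact le_inf (inf_le_right.trans (h.fr.blk i).ZV) inf_le_left
    rwa [h4, card_bot, mul_one, card_W h, h.fr.cardZ] at h3
  have hYV' : Y = V' ⊔ Z i := by
    symm
    refine Subgroup.eq_of_le_of_card_ge (sup_le hVY le_sup_right) ?_
    have h3 := SQ1.Bau.card_sup_comm (A := V') (B := Z i)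
      fun a ha b hb => h.fr.Vc (hYV (hVY ha)) (h.fr.ZV i hb)
    have h4 : V' ⊓ Z i = ⊥ := by
      rw [eq_bot_iff]
      rintro x ⟨hx, hx'⟩
      refine mem_bot.2 (hb.cent ?_ (hZi x hx'))
      exact hb.toMd.mem_Z_iff.2 ⟨hx, fun b hbB => (h.fr.blk i).cZ b hbB x hx'⟩
    rw [h4, card_bot, mul_one, hb.card, hb.cardZ, h.fr.cardZ] at h3
    rw [h3, hcardY]
  have hTY : (S : Subgroup G) ⊓ centralizer (Z i : Set G) ≤ normalizer (Y : Set G) :=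
    PG.ThmG.norm_sup (TU1 h p h2) (inf_le_right.trans (centralizer_le_normalizer _))
  have hLY : L' ≤ normalizer (Y : Set G) := by
    rw [hYV']
    refine PG.ThmG.norm_sup (fun x hx => ?_) ((hLR.trans hRC).trans (centralizer_le_normalizer _))
    refine mem_normalizer_of_cj_le ?_
    rintro _ ⟨v, hv, rfl⟩
    exact hb.nV x hx v hv
  have hRY : R ≤ normalizer (Y : Set G) := hR.trans (sup_le hTY hLY)
  have hRW : R ≤ normalizer (W l : Set G) := by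
    intro r hr
    refine mem_normalizer_iff_cj.2 (cjWj h p h2 ?_)
    refine (cj_mono r (le_sup_left : W l ≤ Y)).trans ?_
    rw [cj_eq_of_mem_normalizer (hRY hr)]
  refine ⟨hRW, rfl, ?_⟩
  obtain ⟨k, hk, hs, -⟩ := hb.spl
  refine Subgroup.eq_of_le_of_card_ge ?_ (by rw [hb.card, hb.cardZ, card_W h])
  rw [hs]
  refine sup_le (h.fr.blk l).ZV ?_
  refine (cj_mono k (h.fr.blk l).ZV).trans ?_
  rw [cj_eq_of_mem_normalizer (hRW (hLR hk))]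

/-- transitivity on the nonzero vectors of `W j` -/
theorem uni_c {R L' : Subgroup G} (hBR : B ≤ R) (hLR : L' ≤ R) (hb : NB B L' (W j) (Z j) q) {x y : G} (hx : x ∈ W j)
    (hx1 : x ≠ 1) (hy : y ∈ W j) (hy1 : y ≠ 1) : ∃ r ∈ R, r * x * r⁻¹ = y := by
  obtain ⟨k, hk, hs, hbot⟩ := hb.spl
  -- every vector is conjugate into `Z j`
  have key : ∀ x ∈ W j, x ≠ 1 → ∃ r ∈ R, r * x * r⁻¹ ∈ Z j := by
    intro x hx hx1
    by_cases hxZ : x ∈ Z j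
    · exact ⟨1, one_mem _, by simpa using hxZ⟩
    have hx' := hx
    rw [hs] at hx'
    obtain ⟨z, hz, c, hc, rfl⟩ := SQ1.Bau.mem_sup_comm
      (fun a ha b hb' => hb.comm (hb.ZV ha) (hb.cjV hk hb')) hx'
    -- `b` maps `z c` to `c`
    obtain ⟨b, hbB, -, e⟩ := h.root j (z * c) hx hxZ z⁻¹ (inv_mem hz)
    have e1 : b * (z * c) * b⁻¹ = c := by
      calc b * (z * c) * b⁻¹ = (b * (z * c) * b⁻¹ * (z * c)⁻¹) * (z * c) := by group
        _ = z⁻¹ * (z * c) := by rw [e]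
        _ = c := by group
    refine ⟨k⁻¹ * b, mul_mem (inv_mem (hLR hk)) (hBR hbB), ?_⟩
    have e2 : k⁻¹ * b * (z * c) * (k⁻¹ * b)⁻¹ = k⁻¹ * (b * (z * c) * b⁻¹) * k := by group
    rw [e2, e1]
    exact mem_cj.1 hc
  obtain ⟨r, hr, h3⟩ := key x hx hx1
  obtain ⟨r', hr', h4⟩ := key y hy hy1
  obtain ⟨m, hm, -, e⟩ := hb.tor' h3 (fun e => hx1 (conj_eq_one_iff.1 e)) h4 (fun e => hy1 (conj_eq_one_iff.1 e))
  refine ⟨r'⁻¹ * m * r, mul_mem (mul_mem (inv_mem hr') (hLR hm)) hr, ?_⟩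
  calc r'⁻¹ * m * r * x * (r'⁻¹ * m * r)⁻¹ = r'⁻¹ * (m * (r * x * r⁻¹) * m⁻¹) * r' := by group
    _ = r'⁻¹ * (r' * y * r'⁻¹) * r' := by rw [e]
    _ = y := by group

include p h2 hTI in
/-- the last part of UNI -/
theorem uni_d {R : Subgroup G} (hBR : B ≤ R) (hRW : R ≤ normalizer (W j : Set G))
    (hne : ¬ R ≤ normalizer (Z j : Set G)) :
    ∃ r ∈ R, r ∉ normalizer (Z j : Set G) ∧ ∃ l, l ∈ centralizer (W i : Set G) ∧
      ∀ x ∈ W j, l * x * l⁻¹ = r * x * r⁻¹ := by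
  obtain ⟨r₀, hr₀, hr₀n⟩ := SetLike.not_le_iff_exists.1 hne
  have hfb := h.fr.blk j
  obtain ⟨x₀, hx₀, v₀, hv₀, hne₀⟩ := hfb.ne
  set a : Subgroup G := cj r₀ (Z j) with ha
  have haW : a ≤ W j := by
    refine (cj_mono r₀ hfb.ZV).trans ?_
    rw [cj_eq_of_mem_normalizer (hRW hr₀)]
  have hpa : PG.IsPt ![Z i, Z j] a := ⟨r₀ * s, by
    have h3 := h.cj_s_Z p
    change a = cj (r₀ * s) (Z i)
    rw [← cj_cj, h3]⟩
  have hpj : PG.IsPt ![Z i, Z j] (Z j) := ptj h p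
  have haZ : a ≠ Z j := fun e => hr₀n (mem_normalizer_iff_cj.2 e)
  have hbot : ∀ x, x ∈ a → x ∈ Z j → x = 1 := by
    intro x hx hx'
    by_contra hx1
    exact haZ (ti h hTI hpa hpj hx hx' hx1)
  set r : G := r₀ * x₀ * r₀⁻¹ with hr
  have hrR : r ∈ R := mul_mem (mul_mem hr₀ (hBR hx₀)) (inv_mem hr₀)
  have hr₀i : ∀ x ∈ W j, r₀⁻¹ * x * r₀ ∈ W j := by
    intro x hx
    have := (mem_normalizer_iff.1 (inv_mem (hRW hr₀)) x).1 hx
    rwa [inv_inv] at this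
  -- `[W j, r] ≤ a`, `r` centralises `a`
  have hra : ∀ x ∈ W j, r * x * r⁻¹ * x⁻¹ ∈ a := by
    intro x hx
    rw [ha, mem_cj]
    have e : r₀⁻¹ * (r * x * r⁻¹ * x⁻¹) * r₀ = x₀ * (r₀⁻¹ * x * r₀) * x₀⁻¹ * (r₀⁻¹ * x * r₀)⁻¹ := by rw [hr]; group
    rw [e]
    exact hfb.com x₀ hx₀ _ (hr₀i x hx)
  have hrc : ∀ x ∈ a, r * x * r⁻¹ = x := by
    intro x hx
    have h3 := hfb.cZ x₀ hx₀ _ (mem_cj.1 hx)
    have e : r * x * r⁻¹ = r₀ * (x₀ * (r₀⁻¹ * x * r₀) * x₀⁻¹) * r₀⁻¹ := by rw [hr]; group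
    rw [e, h3]; group
  -- `W j = Z j a`
  have hWa : W j = Z j ⊔ a := by
    symm
    have h3 : Z j ⊓ a = ⊥ := by
      rw [eq_bot_iff]
      rintro x ⟨hx, hx'⟩
      exact mem_bot.2 (hbot x hx' hx)
    have h5 := SQ1.Bau.card_sup_comm (A := Z j) (B := a) fun x hx y hy => hfb.comm (hfb.ZV hx) (haW hy)
    rw [h3, card_bot, mul_one, ha, card_cj, h.fr.cardZ, ← ha] at h5
    exact Subgroup.eq_of_le_of_card_ge (sup_le hfb.ZV haW) (by rw [h5, card_W h])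
  -- `r ∉ N(Z j)`
  have hrn : r ∉ normalizer (Z j : Set G) := by
    intro hrn
    apply hne₀
    have h3 : ∀ x ∈ W j, r * x * r⁻¹ = x := by
      intro x hx
      rw [hWa] at hx
      obtain ⟨z, hz, c, hc, rfl⟩ := SQ1.Bau.mem_sup_comm (fun x hx y hy => hfb.comm (hfb.ZV hx) (haW hy)) hx
      have h4 : r * z * r⁻¹ * z⁻¹ = 1 := by
        refine hbot _ (hra z (hfb.ZV hz)) (mul_mem ((mem_normalizer_iff.1 hrn z).1 hz) (inv_mem hz))
      have h5 : r * z * r⁻¹ = z := mul_inv_eq_one.1 h4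
      calc r * (z * c) * r⁻¹ = (r * z * r⁻¹) * (r * c * r⁻¹) := by group
        _ = z * c := by rw [h5, hrc c hc]
    have hv' : r₀ * v₀ * r₀⁻¹ ∈ W j := (mem_normalizer_iff.1 (hRW hr₀) v₀).1 hv₀
    have h4 := h3 _ hv'
    have h5 : x₀ * v₀ * x₀⁻¹ = v₀ := by
      have e : r * (r₀ * v₀ * r₀⁻¹) * r⁻¹ = r₀ * (x₀ * v₀ * x₀⁻¹) * r₀⁻¹ := by rw [hr]; group
      rw [e] at h4
      exact mul_left_cancel (mul_right_cancel h4)
    exact mul_inv_eq_iff_eq_mul.1 h5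
  -- the element `l`
  obtain ⟨z, hz, hz1⟩ : ∃ z ∈ Z j, z ≠ 1 := by
    by_contra hcon
    push Not at hcon
    exact h.Z_ne j ((eq_bot_iff_forall _).2 hcon)
  have hy : r₀ * z * r₀⁻¹ ∈ a := ⟨z, hz, rfl⟩
  have hy1 : r₀ * z * r₀⁻¹ ≠ 1 := fun e => hz1 (conj_eq_one_iff.1 e)
  obtain ⟨l₀, hl₀P, hl₀, z₁, hz₁, e₁⟩ := h.tr j _ (haW hy) hy1
  have hl₀a : cj l₀ (Z j) = a := by
    refine ti h hTI (i := i) (j := j) (x := r₀ * z * r₀⁻¹) ?_ hpa ?_ hy hy1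
    · have h3 := hpj.conj l₀
      exact h3
    · rw [← e₁]; exact ⟨z₁, hz₁, rfl⟩
  have hl₀W : cj l₀ (W j) = W j := h.fix hl₀P hl₀ j
  have hl₀i : ∀ x ∈ W j, l₀⁻¹ * x * l₀ ∈ W j := by
    intro x hx
    rw [← mem_cj, hl₀W]
    exact hx
  have hz' : l₀⁻¹ * z * l₀ ∉ Z j := by
    intro h3
    rw [← mem_cj, hl₀a] at h3
    exact hz1 (hbot z h3 hz)
  have hδ : l₀⁻¹ * (r * z * r⁻¹ * z⁻¹) * l₀ ∈ Z j := by
    rw [← mem_cj, hl₀a]
    exact hra z (hfb.ZV hz)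
  obtain ⟨b', hb', hb'c, e₂⟩ := h.root j _ (hl₀i z (hfb.ZV hz)) hz' _ hδ
  set l : G := l₀ * b' * l₀⁻¹ with hl
  have hlC : l ∈ centralizer (C j : Set G) := mul_mem (mul_mem hl₀ hb'c) (inv_mem hl₀)
  have hlz : l * z * l⁻¹ = r * z * r⁻¹ := by
    have e3 : l * z * l⁻¹ * z⁻¹ = l₀ * (b' * (l₀⁻¹ * z * l₀) * b'⁻¹ * (l₀⁻¹ * z * l₀)⁻¹) * l₀⁻¹ := by rw [hl]; group
    rw [e₂] at e3
    have e4 : l * z * l⁻¹ * z⁻¹ = r * z * r⁻¹ * z⁻¹ := by rw [e3]; group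
    exact mul_right_cancel e4
  have hla : ∀ x ∈ W j, l * x * l⁻¹ * x⁻¹ ∈ a := by
    intro x hx
    rw [← hl₀a, mem_cj]
    have e : l₀⁻¹ * (l * x * l⁻¹ * x⁻¹) * l₀ = b' * (l₀⁻¹ * x * l₀) * b'⁻¹ * (l₀⁻¹ * x * l₀)⁻¹ := by rw [hl]; group
    rw [e]
    exact hfb.com b' hb' _ (hl₀i x hx)
  have hlc : ∀ x ∈ a, l * x * l⁻¹ = x := by
    intro x hx
    rw [← hl₀a, mem_cj] at hx
    have h3 := hfb.cZ b' hb' _ hx
    have e : l * x * l⁻¹ = l₀ * (b' * (l₀⁻¹ * x * l₀) * b'⁻¹) * l₀⁻¹ := by rw [hl]; group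
    rw [e, h3]; group
  refine ⟨r, hrR, hrn, l, centralizer_le (h.fr.WjC j i p.ne.symm) hlC, ?_⟩
  -- `g = l⁻¹ r` centralises `W j`
  set g : G := l⁻¹ * r with hg
  have hgz : g * z * g⁻¹ = z := by
    calc g * z * g⁻¹ = l⁻¹ * (r * z * r⁻¹) * l := by rw [hg]; group
      _ = l⁻¹ * (l * z * l⁻¹) * l := by rw [hlz]
      _ = z := by group
  have hgn : cj g (Z j) = Z j := by
    refine ti h hTI (i := i) (j := j) (x := z) ?_ hpj ?_ hz hz1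
    · exact hpj.conj g
    · rw [mem_cj]
      have e : g⁻¹ * z * g = z := by
        calc g⁻¹ * z * g = g⁻¹ * (g * z * g⁻¹) * g := by rw [hgz]
          _ = z := by group
      rwa [e]
  have hgZ : ∀ x ∈ Z j, g * x * g⁻¹ = x := by
    intro x hx
    have h3 : g * x * g⁻¹ * x⁻¹ ∈ Z j := by
      refine mul_mem ?_ (inv_mem hx)
      rw [← hgn]
      exact ⟨x, hx, rfl⟩
    have h4 : g * x * g⁻¹ * x⁻¹ ∈ a := by
      -- `l⁻¹ (r x r⁻¹) l = l⁻¹ (r x r⁻¹ x⁻¹) l * (l⁻¹ x l)`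
      have hri := hra x (hfb.ZV hx)
      have e1 : l⁻¹ * (r * x * r⁻¹ * x⁻¹) * l = r * x * r⁻¹ * x⁻¹ := by
        calc l⁻¹ * (r * x * r⁻¹ * x⁻¹) * l = l⁻¹ * (l * (r * x * r⁻¹ * x⁻¹) * l⁻¹) * l := by rw [hlc _ hri]
          _ = r * x * r⁻¹ * x⁻¹ := by group
      have e2 : l⁻¹ * (l * x * l⁻¹ * x⁻¹) * l = l * x * l⁻¹ * x⁻¹ := by
        calc l⁻¹ * (l * x * l⁻¹ * x⁻¹) * l = l⁻¹ * (l * (l * x * l⁻¹ * x⁻¹) * l⁻¹) * l := by rw [hlc _ (hla x (hfb.ZV hx))]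
          _ = l * x * l⁻¹ * x⁻¹ := by group
      have e3 : g * x * g⁻¹ * x⁻¹ = (l⁻¹ * (r * x * r⁻¹ * x⁻¹) * l) * (l⁻¹ * (l * x * l⁻¹ * x⁻¹) * l)⁻¹ := by
        rw [hg]; group
      rw [e3, e1, e2]
      exact mul_mem hri (inv_mem (hla x (hfb.ZV hx)))
    exact mul_inv_eq_one.1 (hbot _ h4 h3)
  have hga : ∀ x ∈ a, g * x * g⁻¹ = x := by
    intro x hx
    have e1 : g * x * g⁻¹ = l⁻¹ * (r * x * r⁻¹) * l := by rw [hg]; group
    rw [e1, hrc x hx]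
    calc l⁻¹ * x * l = l⁻¹ * (l * x * l⁻¹) * l := by rw [hlc x hx]
      _ = x := by group
  intro x hx
  have hgx : g * x * g⁻¹ = x := by
    rw [hWa] at hx
    obtain ⟨z, hz, c, hc, rfl⟩ := SQ1.Bau.mem_sup_comm (fun x hx y hy => hfb.comm (hfb.ZV hx) (haW hy)) hx
    calc g * (z * c) * g⁻¹ = (g * z * g⁻¹) * (g * c * g⁻¹) := by group
      _ = z * c := by rw [hgZ z hz, hga c hc]
  calc l * x * l⁻¹ = l * (g * x * g⁻¹) * l⁻¹ := by rw [hgx]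
    _ = r * x * r⁻¹ := by rw [hg]; group

include p h2 hTI hnl in
/-- `R ≤ N(V_P)` -/
theorem uni_b (self : W i ≤ PG.NN ![Z i, Z j] (Z i)) (hfix : FixU (S : Subgroup G) P W Z i j) {R L' : Subgroup G}
    (hmp : IsMinPar ((S : Subgroup G) ⊓ centralizer (Z i : Set G)) R)
    (hRC : R ≤ centralizer (Z i : Set G)) (hne : ¬ R ≤ normalizer (Z j : Set G))
    (hLR : L' ≤ R) (hR : R ≤ ((S : Subgroup G) ⊓ centralizer (Z i : Set G)) ⊔ L') (hb : NB B L' (W j) (Z j) q)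
    (hRW : R ≤ normalizer (W j : Set G)) : R ≤ normalizer ((W i ⊔ W j : Subgroup G) : Set G) := by
  have PP' := h.toPP p hTI hnl
  have hV := V_eq h h2 p.ne
  have hNc : PG.NN ![Z i, Z j] (Z i) ≤ centralizer (PG.NN ![Z i, Z j] (Z i) : Set G) := PP'.NN_comm pti
  have hNB : PG.NN ![Z i, Z j] (Z i) ≤ B := PP'.N_le_Q.trans (h.o2_le i)
  have hNQ : PG.NN ![Z i, Z j] (Z i) ≤ o2 P := by
    intro n hn
    refine (h.fr.mem_Q n (hNB hn)).2 fun v hv => ?_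
    rw [hV] at hv
    have h3 : W i ⊔ W j ≤ PG.NN ![Z i, Z j] (Z i) := sup_le self (U1N h h2 p.ne)
    exact (mem_centralizer_iff.1 (hNc hn) v (h3 hv)).symm
  have hCN : centralizer (Z i : Set G) ≤ normalizer (PG.NN ![Z i, Z j] (Z i) : Set G) :=
    (centralizer_le_normalizer _).trans (PG.PP.HH_le_NN _)
  refine hR.trans (sup_le (PG.ThmG.norm_sup (TU0 h p h2) (TU1 h p h2)) fun r hr => ?_)
  have hrR := hLR hr
  have hrc : ∀ z ∈ Z i, r * z * r⁻¹ = z := fun z hz => by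
    rw [← mem_centralizer_iff.1 (hRC hrR) z hz, mul_inv_cancel_right]
  refine mem_normalizer_of_cj_le ?_
  rintro _ ⟨v, hv, rfl⟩
  change r * v * r⁻¹ ∈ W i ⊔ W j
  obtain ⟨w, hw, c, hc, rfl⟩ := SQ1.Bau.mem_sup_comm
    (fun a ha b hb => h.fr.Vc (h.fr.WV i ha) (h.fr.WV j hb)) hv
  have e1 : r * (w * c) * r⁻¹ = (r * w * r⁻¹) * (r * c * r⁻¹) := by group
  rw [e1]
  refine mul_mem ?_ (mem_sup_right ((mem_normalizer_iff.1 (hRW hrR) c).1 hc))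
  rw [← hV]
  have hn : r * w * r⁻¹ ∈ PG.NN ![Z i, Z j] (Z i) := (mem_normalizer_iff.1 (hCN (hRC hrR)) w).1 (self hw)
  refine hfix R hmp hRC hne r hrR w hw (hNQ hn) fun b hbQ => ?_
  have hbB := h.fr.QB hbQ
  have h3 : r⁻¹ * b * r ∈ B := by
    have := hb.cor r⁻¹ (inv_mem hr) b hbB fun v hv => h.fr.cQ hbQ (h.fr.WV j hv)
    rwa [inv_inv] at this
  have h4 := (h.fr.blk i).com _ h3 w hw
  have e2 : r * w * r⁻¹ * b * (r * w * r⁻¹)⁻¹ * b⁻¹ =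
      r * ((r⁻¹ * b * r) * w * (r⁻¹ * b * r)⁻¹ * w⁻¹)⁻¹ * r⁻¹ := by group
  rw [e2, hrc _ (inv_mem h4)]
  exact inv_mem h4

include p h2 hTI hnl in
/-- **`QFr` from the frame `Bg`, `k = 2`.** -/
theorem qfr_of (self : W i ≤ PG.NN ![Z i, Z j] (Z i)) (huni : GenU (S : Subgroup G) B ZJ W Z q i j)
    (hfix : FixU (S : Subgroup G) P W Z i j) :
    QFr ![Z i, Z j] ![W i, W j] B ((S : Subgroup G) ⊓ centralizer (Z i : Set G)) := by
  have PP' := h.toPP p hTI hnl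
  refine
    { toPP := PP'
      ti := fun a b ha hb x hx hx' hx1 => ti h hTI ha hb hx hx' hx1
      fus := ?_
      inf := h.W_disj p.ne
      ZU1 := (h.fr.blk j).ZV
      U0N := self
      U1N := U1N h h2 p.ne
      pts := fun x hx hx1 => pts h hx hx1
      prod := fun a ha haU hne => prod h hTI ha haU hne
      syl := syl_T h i
      TB := TB h p h2
      T1 := T1 h p h2
      TU0 := TU0 h p h2
      TU1 := TU1 h p h2
      com := fun t ht x hx => com h p h2 ht hx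
      fixU := ?_
      fixU1 := ?_
      nT := ?_
      nB := ?_
      uni := ?_ }
  · rintro a ⟨g, rfl⟩ x hx hx' hx1
    change x ∈ Z i ⊔ Z j at hx'
    obtain ⟨l, hl⟩ := h.fus (sup_le (h.fr.Z_le i) (h.fr.Z_le j) hx') (mem_cj.1 hx)
    rcases h2 l with rfl | rfl
    · left
      exact ti h hTI ⟨g, rfl⟩ pti hx hl hx1
    · right
      exact ti h hTI ⟨g, rfl⟩ (ptj h p) hx hl hx1
  · intro x hx hfx
    exact (h.fr.blk i).toMd.mem_Z_iff.2 ⟨hx, fun b hb => mul_inv_eq_iff_eq_mul.1 (hfx b (B_le_T h i hb))⟩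
  · intro x hx hfx
    exact (h.fr.blk j).toMd.mem_Z_iff.2 ⟨hx, fun b hb => mul_inv_eq_iff_eq_mul.1 (hfx b (B_le_T h i hb))⟩
  · rintro g ⟨hg, hgT⟩
    obtain ⟨h3, h4⟩ := nB' h p h2 hg (nT' h p h2 hgT)
    exact ⟨mem_normalizer_iff_cj.2 h3, mem_normalizer_iff_cj.2 h4⟩
  · rintro g ⟨hg, hgB⟩
    exact mem_normalizer_iff_cj.2 (nB' h p h2 hg hgB).2
  · intro R hmp hRC hne
    obtain ⟨L', V', l, hLR, hR, hb, hV⟩ := huni R hmp hRC hne
    obtain ⟨hRW, rfl, rfl⟩ := uni_a h p h2 hRC hLR hR hb hV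
    have hBR : B ≤ R := (B_le_T h i).trans hmp.le
    refine ⟨hRW, uni_b h p h2 hTI hnl self hfix hmp hRC hne hLR hR hb hRW,
      fun x hx hx1 y hy hy1 => uni_c h hBR hLR hb hx hx1 hy hy1, ?_⟩
    obtain ⟨r, hr, hrn, m, hm, hmr⟩ := uni_d h p h2 hTI hBR hRW hne
    exact ⟨r, hr, hrn, m, centralizer_le (h.fr.blk i).ZV hm, hm, hmr⟩

end

end Cfsg.Agent.Omega.KL.QF.OfBg
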