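import Cfsg.Agent.Omega.KL.QF.OfMul
import Cfsg.Agent.Omega.Node.MulG

/-!
# `QFr` over a general top level `K₀` (`Top S P K₀`, `MulG`): `k = 2`, any `q` (helper20)

* `lev_T`, `bz_top`, `exists_fblk` : `LevB.exists_fblk` for every level `K₀` (`Lev S K₀`) with `K₀ ≤ O₂(H)`; moreover
  `V ≤ Ω₁(Z(K₀))`;
* `Top.exists_BO`, `exists_frL` : the frame `FrL` over `X = Ω₁(Z(K₀))`; `match_Z` : two frames have the same `Z i`;
* `uni_top` : UNI+ for the blocks with `V' ≤ Ω₁(Z(K₀))`; `fix_top` : FIX-X;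
* `WeirdK` : the socket: the minimal parabolics over `T = C_S(Z i)` in `C(Z i)` which move `Z j` have `K₀ ≤ O₂(R)`;
* `genV_top`, `fixU_top`, `qfr_top` : **`QFr` from `Bg`, `Top`, `WeirdK`**.
-/

set_option autoImplicit false
set_option linter.unusedSectionVars false
set_option maxHeartbeats 400000

namespace Cfsg.Agent.Omega.KL.QF.OfTop

open Subgroup Cfsg Cfsg.Agent.ZN.ChoiceBase
open Cfsg.Agent.ZN (jj zj bau zc zl o2)
open Cfsg.Agent.ZN.ChoiceSit (Syl exists_syl syl_conj o2_le_syl syl_not_dvd isPGroup_o2)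
open Cfsg.Agent.Omega.OM Cfsg.Agent.Omega.OM.Uni
open Cfsg.Agent.Omega.OM.UniPlus (NB)
open Cfsg.Agent.Omega.OM.LevD (LB)
open Cfsg.Agent.Omega.OM.GLev
open Cfsg.Agent.Omega.OM.LevB (FBlk)
open Cfsg.Agent.Omega.OM.Lev.Uni (FrL)
open Cfsg.Agent.Omega.FFThm (NatKM SymKM OffM NoOverM)
open Cfsg.Agent.Omega.FrameFF (cv)
open Cfsg.Agent.Omega.NO3S (HypN)
open Cfsg.Agent.Omega.NO3S.Level (lev nxt Lev BO le_nxt nxt_le le_centralizer_zc normalizer_le_zc wc_nxt)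
open Cfsg.Agent.Omega.NO3S.EThree.Frame
open Cfsg.Agent.Omega.Node.MultiOf (FBl)
open Cfsg.Agent.Omega.Node.MulG (Top lb_nxt)
open Cfsg.Agent.Omega.MinPar (NonLoc)
open Cfsg.Agent.MinSimple.MinParabolic (IsMinPar)
open Cfsg.Agent.MinSimple.VModule (le_normalizer_o2 le_o2 o2_le)
open PtV OfBg OfLev OfMul
open scoped Pointwise commutatorElement

universe u

variable {G : Type u} [Group G] [Finite G]

/-! ### Blocks over a general level -/

section blk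

variable {T H : Subgroup G}

/-- A level of `S` is a level of every 2-group over it. -/
theorem lev_T (S : Sylow 2 G) {K : Subgroup G} (hL : Lev (S : Subgroup G) K) (hT : IsPGroup 2 T) (hle : K ≤ T) :
    Lev T K where
  le := hle
  jjle := by
    rw [MinSimple.EmptyTI.jj_eq S hT (hL.jjle.trans hle)]
    exact hL.jjle
  norm := fun _ h1 h2 _ hg =>
    mem_normalizer_iff_cj.2 (LevD.norm_of_wc (Lev.Wc.wc_Lev hL) (hT.to_le h2) h1 hg)

theorem lb_top (S : Sylow 2 G) {K B : Subgroup G} (hL : Lev (S : Subgroup G) K)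
    (eqB : B = (S : Subgroup G) ⊓ centralizer (zc (nxt (S : Subgroup G) K) : Set G)) :
    LB S (nxt (S : Subgroup G) K) B (zc (nxt (S : Subgroup G) K)) := by
  subst eqB
  exact lb_nxt (Lev.Wc.wc_Lev hL)

/-- `BZ` at the level `K`. -/
theorem bz_top (S : Sylow 2 G) {K B : Subgroup G} (hL : Lev (S : Subgroup G) K)
    (eqB : B = (S : Subgroup G) ⊓ centralizer (zc (nxt (S : Subgroup G) K) : Set G)) (hT : IsPGroup 2 T)
    (hB : B ≤ T) : BZ T (zc K) (BO T K) B (zc (nxt (S : Subgroup G) K)) := by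
  have hb := lb_top S hL eqB
  have hle := hb.KB.trans hB
  refine
    { mem_ZJ := fun z => ?_
      eqB := (hb.inf_eq hT hB).symm
      zcB := ?_
      wn := fun R hR hBR => hb.two_le hR hBR
      sylB := fun R hR hBR hRc => hb.syl.2.2 R hRc hR hBR }
  · rw [← LevD.nxt_eq (Lev.Wc.wc_Lev hL) (Lev.Wc.wc_Lev hL.next) hT hle]
    exact zc_nxt (lev_T S hL hT ((le_nxt hL.le).trans hle))
  · ext z
    constructor
    · intro hz
      obtain ⟨h1, h2, h3⟩ := mem_zc.1 hz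
      exact hL.next.mem_of_comm (hb.BS h1) h2 fun y hy => h3 y (hb.KB hy)
    · intro hz
      exact mem_zc.2 ⟨hb.ZB hz, hb.sq z hz, fun y hy => (mem_centralizer_iff.1 (hb.Bc hy) z hz).symm⟩

/-- The module of a block `L ≤ N(X)`, `Ω₁Z(B) ≤ X`, is in `X`. -/
theorem blk_le {B L V X : Subgroup G} (h : FBlk B L V) (hX : L ≤ normalizer (X : Set G)) (hzX : zc B ≤ X) : V ≤ X := by
  obtain ⟨⟨Z, q, hF⟩, -⟩ := h
  obtain ⟨l, hl, hs⟩ := hF.sup
  have h1 : ⁅V, B⁆ ≤ X := ((hF.comm_le le_rfl).trans (UniPlus.Z_le_zc hF.toMd)).trans hzX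
  refine hs.trans (sup_le h1 ?_)
  have h2 := cj_mono l h1
  rwa [cj_eq_of_mem_normalizer (hX hl)] at h2

/-- **A block `L` over `B` with `H = ⟨T, L⟩`, `V ≤ Ω₁(Z(K))`.** -/
theorem exists_fblk (S : Sylow 2 G) {K B : Subgroup G} (hL : Lev (S : Subgroup G) K)
    (eqB : B = (S : Subgroup G) ⊓ centralizer (zc (nxt (S : Subgroup G) K) : Set G)) (hT : Syl T H)
    (hB : B ≤ T) (hP : IsMinPar T H) (hc : H ⊓ centralizer (o2 H : Set G) ≤ o2 H)
    (hK : K ≤ o2 H) (hn : ¬ nxt (S : Subgroup G) K ≤ o2 H) (hZ : ¬ H ≤ centralizer (zc T : Set G)) :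
    ∃ L V : Subgroup G, L ≤ H ∧ FBlk B L V ∧ V ≤ zc K ∧ H ≤ T ⊔ L := by
  have hb := lb_top S hL eqB
  have hle := hb.KB.trans hB
  have hT2 := hT.2.1
  have hLT := lev_T S hL hT2 ((le_nxt hL.le).trans hle)
  have hnx := LevD.nxt_eq (Lev.Wc.wc_Lev hL) (Lev.Wc.wc_Lev hL.next) hT2 hle
  have hV : zl T H ≤ zc K :=
    (MinSimple.VModule.zl_le_zc hT.1 hT2 (syl_not_dvd hT) hc).trans (hLT.zc_o2_le hK (o2_le_syl hT))
  have hQC := BlkGen.inf_cent hT hP hZ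
  obtain ⟨A, hA, hAQ⟩ : ∃ A ∈ BO T K, ¬ A ≤ o2 H := by
    by_contra hcon
    push Not at hcon
    apply hn
    rw [← hnx]
    exact sup_le ((inf_le_inf_left _ (centralizer_le hV)).trans hQC) (sSup_le hcon)
  have hoff : OffM (zl T H) A := hA.2.offM hV fun h1 => hAQ ((le_inf hA.1 h1).trans hQC)
  obtain ⟨hno, hcon⟩ := FF.Glob.ffthmM G T H hT hP hc ⟨A, hA.1.trans hT.1, hoff⟩
  have hge := GE.of_lev hT hP hc hZ hLT hK hno
  have hbz := bz_top S hL eqB hT2 hB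
  have hw := hb.weakNormal
  have hHK : H ≤ normalizer (zc K : Set G) := by
    refine (le_normalizer_o2 H).trans fun g hg => normalizer_le_zc _ (mem_normalizer_iff_cj.2 ?_)
    exact LevD.norm_of_wc (Lev.Wc.wc_Lev hL) (isPGroup_o2 H) hK hg
  have hzB : zc B ≤ zc K := by
    rw [hbz.zcB]
    exact hL.zc_le_zc (le_nxt hL.le) (nxt_le _ _)
  rcases hcon with ⟨F, _, _, _, k, hk, ⟨N⟩⟩ | ⟨k, m, hk, hm, hN⟩
  · obtain ⟨L, N', N₁, D', -, hLH, hpb, hsup⟩ := GNat.exists_pb hge hbz N hk ⟨A, hA, hAQ⟩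
    have hF : FBlk B L _ := ⟨⟨_, _, hpb.fb⟩, hpb.block hw⟩
    exact ⟨L, _, hLH, hF, blk_le hF (hLH.trans hHK) hzB, hsup⟩
  · obtain ⟨L, N', N₁, D', q, -, hLH, hpb, hsup⟩ := LevB.symBlk G T H _ _ _ _ k m hge hbz hk hm hN ⟨A, hA, hAQ⟩
    have hF : FBlk B L _ := ⟨⟨_, _, hpb.fb⟩, hpb.block hw⟩
    exact ⟨L, _, hLH, hF, blk_le hF (hLH.trans hHK) hzB, hsup⟩

end blk

/-! ### The frames -/

section frames

variable {S : Sylow 2 G} {P K₀ B : Subgroup G}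

/-- a best offender on `Ω₁(Z(K₀))` which is not in `O₂(P)` -/
theorem exists_BO (h : HypN S P) (hL : Lev (S : Subgroup G) K₀) (hle : K₀ ≤ o2 P)
    (hn : ¬ nxt (S : Subgroup G) K₀ ≤ o2 P) : ∃ A ∈ BO (S : Subgroup G) K₀, ¬ A ≤ o2 P := by
  by_contra hcon
  push Not at hcon
  apply hn
  refine sup_le ?_ (sSup_le hcon)
  have hG := h.toHyp.ctx.char2
  have hP := h.toHyp.star
  have h3 : zl (S : Subgroup G) P ≤ zc K₀ := (hP.isLoc.zl_le S hG).trans (hL.zc_o2_le hle (hP.isLoc.o2_le S))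
  have h4 := MinPar.IsParS.inf_centralizer S hG hP
  rw [← h4]
  exact inf_le_inf_left _ (centralizer_le h3)

variable {F : Type} [Field F] [Finite F] [CharP F 2] {k : ℕ}

/-- the frame `FrL` over `X = Ω₁(Z(K₀))` -/
theorem exists_frL (h : HypN S P) (hL : Lev (S : Subgroup G) K₀) (hle : K₀ ≤ o2 P)
    (hn : ¬ nxt (S : Subgroup G) K₀ ≤ o2 P) (hk : 2 ≤ k)
    (N : NatKM F (S : Subgroup G) P (zl (S : Subgroup G) P) (cv (S : Subgroup G) P) k)
    (eqB : B = (S : Subgroup G) ⊓ centralizer (zc (nxt (S : Subgroup G) K₀) : Set G)) :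
    ∃ L W Z C A : Fin k → Subgroup G, FrL B (o2 P) (zl (S : Subgroup G) P) (zc K₀) (zc (nxt (S : Subgroup G) K₀))
      L W Z C A (Nat.card F) := by
  obtain ⟨M, L, Z, A, -, hF, -⟩ := Lev.Main.bg_K h hL hle (exists_BO h hL hle hn) hk N eqB
  exact ⟨L, _, Z, _, A, hF⟩

end frames

section uni

variable {S : Sylow 2 G} {P K₀ B ZJ : Subgroup G} {k : ℕ} {L W Z C L₁ W₁ Z₁ C₁ A₁ : Fin k → Subgroup G} {q : ℕ}

/-- two frames have the same `Z i` -/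
theorem match_Z (h : Bg S P B ZJ L W Z C q) {X : Subgroup G}
    (hF : FrL B (o2 P) (zl (S : Subgroup G) P) X ZJ L₁ W₁ Z₁ C₁ A₁ q) :
    (∀ i, ∃ i₁, Z i = Z₁ i₁) ∧ ∀ i₁, ∃ i, Z₁ i₁ = Z i := by
  have h1 : ∀ i, ∃ i₁, Z i = Z₁ i₁ := by
    intro i
    obtain ⟨-, i₁, hi, -⟩ := hF.uni (h.fr.blk i).toMd ((h.fr.WV i).trans hF.VX)
    refine ⟨i₁, ?_⟩
    rw [← hi]
    symm
    apply le_antisymm ((h.fr.blk i).comm_le le_rfl)
    intro z hz
    obtain ⟨w, hw, hwZ⟩ : ∃ w ∈ W i, w ∉ Z i := by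
      by_contra hcon
      push Not at hcon
      have h5 := Subgroup.card_le_of_le hcon
      rw [card_W h, h.fr.cardZ] at h5
      have h6 := (h.fr.blk i).one
      nlinarith
    obtain ⟨b, hb, -, e⟩ := h.root i w hw hwZ z hz
    have h1 := inv_mem (commutator_mem_commutator (H₁ := W i) (H₂ := B) hw hb)
    rw [← e]
    have e2 : (⁅w, b⁆)⁻¹ = b * w * b⁻¹ * w⁻¹ := by rw [commutatorElement_def]; group
    rwa [e2] at h1
  refine ⟨h1, ?_⟩
  choose σ hσ using h1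
  have hinj : Function.Injective σ := fun a b e => h.Z_inj (by rw [hσ a, hσ b, e])
  have hsur : Function.Surjective σ := Finite.surjective_of_injective hinj
  intro i₁
  obtain ⟨i, rfl⟩ := hsur i₁
  exact ⟨i, (hσ i).symm⟩

/-- **UNI+ for the blocks with `V' ≤ Ω₁(Z(K₀))`.** -/
theorem uni_top (h : Bg S P B ZJ L W Z C q) (hL : Lev (S : Subgroup G) K₀)
    (eqB : B = (S : Subgroup G) ⊓ centralizer (zc (nxt (S : Subgroup G) K₀) : Set G))
    (hF : FrL B (o2 P) (zl (S : Subgroup G) P) (zc K₀) ZJ L₁ W₁ Z₁ C₁ A₁ q) {L' V' : Subgroup G}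
    (hb : FBlk B L' V') (hV : V' ≤ zc K₀) : ∃ l, NB B L' V' (Z l) q ∧ V' ≤ zl (S : Subgroup G) P := by
  obtain ⟨⟨Z', q', hFB⟩, -⟩ := hb
  have hp : ∀ g ∈ normalizer (B : Set G), ∀ j, ∃ k, cj g (Z₁ j) = Z₁ k := by
    intro g hg j
    have h1 := Lev.Wc.norm_B_Lev hL eqB hg
    obtain ⟨k, hk, -⟩ := (hF.norm_of hg (normalizer_le_zc _ h1)).2 j
    exact ⟨k, hk⟩
  obtain ⟨-, l₁, -, hN, hle, -⟩ := Lev.UniPlus.uniPlusX hF h.bau_two h.wc hp hFB hV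
  obtain ⟨l, hl⟩ := (match_Z h hF).2 l₁
  rw [hl] at hN
  exact ⟨l, hN, hle.trans (sup_le (hF.WV l₁) hF.ZJV)⟩

/-- **FIX-X.** -/
theorem fix_top (h : Bg S P B ZJ L W Z C q) (hle : K₀ ≤ o2 P)
    (hF : FrL B (o2 P) (zl (S : Subgroup G) P) (zc K₀) ZJ L₁ W₁ Z₁ C₁ A₁ q) {i : Fin k} {n : G} (hn : n ∈ zc K₀)
    (hc : ∀ b ∈ o2 P, n * b * n⁻¹ * b⁻¹ ∈ Z i) : n ∈ zl (S : Subgroup G) P := by
  obtain ⟨i₁, hi⟩ := (match_Z h hF).1 i
  exact FixX.fixX hF hn (hle ((ZN.zc_le _) hn)) fun b hb => hi ▸ hc b hb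

end uni

/-! ### `k = 2` -/

/-- **The socket**: the minimal parabolics over `T = C_S(Z i)` in `C(Z i)` which move `Z j` are not weird. -/
def WeirdK (S K₀ : Subgroup G) {ι : Type} (Z : ι → Subgroup G) (i j : ι) : Prop :=
  ∀ R : Subgroup G, IsMinPar (S ⊓ centralizer (Z i : Set G)) R → R ≤ centralizer (Z i : Set G) →
    ¬ R ≤ normalizer (Z j : Set G) → K₀ ≤ o2 R

section two

variable {S : Sylow 2 G} {P K₀ B ZJ : Subgroup G} {L W Z C : Fin 2 → Subgroup G} {q : ℕ}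
  {L₁ W₁ Z₁ C₁ A₁ : Fin 2 → Subgroup G} {i j : Fin 2} {s : G}

theorem genV_top (h : Bg S P B ZJ L W Z C q) (p : Pa (S : Subgroup G) W i j s) (h2 : ∀ l : Fin 2, l = i ∨ l = j)
    (hTI : TI (Z i)) (hL : Lev (S : Subgroup G) K₀) (eqZ : ZJ = zc (nxt (S : Subgroup G) K₀))
    (eqB : B = (S : Subgroup G) ⊓ centralizer (zc (nxt (S : Subgroup G) K₀) : Set G))
    (hF : FrL B (o2 P) (zl (S : Subgroup G) P) (zc K₀) ZJ L₁ W₁ Z₁ C₁ A₁ q)
    (hw : WeirdK (S : Subgroup G) K₀ Z i j) : GenV (S : Subgroup G) B (zl (S : Subgroup G) P) Z q i j := by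
  intro R hR hRC hne
  have hBT := B_le_T h i
  have hS : Syl ((S : Subgroup G) ⊓ centralizer (Z i : Set G)) R :=
    ⟨hR.le, S.isPGroup'.to_le inf_le_left, fun Q hQ h3 hle => (syl_T h i).2.2 Q (hQ.trans hRC) h3 hle⟩
  have hc := char2 h (i := i) (hBT.trans hR.le) hRC
  have hZ := not_cent h p h2 hTI hne
  have hK := hw R hR hRC hne
  have hn : ¬ nxt (S : Subgroup G) K₀ ≤ o2 R := by
    intro h1
    refine hne (nor_Zj h p h2 hTI hRC ?_)
    rw [eqZ]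
    exact (le_normalizer_o2 R).trans ((lb_top S hL eqB).nrm _ (isPGroup_o2 R) h1)
  obtain ⟨L', V', h3, h4, h5, h6⟩ := exists_fblk S hL eqB hS hBT hR hc hK hn hZ
  obtain ⟨l, h7, h8⟩ := uni_top h hL eqB hF h4 h5
  exact ⟨L', V', l, h3, h6, h7, h8⟩

theorem fixU_top (h : Bg S P B ZJ L W Z C q) (hL : Lev (S : Subgroup G) K₀) (hle : K₀ ≤ o2 P)
    (hF : FrL B (o2 P) (zl (S : Subgroup G) P) (zc K₀) ZJ L₁ W₁ Z₁ C₁ A₁ q)
    (hw : WeirdK (S : Subgroup G) K₀ Z i j) : FixU (S : Subgroup G) P W Z i j := by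
  intro R hR hRC hne r hr w hw' hwQ hwc
  have hK := hw R hR hRC hne
  have hRX : R ≤ normalizer (zc K₀ : Set G) := by
    refine (le_normalizer_o2 R).trans fun g hg => normalizer_le_zc _ (mem_normalizer_iff_cj.2 ?_)
    exact LevD.norm_of_wc (Lev.Wc.wc_Lev hL) (isPGroup_o2 R) hK hg
  exact fix_top h hle hF ((mem_normalizer_iff.1 (hRX hr) w).1 (hF.VX (h.fr.WV i hw'))) hwc

/-- **`QFr` over a general top level.** -/
theorem qfr_top (h : Bg S P B ZJ L W Z C q) (p : Pa (S : Subgroup G) W i j s) (h2 : ∀ l : Fin 2, l = i ∨ l = j)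
    (hTI : TI (Z i)) (hnl : NonLoc (normalizer (Z i : Set G)) (normalizer (Z j : Set G)))
    (self : W i ≤ PG.NN ![Z i, Z j] (Z i)) (hL : Lev (S : Subgroup G) K₀) (hle : K₀ ≤ o2 P)
    (hn : ¬ nxt (S : Subgroup G) K₀ ≤ o2 P) (eqZ : ZJ = zc (nxt (S : Subgroup G) K₀))
    (eqB : B = (S : Subgroup G) ⊓ centralizer (zc (nxt (S : Subgroup G) K₀) : Set G))
    (nat : ∃ (F : Type) (_ : Field F) (_ : Finite F) (_ : CharP F 2), Nat.card F = q ∧
      Nonempty (NatKM F (S : Subgroup G) P (zl (S : Subgroup G) P) (cv (S : Subgroup G) P) 2))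
    (hw : WeirdK (S : Subgroup G) K₀ Z i j) :
    QFr ![Z i, Z j] ![W i, W j] B ((S : Subgroup G) ⊓ centralizer (Z i : Set G)) := by
  obtain ⟨F, _, _, _, e, ⟨N⟩⟩ := nat
  obtain ⟨L₁, W₁, Z₁, C₁, A₁, hF⟩ := exists_frL h.hyp hL hle hn le_rfl N eqB
  rw [← eqZ, e] at hF
  exact qfr_of h p h2 hTI hnl self (genU_of h p h2 (genV_top h p h2 hTI hL eqZ eqB hF hw)) (fixU_top h hL hle hF hw)

end two

end Cfsg.Agent.Omega.KL.QF.OfTop
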