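import Cfsg.Agent.Omega.KL.QF.PlugS
import Cfsg.Agent.Omega.KL.QF.NotFail
import Cfsg.Agent.Omega.KL.QF.Fin
import Cfsg.Agent.Omega.KL.QF.OfBg
import Cfsg.Agent.Omega.NO3S.EThree.Row7Gen

/-!
# `J(O)` moves `W i` (`k = 2`, `q ≥ 4`, every level), Row (7) from generation and FIX (helper651; helper475 #24418, helper33 #24623)

* `qfb_of` : the frame `QFb Z W B (C_S(Z 0))` from `Bg`, `GenU`, `FixU` (no `W 0 ≤ N_0`);
* `hJ_zero`, **`hJ_of`** : `W 0 ≰ N_0` : some `A ∈ AA (OO Z)` moves `W i`;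
* **`false_of_gen (h : Bg ..) (4 ≤ q) (TI) (NonLoc) (GenU) (FixU) (MLK) (Ext) : False`** (`Row7B.MB.false` without (V!)).
-/

set_option autoImplicit false
set_option linter.unusedSectionVars false

namespace Cfsg.Agent.Omega.KL.QF.HJ

open Subgroup Cfsg Cfsg.Agent.ZN.ChoiceBase
open Cfsg.Agent.ZN (jj zj bau zc zl o2)
open Cfsg.Agent.ZN.ChoiceSit (Syl)
open Cfsg.Agent.Omega.OM Cfsg.Agent.Omega.OM.Uni
open Cfsg.Agent.Omega.OM.UniPlus (NB)
open Cfsg.Agent.Omega.OM.PG.Peel (XW ln_le_XW)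
open Cfsg.Agent.Omega.OM.PG.TwoI (TA')
open Cfsg.Agent.Omega.NO3S.EThree
open Cfsg.Agent.Omega.NO3S.EThree.Frame
open Cfsg.Agent.Omega.NO3S.EThree.Row7 (Nn vec2 vec2' fin2)
open Cfsg.Agent.Omega.NO3S.EThree.Row7B
open Cfsg.Agent.Omega.MinPar (NonLoc)
open Cfsg.Agent.Omega.TCQ.R
open Cfsg.Agent.Omega.KL.QF Cfsg.Agent.Omega.KL.QF.OfBg Cfsg.Agent.Omega.KL.QF.PtV
open Cfsg.Agent.Omega.KL.Q (ExG.In)
open Cfsg.Agent.MinSimple.MinParabolic (IsMinPar)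
open scoped Pointwise

universe u

variable {G : Type u} [Group G] [Finite G] {S : Sylow 2 G} {P B ZJ : Subgroup G} {L W Z C : Fin 2 → Subgroup G} {q : ℕ}

section

variable (h : Bg S P B ZJ L W Z C q)
include h

theorem exists_pa : ∃ s, Pa (S : Subgroup G) W 0 1 s := by
  obtain ⟨j, s, p⟩ := h.exists_partner 0
  rcases fin2 j with rfl | rfl
  · exact absurd rfl p.ne
  · exact ⟨s, p⟩

variable {s : G} (p : Pa (S : Subgroup G) W 0 1 s) (hTI : TI (Z 0))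
  (hnl : NonLoc (normalizer (Z 0 : Set G)) (normalizer (Z 1 : Set G)))
include p hTI hnl

/-- `R ≤ N(V_P)`, without `W 0 ≤ N_0` -/
theorem uni_b' (hfix : FixU (S : Subgroup G) P W Z 0 1) {R L' : Subgroup G}
    (hmp : IsMinPar ((S : Subgroup G) ⊓ centralizer (Z 0 : Set G)) R)
    (hRC : R ≤ centralizer (Z 0 : Set G)) (hne : ¬ R ≤ normalizer (Z 1 : Set G))
    (hLR : L' ≤ R) (hR : R ≤ ((S : Subgroup G) ⊓ centralizer (Z 0 : Set G)) ⊔ L') (hb : NB B L' (W 1) (Z 1) q)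
    (hRW : R ≤ normalizer (W 1 : Set G)) : R ≤ normalizer ((W 0 ⊔ W 1 : Subgroup G) : Set G) := by
  have D : FQ Z W B q := FQ.of_bg h hTI hnl
  have h2 : ∀ l : Fin 2, l = 0 ∨ l = 1 := fun l => fin2 l
  have hV := V_eq h h2 p.ne
  have hXc : XW Z W (Z 0) ≤ centralizer (XW Z W (Z 0) : Set G) := D.XW_comm 0
  have hXB : XW Z W (Z 0) ≤ B := (D.XW_le_Q 0).trans (h.o2_le 0)
  have h0 : W 0 ≤ XW Z W (Z 0) := ln_le_XW (D.ln 0)
  have h1 : W 1 ≤ XW Z W (Z 0) := (D.U_le_N (by decide : (0 : Fin 2) ≠ 1)).trans le_sup_left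
  have hXQ : XW Z W (Z 0) ≤ o2 P := by
    intro n hn
    refine (h.fr.mem_Q n (hXB hn)).2 fun v hv => ?_
    rw [hV] at hv
    exact (mem_centralizer_iff.1 (hXc hn) v ((sup_le h0 h1) hv)).symm
  have hCX : centralizer (Z 0 : Set G) ≤ normalizer (XW Z W (Z 0) : Set G) :=
    (centralizer_le_normalizer _).trans (OM.PG.CX.nor_X D.xf (D.pt 0))
  refine hR.trans (sup_le (PG.ThmG.norm_sup (TU0 h p h2) (TU1 h p h2)) fun r hr => ?_)
  have hrR := hLR hr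
  have hrc : ∀ z ∈ Z 0, r * z * r⁻¹ = z := fun z hz => by
    rw [← mem_centralizer_iff.1 (hRC hrR) z hz, mul_inv_cancel_right]
  refine mem_normalizer_of_cj_le ?_
  rintro _ ⟨v, hv, rfl⟩
  change r * v * r⁻¹ ∈ W 0 ⊔ W 1
  obtain ⟨w, hw, c, hc, rfl⟩ := SQ1.Bau.mem_sup_comm
    (fun a ha b hb => h.fr.Vc (h.fr.WV 0 ha) (h.fr.WV 1 hb)) hv
  have e1 : r * (w * c) * r⁻¹ = (r * w * r⁻¹) * (r * c * r⁻¹) := by group
  rw [e1]
  refine mul_mem ?_ (mem_sup_right ((mem_normalizer_iff.1 (hRW hrR) c).1 hc))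
  rw [← hV]
  have hn : r * w * r⁻¹ ∈ XW Z W (Z 0) := (mem_normalizer_iff.1 (hCX (hRC hrR)) w).1 (h0 hw)
  refine hfix R hmp hRC hne r hrR w hw (hXQ hn) fun b hbQ => ?_
  have hbB := h.fr.QB hbQ
  have h3 : r⁻¹ * b * r ∈ B := by
    have := hb.cor r⁻¹ (inv_mem hr) b hbB fun v hv => h.fr.cQ hbQ (h.fr.WV 1 hv)
    rwa [inv_inv] at this
  have h4 := (h.fr.blk 0).com _ h3 w hw
  have e2 : r * w * r⁻¹ * b * (r * w * r⁻¹)⁻¹ * b⁻¹ =
      r * ((r⁻¹ * b * r) * w * (r⁻¹ * b * r)⁻¹ * w⁻¹)⁻¹ * r⁻¹ := by group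
  rw [e2, hrc _ (inv_mem h4)]
  exact inv_mem h4

/-- **The frame `QFb`.** -/
theorem qfb_of (huni : GenU (S : Subgroup G) B ZJ W Z q 0 1) (hfix : FixU (S : Subgroup G) P W Z 0 1) :
    QFb Z W B ((S : Subgroup G) ⊓ centralizer (Z 0 : Set G)) := by
  have D : FQ Z W B q := FQ.of_bg h hTI hnl
  have h2 : ∀ l : Fin 2, l = 0 ∨ l = 1 := fun l => fin2 l
  have ev : (![Z 0, Z 1] : Fin 2 → Subgroup G) = Z := vec2 Z
  refine
    { toPP := D.toPP
      ti := D.ti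
      fus := D.fus
      inf := D.inf
      ZU1 := (h.fr.blk 1).ZV
      U1N := D.U_le_N (by decide : (0 : Fin 2) ≠ 1)
      pts := fun x hx hx1 => by
        have := pts h (i := 0) (j := 1) hx hx1
        rwa [ev] at this
      prod := fun a ha haU hne => prod h hTI (j := 1) (by rw [ev]; exact ha) haU hne
      syl := syl_T h 0
      TB := TB h p h2
      T1 := T1 h p h2
      TU0 := TU0 h p h2
      TU1 := TU1 h p h2
      com := fun t ht x hx => com h p h2 ht hx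
      fixU := ?_
      fixU1 := ?_
      nT := ?_
      nB := ?_
      uni := ?_ }
  · intro x hx hfx
    exact (h.fr.blk 0).toMd.mem_Z_iff.2 ⟨hx, fun b hb => mul_inv_eq_iff_eq_mul.1 (hfx b (B_le_T h 0 hb))⟩
  · intro x hx hfx
    exact (h.fr.blk 1).toMd.mem_Z_iff.2 ⟨hx, fun b hb => mul_inv_eq_iff_eq_mul.1 (hfx b (B_le_T h 0 hb))⟩
  · rintro g ⟨hg, hgT⟩
    obtain ⟨h3, h4⟩ := nB' h p h2 hg (nT' h p h2 hgT)
    exact ⟨mem_normalizer_iff_cj.2 h3, mem_normalizer_iff_cj.2 h4⟩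
  · rintro g ⟨hg, hgB⟩
    exact mem_normalizer_iff_cj.2 (nB' h p h2 hg hgB).2
  · intro R hmp hRC hne
    obtain ⟨L', V', l, hLR, hR, hb, hV⟩ := huni R hmp hRC hne
    obtain ⟨hRW, rfl, rfl⟩ := uni_a h p h2 hRC hLR hR hb hV
    have hBR : B ≤ R := (B_le_T h 0).trans hmp.le
    refine ⟨hRW, uni_b' h p hTI hnl hfix hmp hRC hne hLR hR hb hRW,
      fun x hx hx1 y hy hy1 => uni_c h hBR hLR hb hx hx1 hy hy1, ?_⟩
    obtain ⟨r, hr, hrn, m, hm, hmr⟩ := uni_d h p h2 hTI hBR hRW hne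
    exact ⟨r, hr, hrn, m, centralizer_le (h.fr.blk 0).ZV hm, hm, hmr⟩

/-- the module frame `QFt` with `X = XW Z W (Z 0)` -/
theorem qft_of (hq : 4 ≤ q) {T : Subgroup G} (hBT : B ≤ T) (E : QFb Z W B T) (hW : ¬ W 0 ≤ Nn Z 0) :
    QFt Z W B T (XW Z W (Z 0)) := by
  have D : FQ Z W B q := FQ.of_bg h hTI hnl
  have h2 : ∀ l : Fin 2, l = 0 ∨ l = 1 := fun l => fin2 l
  have ev : (![Z 0, Z 1] : Fin 2 → Subgroup G) = Z := vec2 Z
  have hCX : centralizer (Z 0 : Set G) ≤ normalizer (XW Z W (Z 0) : Set G) :=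
    (centralizer_le_normalizer _).trans (OM.PG.CX.nor_X D.xf (D.pt 0))
  refine
    { toQFs :=
        { toQFb := E
          NX := le_sup_left
          U0N := ln_le_XW (D.ln 0)
          Ncomm := D.XW_comm 0
          Xsq := (ExactA.eab_iff.1 (D.XW_eab 0)).2
          CN := hCX }
      four := ?_
      adjC := fun u hu => Fin.adjC h p.ne h2 hBT E.syl (by rw [ev]; exact hu)
      core0 := fun J hJ hn hsq => ?_
      gX := ?_
      out := ?_ }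
  · have h1 : Nat.card (Z 0) * (Z 0).relIndex (W 0) = Nat.card (W 0) :=
      Cfsg.Agent.Omega.NO3S.ML.card_mul_relIndex (h.fr.blk 0).ZV
    rw [(h.fr.blk 0).card] at h1
    have h3 : (Z 0).relIndex (W 0) = q := Nat.eq_of_mul_eq_mul_left Nat.card_pos h1
    rw [h3]
    exact hq
  · exact CoreP.of_bg h J hJ hn fun y hy => by
      rw [← pow_two]
      exact hsq y hy
  · intro W' hN hW0 hinv
    refine sup_le hN (iSup_le fun l => ?_)
    obtain ⟨c, hc, e⟩ := D.ln_conj l.2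
    obtain ⟨x, hx, hn⟩ := Fin.frattini E.syl hc
    have hxc : x⁻¹ * c ∈ normalizer (Z 0 : Set G) := mul_mem (inv_mem (centralizer_le_normalizer _ hx)) hc
    have h1 : x⁻¹ * c ∈ normalizer (W 0 : Set G) := by
      have h3 : cj (x⁻¹ * c) B = B := h.wc T E.syl.2.1 hBT _ (by
        have := cj_mono (x⁻¹ * c) hBT
        rwa [cj_eq_of_mem_normalizer hn] at this)
      exact mem_normalizer_iff_cj.2 (h.cj_W (mem_normalizer_iff_cj.2 h3) (cj_eq_of_mem_normalizer hxc))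
    have e1 : MulAut.conj c • W 0 = MulAut.conj x • W 0 := by
      have e2 : c = x * (x⁻¹ * c) := by group
      rw [e2, ← NoFF.Basic.conj_conj, NOThreeL.Pair.conj_eq_of_mem h1]
    rw [e, e1]
    rintro _ ⟨w, hw, rfl⟩
    exact hinv x hx w (hW0 hw) (ln_le_XW (D.ln 0) hw)
  · intro hle
    obtain ⟨x, hx, hxZ⟩ := D.exists_ne_Z 0
    obtain ⟨z, hz, n, hn, hzn⟩ := OM.KTwo.exists_mul_of_mem_sup
      (((D.NQ 0).trans (D.cen 0)).trans (centralizer_le_normalizer _)) (hle hx)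
    have h3 : n ∈ W 0 := by
      have e : n = z⁻¹ * x := by rw [hzn]; group
      rw [e]
      exact mul_mem (inv_mem (D.ZU' 0 hz)) hx
    have h4 := D.inf_U hW h3 hn
    apply hxZ
    rw [hzn]
    exact mul_mem hz h4

/-- **`J(O)` moves `W 0`** if `W 0 ≰ N_0`. -/
theorem hJ_zero (hML : ML.Final.MLK.{u, u}) (hN : KL.Q.DefG.NoPreG.{u, u}) (hq : 4 ≤ q) {T : Subgroup G} (hBT : B ≤ T)
    (E : QFb Z W B T) (hu : ∀ R : Subgroup G, IsMinPar T R → R ≤ centralizer (Z 0 : Set G) →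
      ¬ R ≤ normalizer (Z 1 : Set G) → R ≤ normalizer (W 1 : Set G)) (hW : ¬ W 0 ≤ Nn Z 0) :
    ∃ A ∈ AA (OO Z), ¬ A ≤ centralizer (W 0 : Set G) := by
  by_contra hcon
  push Not at hcon
  have D : FQ Z W B q := FQ.of_bg h hTI hnl
  have hNO := NoDQ.of_bg h hML hTI hnl
  have h2 : ∀ l : Fin 2, l = 0 ∨ l = 1 := fun l => fin2 l
  have I : ExG.In Z W := by
    have h1 := KL.Q.ExQF.in_of_uni h p h2 hTI hnl hML hBT E.syl hu
    rwa [vec2, vec2] at h1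
  obtain ⟨A, hA, hAO, hAU, hEx, hAn⟩ := NotFail.exists_exX D I hNO hcon
  have hK : IsKGroup (centralizer (Z 0 : Set G)) := by
    refine h.hyp.ctx.kproper _ fun e => ?_
    exact KL.Q.ExBg.ne_top' h hnl (top_le_iff.1 (e ▸ centralizer_le_normalizer _))
  obtain ⟨M, _, _, _, X, Y, hP⟩ := (qft_of h p hTI hnl hq hBT E hW).preG hK
    (fun a ha => by rw [← pow_two]; exact (ExactA.eab_iff.1 hA).2 a ha) hAO hAU hEx hAn
  exact hN _ _ _ _ _ _ hP

/-- **`J(O)` moves `W i`**, both `i`. -/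
theorem hJ_of (hML : ML.Final.MLK.{u, u}) (hN : KL.Q.DefG.NoPreG.{u, u}) (hq : 4 ≤ q) {T : Subgroup G} (hBT : B ≤ T)
    (E : QFb Z W B T) (hu : ∀ R : Subgroup G, IsMinPar T R → R ≤ centralizer (Z 0 : Set G) →
      ¬ R ≤ normalizer (Z 1 : Set G) → R ≤ normalizer (W 1 : Set G)) (hW : ¬ W 0 ≤ Nn Z 0) (i : Fin 2) :
    ∃ A ∈ AA (OO Z), ¬ A ≤ centralizer (W i : Set G) := by
  obtain ⟨A, hA, hm⟩ := hJ_zero h p hTI hnl hML hN hq hBT E hu hW
  rcases fin2 i with rfl | rfl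
  · exact ⟨A, hA, hm⟩
  have hO : cj s (OO Z) = OO Z := by
    have h2 : cj s (Z 0 ⊔ Z 1) = Z 0 ⊔ Z 1 := by
      have e : cj s (Z 0 ⊔ Z 1) = cj s (Z 0) ⊔ cj s (Z 1) := Subgroup.map_sup _ _ _
      rw [e, h.cj_s_Z p, h.cj_s_Z' p, sup_comm]
    have h4 := NO3L.LemP.normalizer_le_normalizer_cent (Z 0 ⊔ Z 1) (mem_normalizer_iff_cj.2 h2)
    exact NOThreeL.Pair.conj_eq_of_mem (Cfsg.Agent.Omega.normalizer_le_normalizer_o2' _ h4)
  refine ⟨cj s A, ?_, fun h1 => hm ?_⟩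
  · have h3 := cj_mem_AA s hA
    rwa [hO] at h3
  · rw [← p.ij, ← cj_centralizer, cj_le_iff, cj_inv_cj] at h1
    exact h1

end

end Cfsg.Agent.Omega.KL.QF.HJ
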