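import Cfsg.Agent.Omega.KL.QF.Fin
import Cfsg.Agent.Omega.KL.Q.EndG
import Cfsg.Agent.Omega.NO3S.EThree.Row7

/-!
# Row (7), branch (B): `KIn` from `MLK`, `Ext` and the frame `QFr`

* `QIn K` : in the situation `MQ`, `W i ≤ N_i`, the frame `QFr Z W B T` exists for some `T`;
* `kIn_of` : **`KIn K` from `MLK`, `Ext`, `QIn K`**.
-/

set_option autoImplicit false
set_option linter.unusedSectionVars false

namespace Cfsg.Agent.Omega.KL.QF.KIn

open Subgroup Cfsg Cfsg.Agent.ZN.ChoiceBase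
open Cfsg.Agent.Omega.NO3S.EThree.Frame
open Cfsg.Agent.Omega.NO3S.EThree.Row7
open Cfsg.Agent.Omega.KL.Q
open Cfsg.Agent.Omega.Frame (Cls)

universe u

/-- **The frame `QFr`** (UNI at every stage). -/
def QIn (K : Cls.{u}) : Prop :=
  ∀ (G : Type u) [Group G] [Finite G], K G → ∀ (S : Sylow 2 G) (P K' B ZJ : Subgroup G)
    (L W Z C : Fin 2 → Subgroup G) (q : ℕ), MQ S P K' B ZJ L W Z C q → (∀ i, W i ≤ Nn Z i) →
      ∃ T : Subgroup G, QFr Z W B T

/-- **(B)**: `W i ≤ N_i` is impossible. -/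
theorem false_of [Finite (Fin 2)] {G : Type u} [Group G] [Finite G] {S : Sylow 2 G} {P K' B ZJ : Subgroup G}
    {L W Z C : Fin 2 → Subgroup G} {q : ℕ} (h : MQ S P K' B ZJ L W Z C q) (hML : ML.Final.MLK.{u, u})
    (hN : DefG.NoPreG.{u, u}) {T : Subgroup G} (D : QFr Z W B T) : False := by
  obtain ⟨s, p⟩ := h.exists_pa
  refine Fin.false_of_qfr h.bg p (fun l => fin2 l) h.hq hML hN (T := T) ?_
  rw [vec2, vec2]
  exact D

theorem kIn_of {K : Cls.{u}} (hML : ML.Final.MLK.{u, u}) (hE : ML.Ex.Two.Ext.{u, u}) (hQ : QIn K) : KIn K := by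
  intro G _ _ hG S P K' B ZJ L W Z C q h hW
  obtain ⟨T, D⟩ := hQ G hG S P K' B ZJ L W Z C q h hW
  exact (false_of h hML (EndG.noPreG hML hE) D).elim

end Cfsg.Agent.Omega.KL.QF.KIn
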