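import Cfsg.Agent.Omega.KL.QF.OfBg
import Cfsg.Agent.Omega.KL.QF.FixX
import Cfsg.Agent.Omega.TC.UniLev
import Cfsg.Agent.Omega.OM.Lev.Low.LowMain

/-!
# `QFr` at stage `n ≥ 0`, `q ≥ 4`, `k = 2` (#22723 "levels"; helper20)

* `Loc` : the standing facts on `R` over `T = C_S(Z i)` (any `LB`): Sylow, characteristic 2, `Ω₁Z(T)` is moved;
* `genU_lev`, `fixU_lev` : the hypotheses `GenU`, `FixU` of `OfBg.qfr_of` at stage `n`;
* `qfr_lev` : **`QFr ![Z i, Z j] ![W i, W j] B (C_S(Z i))` at stage `n ≥ 0`, `q > 2`.**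
-/

set_option autoImplicit false
set_option linter.unusedSectionVars false
set_option maxHeartbeats 400000

namespace Cfsg.Agent.Omega.KL.QF.OfLev

open Subgroup Cfsg Cfsg.Agent.ZN.ChoiceBase
open Cfsg.Agent.ZN (jj zj bau zc zl o2)
open Cfsg.Agent.ZN.ChoiceSit (Syl exists_syl syl_conj o2_le_syl)
open Cfsg.Agent.Omega.OM Cfsg.Agent.Omega.OM.Uni
open Cfsg.Agent.Omega.OM.UniPlus (NB)
open Cfsg.Agent.Omega.OM.LevD (LB)
open Cfsg.Agent.Omega.OM.Lev.Uni (FrL)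
open Cfsg.Agent.Omega.OM.SwapL (Ln)
open Cfsg.Agent.Omega.NO3S.Level (lev lev_isLev lev_mono lev_le)
open Cfsg.Agent.Omega.NO3S.EThree.Frame
open Cfsg.Agent.Omega.MinPar (NonLoc)
open Cfsg.Agent.MinSimple.MinParabolic (IsMinPar)
open Cfsg.Agent.MinSimple.VModule (le_normalizer_o2 o2_isPGroup le_o2 o2_le)
open PtV OfBg
open scoped Pointwise

universe u

variable {G : Type u} [Group G]

section

variable [Finite G] {S : Sylow 2 G} {P : Subgroup G} {ι : Type} [Finite ι] {B ZJ : Subgroup G}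
  {L W Z C : ι → Subgroup G} {q : ℕ} (h : Bg S P B ZJ L W Z C q) {i j : ι} {s : G}
  (p : Pa (S : Subgroup G) W i j s) (h2 : ∀ l : ι, l = i ∨ l = j)
  (hTI : TI (Z i))
include h

/-- `R` has characteristic 2 -/
theorem char2 {R : Subgroup G} (hBR : B ≤ R) (hRC : R ≤ centralizer (Z i : Set G)) :
    R ⊓ centralizer (o2 R : Set G) ≤ o2 R := by
  have h1 := h.char_Z i
  have h4 : o2 (normalizer (Z i : Set G)) ≤ o2 R :=
    le_o2 ((h.o2_le i).trans hBR) (o2_isPGroup _)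
      ((hRC.trans (centralizer_le_normalizer _)).trans (le_normalizer_o2 _))
  rintro x ⟨hx, hxc⟩
  exact h4 (h1 ⟨centralizer_le_normalizer _ (hRC hx), centralizer_le (by exact_mod_cast h4) hxc⟩)

include p h2 in
/-- a nontrivial `T`-fixed vector of `Z j` -/
theorem exists_fixed : ∃ x ∈ Z j, x ≠ 1 ∧ x ∈ zc ((S : Subgroup G) ⊓ centralizer (Z i : Set G)) := by
  set T : Subgroup G := (S : Subgroup G) ⊓ centralizer (Z i : Set G) with hT
  have hZT : Z j ≤ T := ((h.fr.blk j).ZV.trans (W_le_B h j)).trans (B_le_T h i)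
  have hne : ¬ Z j ≤ (⊥ : Subgroup G) := fun e => h.Z_ne j (le_bot_iff.1 e)
  obtain ⟨x, hx, hx1, hfix⟩ := exists_fix_mod (X := T) (T := Z j) (K := ⊥) (S.isPGroup'.to_le inf_le_left) hZT
    (T1 h p h2) (fun t _ => by
      rw [mem_normalizer_iff]
      intro y
      simp only [mem_bot]
      exact (conj_eq_one_iff).symm) hne
  refine ⟨x, hx, fun e => hx1 (by rw [e]; exact one_mem _), mem_zc.2 ⟨hZT hx, h.fr.Vsq (h.fr.ZV j hx), fun t ht => ?_⟩⟩
  have h3 := hfix t ht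
  rw [mem_bot] at h3
  exact mul_inv_eq_iff_eq_mul.1 (mul_inv_eq_one.1 h3)

include p h2 hTI in
/-- `R` moves `Ω₁Z(T)` -/
theorem not_cent {R : Subgroup G} (hne : ¬ R ≤ normalizer (Z j : Set G)) :
    ¬ R ≤ centralizer (zc ((S : Subgroup G) ⊓ centralizer (Z i : Set G)) : Set G) := by
  obtain ⟨x, hx, hx1, hxT⟩ := exists_fixed h p h2
  intro hc
  apply hne
  intro r hr
  refine mem_normalizer_iff_cj.2 (ti h hTI (i := i) (j := j) (x := x) ((ptj h p).conj r) (ptj h p) ?_ hx hx1)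
  rw [mem_cj]
  have h3 := mem_centralizer_iff.1 (hc hr) x hxT
  have e : r⁻¹ * x * r = x := by rw [mul_assoc, h3]; group
  rwa [e]

include p h2 hTI in
/-- a group normalising `Z_J` and centralising `Z i` normalises `Z j` -/
theorem nor_Zj {R : Subgroup G} (hRC : R ≤ centralizer (Z i : Set G)) (hRJ : R ≤ normalizer (ZJ : Set G)) :
    R ≤ normalizer (Z j : Set G) := by
  intro r hr
  obtain ⟨x, hx, hx1⟩ : ∃ x ∈ Z j, x ≠ 1 := by
    by_contra hcon
    push Not at hcon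
    exact h.Z_ne j ((eq_bot_iff_forall _).2 hcon)
  have h3 : r * x * r⁻¹ ∈ ZJ := (mem_normalizer_iff.1 (hRJ hr) x).1 (h.fr.Z_le j hx)
  have h4 : r * x * r⁻¹ ∈ cj r (Z j) := ⟨x, hx, rfl⟩
  have hx1' : r * x * r⁻¹ ≠ 1 := fun e => hx1 (conj_eq_one_iff.1 e)
  obtain ⟨l, hl⟩ := h.fus (i := i) (x := r * x * r⁻¹) (g := r * s) h3 (by
    have e : (r * s)⁻¹ * (r * x * r⁻¹) * (r * s) = s⁻¹ * x * s := by group
    rw [e, ← mem_cj, h.cj_s_Z p]
    exact hx)
  rcases h2 l with rfl | rfl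
  · -- `r x r⁻¹ ∈ Z i`
    exfalso
    have h5 := mem_centralizer_iff.1 (hRC hr) _ hl
    have h6 : r * x * r⁻¹ = x := by
      have h7 : r * x * r⁻¹ * r = r * (r * x * r⁻¹) := h5
      have h8 : r * x = r * (r * x * r⁻¹) := by
        calc r * x = r * x * r⁻¹ * r := by group
          _ = _ := h7
      exact (mul_left_cancel h8).symm
    rw [h6] at hl
    have h7 : x ∈ Z l ⊓ Z j := ⟨hl, hx⟩
    rw [h.Z_disj p.ne, mem_bot] at h7
    exact hx1 h7
  · exact mem_normalizer_iff_cj.2 (ti h hTI (i := i) (j := l) (x := r * x * r⁻¹) ((ptj h p).conj r) (ptj h p) h4 hl hx1')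

/-! ### Stage `n` -/

variable {n : ℕ} {A : ι → Subgroup G}

include p h2 hTI in
theorem lev_facts (eqZ : ZJ = zc (lev (S : Subgroup G) (n + 1)))
    (eqB : B = (S : Subgroup G) ⊓ centralizer (zc (lev (S : Subgroup G) (n + 1)) : Set G))
    (hn : lev (S : Subgroup G) n ≤ o2 P) (hF : FrL B (o2 P) (zl (S : Subgroup G) P) (zc (lev (S : Subgroup G) n)) ZJ
      L W Z C A q) (hq : 2 < q) {R : Subgroup G} (hR : IsMinPar ((S : Subgroup G) ⊓ centralizer (Z i : Set G)) R)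
    (hRC : R ≤ centralizer (Z i : Set G)) (hne : ¬ R ≤ normalizer (Z j : Set G)) :
    Syl ((S : Subgroup G) ⊓ centralizer (Z i : Set G)) R ∧ R ⊓ centralizer (o2 R : Set G) ≤ o2 R ∧
      ¬ R ≤ centralizer (zc ((S : Subgroup G) ⊓ centralizer (Z i : Set G)) : Set G) ∧
      lev (S : Subgroup G) n ≤ o2 R ∧ ¬ lev (S : Subgroup G) (n + 1) ≤ o2 R := by
  have hBT := B_le_T h i
  have hS : Syl ((S : Subgroup G) ⊓ centralizer (Z i : Set G)) R :=
    ⟨hR.le, S.isPGroup'.to_le inf_le_left, fun Q hQ h3 hle => (syl_T h i).2.2 Q (hQ.trans hRC) h3 hle⟩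
  have hc := char2 h (i := i) (hBT.trans hR.le) hRC
  have hZ := not_cent h p h2 hTI hne
  subst eqZ
  subst eqB
  have hL : Ln S P n L W Z C A q := ⟨h.hyp, hn, hF, h.two⟩
  refine ⟨hS, hc, hZ, Lev.Low.low_four hL hq hS hBT hR hc hZ, fun hn1 => hne ?_⟩
  refine nor_Zj h p h2 hTI hRC ?_
  exact (le_normalizer_o2 R).trans ((LB.lev S (n + 1)).nrm _ (o2_isPGroup R) hn1)

include p h2 hTI in
theorem genU_lev (eqZ : ZJ = zc (lev (S : Subgroup G) (n + 1)))
    (eqB : B = (S : Subgroup G) ⊓ centralizer (zc (lev (S : Subgroup G) (n + 1)) : Set G))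
    (hn : lev (S : Subgroup G) n ≤ o2 P) (hF : FrL B (o2 P) (zl (S : Subgroup G) P) (zc (lev (S : Subgroup G) n)) ZJ
      L W Z C A q) (hq : 2 < q) : GenU (S : Subgroup G) B ZJ W Z q i j := by
  intro R hR hRC hne
  obtain ⟨hS, hc, hZ, hK, hn1⟩ := lev_facts h p h2 hTI eqZ eqB hn hF hq hR hRC hne
  have hB : LevB.BL (S : Subgroup G) (n + 1) = B := eqB.symm
  have hBT := B_le_T h i
  obtain ⟨L', V', h3, ⟨h4, h5⟩, h6⟩ := LevB.exists_fblk S hS (hB.le.trans hBT) hR hc hK hn1 hZ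
  rw [hB] at h4 h5
  obtain ⟨-, -, l, -, h7, h8, -⟩ := TC.UniLev.uni_all S eqZ eqB hF (L' := L') (V' := V') ⟨h4, h5⟩
  exact ⟨L', V', l, h3, h6, h7, h8⟩

include p h2 hTI in
theorem fixU_lev (eqZ : ZJ = zc (lev (S : Subgroup G) (n + 1)))
    (eqB : B = (S : Subgroup G) ⊓ centralizer (zc (lev (S : Subgroup G) (n + 1)) : Set G))
    (hn : lev (S : Subgroup G) n ≤ o2 P) (hF : FrL B (o2 P) (zl (S : Subgroup G) P) (zc (lev (S : Subgroup G) n)) ZJ
      L W Z C A q) (hq : 2 < q) : FixU (S : Subgroup G) P W Z i j := by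
  intro R hR hRC hne r hr w hw hwQ hwc
  obtain ⟨hS, hc, hZ, hK, hn1⟩ := lev_facts h p h2 hTI eqZ eqB hn hF hq hR hRC hne
  have hRX : R ≤ normalizer (zc (lev (S : Subgroup G) n) : Set G) :=
    (le_normalizer_o2 R).trans ((LB.lev S n).nrm _ (o2_isPGroup R) hK)
  exact FixX.fixX hF ((mem_normalizer_iff.1 (hRX hr) w).1 (hF.VX (hF.WV i hw))) hwQ hwc

/-- **`QFr` at stage `n`.** -/
theorem qfr_lev {i j : ι} {s : G} (p : Pa (S : Subgroup G) W i j s) (h2 : ∀ l : ι, l = i ∨ l = j)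
    (eqZ : ZJ = zc (lev (S : Subgroup G) (n + 1)))
    (eqB : B = (S : Subgroup G) ⊓ centralizer (zc (lev (S : Subgroup G) (n + 1)) : Set G))
    (hn : lev (S : Subgroup G) n ≤ o2 P) (hF : FrL B (o2 P) (zl (S : Subgroup G) P) (zc (lev (S : Subgroup G) n)) ZJ
      L W Z C A q) (hq : 2 < q) (hTI : TI (Z i))
    (hnl : NonLoc (normalizer (Z i : Set G)) (normalizer (Z j : Set G)))
    (self : W i ≤ PG.NN ![Z i, Z j] (Z i)) :
    QFr ![Z i, Z j] ![W i, W j] B ((S : Subgroup G) ⊓ centralizer (Z i : Set G)) :=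
  qfr_of h p h2 hTI hnl self (genU_lev h p h2 hTI eqZ eqB hn hF hq) (fixU_lev h p h2 hTI eqZ eqB hn hF hq)

end

end Cfsg.Agent.Omega.KL.QF.OfLev
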