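import Cfsg.Agent.Omega.KL.QF.OfLev
import Cfsg.Agent.Omega.OM.Lev.HUMul
import Cfsg.Agent.Omega.NO3S.EThree.NonLocQ
import Cfsg.Agent.Omega.NO3S.EThree.Row7

/-!
# `QFr` over `Mul`, `k = 2`, `q ≥ 4`, every stage (helper20)

* `GenV` : `GenU` with `V' ≤ V_P` in place of `V' ≤ W l Z_J`; `genU_of` : `GenV` gives `GenU`;
* `genV_lev` : `GenV` for `Mul` at stage `n ≥ 0`; `fixU_of` : `FixU` for `Mul`, every stage;
* `NegV` : `GenV` at stage `-1`; `qfr_mq` : **`MQ`, `W 0 ≤ N_0`, `NegV` give `QFr Z W B T`.**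
-/

set_option autoImplicit false
set_option linter.unusedSectionVars false
set_option maxHeartbeats 400000

namespace Cfsg.Agent.Omega.KL.QF.OfMul

open Subgroup Cfsg Cfsg.Agent.ZN.ChoiceBase
open Cfsg.Agent.ZN (jj zj bau zc zl o2)
open Cfsg.Agent.ZN.ChoiceSit (Syl exists_syl syl_conj o2_le_syl)
open Cfsg.Agent.Omega.OM Cfsg.Agent.Omega.OM.Uni
open Cfsg.Agent.Omega.OM.UniPlus (NB)
open Cfsg.Agent.Omega.OM.LevD (LB)
open Cfsg.Agent.Omega.OM.Lev.Uni (FrL)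
open Cfsg.Agent.Omega.OM.SwapL (Ln)
open Cfsg.Agent.Omega.NO3S.Level (lev lev_isLev lev_mono lev_le)
open Cfsg.Agent.Omega.NO3S.EThree.Frame
open Cfsg.Agent.Omega.NO3S.EThree.NonLocQ (BlkU blkU_of)
open Cfsg.Agent.Omega.NO3S.EThree.Row7
open Cfsg.Agent.Omega.Node.MultiOf
open Cfsg.Agent.Omega.MinPar (NonLoc)
open Cfsg.Agent.MinSimple.MinParabolic (IsMinPar)
open Cfsg.Agent.MinSimple.VModule (le_normalizer_o2 o2_isPGroup le_o2 o2_le)
open PtV OfBg OfLev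
open scoped Pointwise

universe u

variable {G : Type u} [Group G]

/-- `GenU` with `V' ≤ V`. -/
def GenV (S : Subgroup G) (B V : Subgroup G) {ι : Type} (Z : ι → Subgroup G) (q : ℕ) (i j : ι) : Prop :=
  ∀ R : Subgroup G, IsMinPar (S ⊓ centralizer (Z i : Set G)) R → R ≤ centralizer (Z i : Set G) →
    ¬ R ≤ normalizer (Z j : Set G) → ∃ (L' V' : Subgroup G) (l : ι), L' ≤ R ∧
      R ≤ (S ⊓ centralizer (Z i : Set G)) ⊔ L' ∧ NB B L' V' (Z l) q ∧ V' ≤ V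

section

variable [Finite G] {S : Sylow 2 G} {P : Subgroup G} {ι : Type} [Finite ι] {B ZJ : Subgroup G}
  {L W Z C : ι → Subgroup G} {q : ℕ} (h : Bg S P B ZJ L W Z C q) {i j : ι} {s : G}
  (p : Pa (S : Subgroup G) W i j s) (h2 : ∀ l : ι, l = i ∨ l = j)
include h p h2

theorem genU_of (hg : GenV (S : Subgroup G) B (zl (S : Subgroup G) P) Z q i j) :
    GenU (S : Subgroup G) B ZJ W Z q i j := by
  intro R hR hRC hne
  obtain ⟨L', V', l, hLR, hRL, hb, hV⟩ := hg R hR hRC hne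
  refine ⟨L', V', l, hLR, hRL, hb, ?_⟩
  have hl : l = j := by
    rcases h2 l with rfl | rfl
    · exfalso
      apply h.Z_ne l
      rw [eq_bot_iff]
      intro z hz
      exact mem_bot.2 (hb.cent hz fun x hx => (mem_centralizer_iff.1 (hRC (hLR hx)) z hz).symm)
    · rfl
  subst hl
  obtain ⟨k, hk, hs, -⟩ := hb.spl
  have h3 : cj k (Z l) ≤ zl (S : Subgroup G) P := (hb.cjV hk).trans hV
  rcases le_or h p h2 h3 (fun x hx => ⟨k * s, by
    have e : (k * s)⁻¹ * x * (k * s) = s⁻¹ * (k⁻¹ * x * k) * s := by group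
    rw [e, ← mem_cj, h.cj_s_Z p]
    exact mem_cj.1 hx⟩) with h4 | h4
  · exfalso
    obtain ⟨b, hbB, v, hv, hbv⟩ := hb.ne
    apply hbv
    rw [hs] at hv
    obtain ⟨z, hz, c, hc, rfl⟩ := SQ1.Bau.mem_sup_comm
      (fun a ha b hb' => hb.comm (hb.ZV ha) (hb.cjV hk hb')) hv
    have c1 : Commute b z := hb.cZ b hbB z hz
    have c2 : Commute b c := by
      have h5 : b * c * b⁻¹ * c⁻¹ ∈ Z i ⊓ Z l :=
        mem_inf.2 ⟨(h.fr.blk i).com b hbB c (h4 hc), hb.com b hbB c (hb.cjV hk hc)⟩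
      rw [h.Z_disj p.ne, mem_bot] at h5
      exact mul_inv_eq_iff_eq_mul.1 (mul_inv_eq_one.1 h5)
    exact (c1.mul_right c2).eq
  · rw [hs]
    exact (sup_le (h.fr.blk l).ZV h4).trans le_sup_left

end

section mul

variable [Finite G] {S : Sylow 2 G} {P K' B ZJ : Subgroup G} {k : ℕ} {L W Z C : Fin k → Subgroup G} {q : ℕ}

/-- **`FixU` for `Mul`**, given that `R` normalises `Ω₁(Z(lev n))` at stage `n`. -/
theorem fixU_of (h : Mul S P K' B ZJ L W Z C q) (hk : 2 ≤ k) {i j : Fin k}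
    (hX : ∀ n, lev (S : Subgroup G) n ≤ o2 P → K' = lev (S : Subgroup G) (n + 1) → ∀ R : Subgroup G,
      IsMinPar ((S : Subgroup G) ⊓ centralizer (Z i : Set G)) R → R ≤ centralizer (Z i : Set G) →
        ¬ R ≤ normalizer (Z j : Set G) → R ≤ normalizer (zc (lev (S : Subgroup G) n) : Set G)) :
    FixU (S : Subgroup G) P W Z i j := by
  intro R hR hRC hne r hr w hw hwQ hwc
  refine HUMul.fixS h hk i hwQ ?_ (fun n hn hK => ?_) fun o ho => ?_
  · have h1 := SQ1.Bau.elem_sq h.bg.fr.el w (h.bg.fr.WV i hw)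
    have e : (r * w * r⁻¹) ^ 2 = r * w ^ 2 * r⁻¹ := by rw [pow_two, pow_two]; group
    rw [e, h1]; group
  · exact (mem_normalizer_iff.1 (hX n hn hK R hR hRC hne hr) w).1
      (HUMul.V_le_X h hn (h.bg.fr.WV i hw))
  · have h1 := inv_mem (hwc o ho)
    have e : (r * w * r⁻¹ * o * (r * w * r⁻¹)⁻¹ * o⁻¹)⁻¹ = o * (r * w * r⁻¹) * o⁻¹ * (r * w * r⁻¹)⁻¹ := by group
    rwa [e] at h1

end mul

section mq

variable [Finite G] {S : Sylow 2 G} {P K' B ZJ : Subgroup G} {L W Z C : Fin 2 → Subgroup G} {q : ℕ}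

/-- the facts on `R` at stage `n` -/
theorem facts_lev (h : MQ S P K' B ZJ L W Z C q) {s : G} (p : Pa (S : Subgroup G) W 0 1 s) {n : ℕ}
    (hn : lev (S : Subgroup G) n ≤ o2 P) (hn1 : ¬ lev (S : Subgroup G) (n + 1) ≤ o2 P)
    (eqZ : ZJ = zc (lev (S : Subgroup G) (n + 1)))
    (eqB : B = (S : Subgroup G) ⊓ centralizer (zc (lev (S : Subgroup G) (n + 1)) : Set G)) {R : Subgroup G}
    (hR : IsMinPar ((S : Subgroup G) ⊓ centralizer (Z 0 : Set G)) R)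
    (hRC : R ≤ centralizer (Z 0 : Set G)) (hne : ¬ R ≤ normalizer (Z 1 : Set G)) :
    Syl ((S : Subgroup G) ⊓ centralizer (Z 0 : Set G)) R ∧ R ⊓ centralizer (o2 R : Set G) ≤ o2 R ∧
      ¬ R ≤ centralizer (zc ((S : Subgroup G) ⊓ centralizer (Z 0 : Set G)) : Set G) ∧
      lev (S : Subgroup G) n ≤ o2 R ∧ ¬ lev (S : Subgroup G) (n + 1) ≤ o2 R := by
  have hBT := B_le_T h.bg 0
  have hS : Syl ((S : Subgroup G) ⊓ centralizer (Z 0 : Set G)) R :=
    ⟨hR.le, S.isPGroup'.to_le inf_le_left, fun Q hQ h3 hle => (syl_T h.bg 0).2.2 Q (hQ.trans hRC) h3 hle⟩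
  have hc := char2 h.bg (i := 0) (hBT.trans hR.le) hRC
  have hZ := not_cent h.bg p (fun l => fin2 l) (h.ti 0) hne
  obtain ⟨F, _, _, _, e, ⟨N⟩⟩ := h.mul.nat
  have hq := h.hq
  obtain ⟨M, L₁, Z₁, A₁, -, hF, -⟩ := Lev.Main.bg_lev h.mul.hyp.toHypN hn hn1 le_rfl N eqB
  have hL : Ln S P n L₁ _ Z₁ _ A₁ (Nat.card F) := ⟨h.mul.hyp.toHypN, hn, eqB ▸ hF, fun i => exists_ne i⟩
  refine ⟨hS, hc, hZ, Lev.Low.low_four hL (by omega) hS (eqB.ge.trans hBT) hR hc hZ, fun h1 => hne ?_⟩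
  refine nor_Zj h.bg p (fun l => fin2 l) (h.ti 0) hRC ?_
  rw [eqZ]
  exact (le_normalizer_o2 R).trans ((LB.lev S (n + 1)).nrm _ (o2_isPGroup R) h1)

/-- **`GenV` at stage `n`.** -/
theorem genV_lev (h : MQ S P K' B ZJ L W Z C q) {s : G} (p : Pa (S : Subgroup G) W 0 1 s) {n : ℕ}
    (hn : lev (S : Subgroup G) n ≤ o2 P) (hn1 : ¬ lev (S : Subgroup G) (n + 1) ≤ o2 P)
    (eqZ : ZJ = zc (lev (S : Subgroup G) (n + 1)))
    (eqB : B = (S : Subgroup G) ⊓ centralizer (zc (lev (S : Subgroup G) (n + 1)) : Set G)) :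
    GenV (S : Subgroup G) B (zl (S : Subgroup G) P) Z q 0 1 := by
  intro R hR hRC hne
  obtain ⟨hS, hc, hZ, hK, hK1⟩ := facts_lev h p hn hn1 eqZ eqB hR hRC hne
  have hB : LevB.BL (S : Subgroup G) (n + 1) = B := eqB.symm
  have hBT := B_le_T h.bg 0
  obtain ⟨L', V', h3, ⟨h4, h5⟩, h6⟩ := LevB.exists_fblk S hS (hB.le.trans hBT) hR hc hK hK1 hZ
  rw [hB] at h4 h5
  have hbl : FBl B L' V' := ⟨h4, h5⟩
  obtain ⟨l, h7, -⟩ := blkU_of le_rfl h.mul L' V' hbl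
  refine ⟨L', V', l, h3, h6, ⟨h7, h.bg.fr.cardZ l⟩, ?_⟩
  obtain ⟨F, _, _, _, e, ⟨N⟩⟩ := h.mul.nat
  obtain ⟨M, L₁, Z₁, A₁, -, hF, -⟩ := Lev.Main.bg_lev h.mul.hyp.toHypN hn hn1 le_rfl N eqB
  obtain ⟨-, -, l', -, -, h8, -⟩ := TC.UniLev.uni_all S rfl eqB hF hbl
  exact h8.trans (sup_le (hF.WV l') hF.ZJV)

/-- **`GenV` at stage `-1`** -/
def NegV (S : Sylow 2 G) (P B : Subgroup G) (Z : Fin 2 → Subgroup G) (q : ℕ) : Prop :=
  ¬ jj (S : Subgroup G) ≤ o2 P → B = bau (S : Subgroup G) → GenV (S : Subgroup G) B (zl (S : Subgroup G) P) Z q 0 1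

/-- **`QFr` for `MQ`**, every stage. -/
theorem qfr_mq (h : MQ S P K' B ZJ L W Z C q) (hW : W 0 ≤ Nn Z 0) (hneg : NegV S P B Z q) :
    QFr Z W B ((S : Subgroup G) ⊓ centralizer (Z 0 : Set G)) := by
  obtain ⟨s, p⟩ := h.exists_pa
  have hg : GenV (S : Subgroup G) B (zl (S : Subgroup G) P) Z q 0 1 := by
    cases h.mul.stg with
    | neg hj => exact hneg hj rfl
    | lev n hall hn hn1 => exact genV_lev h p hn hn1 rfl rfl
  have hf : FixU (S : Subgroup G) P W Z 0 1 := by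
    refine fixU_of h.mul le_rfl fun n hn hK R hR hRC hne => ?_
    have hlev : lev (S : Subgroup G) n ≤ o2 R := by
      cases h.mul.stg with
      | neg hj => exact absurd ((lev_mono (S : Subgroup G) (Nat.zero_le n)).trans hn) hj
      | lev m hall hm hm1 =>
        have hnm : n ≤ m := by
          by_contra hnm
          exact hm1 ((lev_mono (S : Subgroup G) (by omega : m + 1 ≤ n)).trans hn)
        exact (lev_mono (S : Subgroup G) hnm).trans (facts_lev h p hm hm1 rfl rfl hR hRC hne).2.2.2.1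
    exact (le_normalizer_o2 R).trans ((LB.lev S n).nrm _ (o2_isPGroup R) hlev)
  have h1 := qfr_of h.bg p (fun l => fin2 l) (h.ti 0) h.nonloc (by rw [vec2]; exact hW)
    (genU_of h.bg p (fun l => fin2 l) hg) hf
  rwa [vec2, vec2] at h1

end mq

end Cfsg.Agent.Omega.KL.QF.OfMul
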