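import Cfsg.Agent.Omega.KL.QF.OfBg
import Cfsg.Agent.Omega.KL.QF.KIn
import Cfsg.Agent.Omega.NO3S.EThree.FrQOf
import Cfsg.Agent.Omega.NO3S.EThree.FixQ
import Cfsg.Agent.Omega.TC.UniOne
import Cfsg.Agent.Omega.OM.Line

/-!
# `QFr` at stage `-1`: `GenU` and `FixU` for `B = bau S` (`k = 2`, `q > 2`)

* `exists_l` : the factors of two frames over `(bau S, Z_J)` agree modulo `Z_J`;
* `genU` : **`GenU`** from `UniOne.blkGenS` and UNI+; `fixU` : **`FixU`** from `FQ.fix`;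
* `qfr_neg` : **`QFr Z W (bau S) (C_S(Z 0))`** at stage `-1`; `qIn_of` : `QIn` from its level half `QLev`.
-/

set_option autoImplicit false
set_option linter.unusedSectionVars false

namespace Cfsg.Agent.Omega.KL.QF.OfNeg

open Subgroup Cfsg Cfsg.Agent.ZN.ChoiceBase
open Cfsg.Agent.ZN (jj zj bau zc zl o2)
open Cfsg.Agent.ZN.ChoiceSit (Syl exists_syl syl_conj)
open Cfsg.Agent.Omega.OM Cfsg.Agent.Omega.OM.Uni
open Cfsg.Agent.Omega.OM.UniPlus (NB)
open Cfsg.Agent.Omega.NO3S (HypJ HypN Hyp HypL)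
open Cfsg.Agent.Omega.NO3S.Level (lev)
open Cfsg.Agent.Omega.NO3S.EThree (FQ FixA)
open Cfsg.Agent.Omega.NO3S.EThree.Frame
open Cfsg.Agent.Omega.NO3S.EThree.Row7
open Cfsg.Agent.Omega.MinPar (NonLoc)
open Cfsg.Agent.Omega.Frame (Cls)
open Cfsg.Agent.Omega.Node.MultiOf
open Cfsg.Agent.MinSimple.MinParabolic (IsMinPar)
open Cfsg.Agent.MinSimple.VModule (le_normalizer_o2 o2_isPGroup le_o2 o2_le)
open Cfsg.Agent.Omega.KL.Q
open OfBg PtV
open scoped Pointwise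

universe u

variable {G : Type u} [Group G]

section cmp

variable [Finite G] {S : Sylow 2 G} {P : Subgroup G} {k : ℕ} {L W Z C L' W' Z' C' A' : Fin k → Subgroup G} {q : ℕ}
  (h : Bg S P (bau (S : Subgroup G)) (zj (S : Subgroup G)) L W Z C q) (h' : Line S P L' W' Z' C' A' q) (hq : 2 < q)

include h in
theorem zj_comm {x b : G} (hx : x ∈ zj (S : Subgroup G)) (hb : b ∈ bau (S : Subgroup G)) : b * x = x * b :=
  ((h.fr.mem_ZJ x).1 hx).2 b hb

include h h' hq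

theorem exists_idx (i : Fin k) : ∃ i', Z i = Z' i' ∧ W i ≤ W' i' ⊔ zj (S : Subgroup G) := by
  obtain ⟨-, i', hZ, -, h1 | h1⟩ := h'.uniPlus (h.fr.blk i)
  · exact ⟨i', hZ, h1.1⟩
  · exact absurd h1.1 (by omega)

theorem sup_eq {i i' : Fin k} (hW : W i ≤ W' i' ⊔ zj (S : Subgroup G)) :
    W i ⊔ zj (S : Subgroup G) = W' i' ⊔ zj (S : Subgroup G) := by
  refine Subgroup.eq_of_le_of_card_ge (sup_le hW le_sup_right) ?_
  have c1 := SQ1.Bau.card_sup_comm (A := W i) (B := zj (S : Subgroup G))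
    fun a ha b hb => h.fr.Vc (h.fr.WV i ha) (h.fr.ZJV hb)
  have c2 := SQ1.Bau.card_sup_comm (A := W' i') (B := zj (S : Subgroup G))
    fun a ha b hb => h'.fr.Vc (h'.fr.WV i' ha) (h'.fr.ZJV hb)
  have e1 : W i ⊓ zj (S : Subgroup G) = Z i := by
    refine le_antisymm ?_ (le_inf (h.fr.blk i).ZV (h.fr.Z_le i))
    rintro x ⟨hx, hx'⟩
    exact (h.fr.blk i).toMd.mem_Z_iff.2 ⟨hx, fun b hb => zj_comm h hx' hb⟩
  have e2 : W' i' ⊓ zj (S : Subgroup G) = Z' i' := by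
    refine le_antisymm ?_ (le_inf (h'.fr.blk i').ZV (h'.fr.Z_le i'))
    rintro x ⟨hx, hx'⟩
    exact (h'.fr.blk i').toMd.mem_Z_iff.2 ⟨hx, fun b hb => zj_comm h hx' hb⟩
  rw [e1, (h.fr.blk i).card, h.fr.cardZ] at c1
  rw [e2, (h'.fr.blk i').card, h'.fr.cardZ] at c2
  exact (Nat.eq_of_mul_eq_mul_right (show 0 < q by omega) (c2.trans c1.symm)).le

theorem exists_l (i' : Fin k) : ∃ l, Z l = Z' i' ∧ W l ⊔ zj (S : Subgroup G) = W' i' ⊔ zj (S : Subgroup G) := by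
  choose f hf using exists_idx h h' hq
  have hinj : Function.Injective f := fun a b e =>
    h.Z_inj ((hf a).1.trans ((congrArg Z' e).trans (hf b).1.symm))
  obtain ⟨l, rfl⟩ := (Finite.injective_iff_surjective.1 hinj) i'
  exact ⟨l, (hf l).1, sup_eq h h' hq (hf l).2⟩

variable {i j : Fin k} {s : G} (p : Pa (S : Subgroup G) W i j s) (h2 : ∀ l : Fin k, l = i ∨ l = j) (hTI : TI (Z i))
include p h2 hTI

/-- **`GenU` at stage `-1`.** -/
theorem genU (hFF : FFThm.Stmt.{u}) :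
    GenU (S : Subgroup G) (bau (S : Subgroup G)) (zj (S : Subgroup G)) W Z q i j := by
  intro R hR hRC hRj
  set T : Subgroup G := (S : Subgroup G) ⊓ centralizer (Z i : Set G) with hTd
  have hST := syl_T h i
  have hT : Syl T R := ⟨hR.le, hST.2.1, fun Q hQ h3 hle => hST.2.2 Q (hQ.trans hRC) h3 hle⟩
  have hBT : bau (S : Subgroup G) ≤ T := B_le_T h i
  have hRn : R ≤ normalizer (Z i : Set G) := hRC.trans (centralizer_le_normalizer _)
  have h4 : o2 (normalizer (Z i : Set G)) ≤ o2 R :=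
    le_o2 ((h.o2_le i).trans (hBT.trans hR.le)) (o2_isPGroup _) (hRn.trans (le_normalizer_o2 _))
  have hcR : R ⊓ centralizer (o2 R : Set G) ≤ o2 R := by
    rintro x ⟨hx, hxc⟩
    exact h4 (h.char_Z i ⟨hRn hx, centralizer_le (by exact_mod_cast h4) hxc⟩)
  have hJ : ¬ jj T ≤ o2 R := by
    intro hJ
    rw [LemmaK.Main.jj_eq S hT.2.1 hBT] at hJ
    apply hRj
    have h1 : R ≤ normalizer (zj (S : Subgroup G) : Set G) :=
      (le_normalizer_o2 R).trans ((LevD.LB.neg S).nrm _ (o2_isPGroup R) hJ)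
    intro r hr
    refine mem_normalizer_of_cj_le ?_
    rintro _ ⟨z, hz, rfl⟩
    change r * z * r⁻¹ ∈ Z j
    by_cases hz1 : z = 1
    · rw [hz1, mul_one, mul_inv_cancel]; exact one_mem _
    have hx : r * z * r⁻¹ ∈ zj (S : Subgroup G) := (mem_normalizer_iff.1 (h1 hr) z).1 (h.fr.Z_le j hz)
    obtain ⟨l, hl⟩ := h.fus (i := j) (g := r) hx (by
      have e : r⁻¹ * (r * z * r⁻¹) * r = z := by group
      rwa [e])
    rcases h2 l with e | e
    · exfalso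
      subst e
      have h5 := mem_centralizer_iff.1 (hRC hr) _ hl
      have h6 : z = r * z * r⁻¹ := by
        have h7 : r * z * r⁻¹ * r = r * (r * z * r⁻¹) := h5
        rw [inv_mul_cancel_right] at h7
        exact mul_left_cancel h7
      have h8 : z ∈ Z l ⊓ Z j := ⟨h6 ▸ hl, hz⟩
      rw [h.Z_disj p.ne, mem_bot] at h8
      exact hz1 h8
    · rwa [e] at hl
  have hZ : ¬ R ≤ centralizer (zc T : Set G) := by
    intro hc
    apply hRj
    obtain ⟨z, hz, hz1, hzT⟩ := ExBg.exists_fixed hT.2.1 (h.Z_two j) (h.Z_ne j) (T1 h p h2)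
    have hzB : z ∈ bau (S : Subgroup G) := (h.fr.blk j).VB ((h.fr.blk j).ZV hz)
    have hzc : z ∈ zc T := by
      rw [mem_zc]
      refine ⟨hBT hzB, h.fr.Vsq (h.fr.ZV j hz), fun t ht => ?_⟩
      exact mul_inv_eq_iff_eq_mul.1 (hzT t ht)
    intro r hr
    have h5 := mem_centralizer_iff.1 (hc hr) z hzc
    refine ExBg.ti_mem (ExBg.TI_j h p hTI) hz hz1 ?_
    rw [← h5, mul_inv_cancel_right]
    exact hz
  obtain ⟨L₁, V₁, ⟨⟨Z₁, q₁, hF⟩, -⟩, hL1, hL2⟩ := TC.UniOne.blkGenS hFF S hT hBT hR hcR hJ hZ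
  obtain ⟨-, i', -, hNB, h1 | h1⟩ := h'.uniPlus hF
  · obtain ⟨l, hl, e⟩ := exists_l h h' hq i'
    exact ⟨L₁, V₁, l, hL1, hL2.trans (sup_comm L₁ T).le, hl ▸ hNB, e ▸ h1.1⟩
  · exact absurd h1.1 (by omega)

end cmp

section fix

variable [Finite G] {S : Sylow 2 G} {P : Subgroup G} {L W Z C L' W' Z' C' A' : Fin 2 → Subgroup G} {q : ℕ}
  (h : Bg S P (bau (S : Subgroup G)) (zj (S : Subgroup G)) L W Z C q) (h' : Line S P L' W' Z' C' A' q) (hq : 2 < q)
include h h' hq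

/-- the offender on one factor -/
theorem fixA {i j : Fin 2} (hij : i ≠ j) : FixA W (bau (S : Subgroup G)) i j := by
  obtain ⟨i', hi, hWi⟩ := exists_idx h h' hq i
  obtain ⟨j', hj, hWj⟩ := exists_idx h h' hq j
  have hij' : i' ≠ j' := fun e => hij (h.Z_inj (hi.trans ((congrArg Z' e).trans hj.symm)))
  have hAJ : ∀ a ∈ A' i', ∀ z ∈ zj (S : Subgroup G), a * z = z * a := fun a ha z hz =>
    zj_comm h hz (h'.fr.AB i' ha)
  refine ⟨A' i', ⟨h'.fr.Ael i', h'.fr.AB i', fun E hE _ => ?_⟩, fun hc => ?_, ?_⟩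
  · rw [h'.fr.Am i']
    exact h'.fr.max E hE
  · apply h'.fr.Ane i'
    intro a ha v hv
    have hv' : v ∈ W i ⊔ zj (S : Subgroup G) := by
      rw [sup_eq h h' hq hWi]
      exact mem_sup_left hv
    obtain ⟨w, hw, z, hz, rfl⟩ := SQ1.Bau.mem_sup_comm
      (fun x hx y hy => h.fr.Vc (h.fr.WV i hx) (h.fr.ZJV hy)) hv'
    have c1 : Commute a w := (mem_centralizer_iff.1 (hc ha) w hw).symm
    have c2 : Commute a z := hAJ a ha z hz
    exact (c1.mul_right c2).eq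
  · intro a ha
    rw [mem_centralizer_iff]
    intro v hv
    obtain ⟨w, hw, z, hz, rfl⟩ := SQ1.Bau.mem_sup_comm
      (fun x hx y hy => h'.fr.Vc (h'.fr.WV j' hx) (h'.fr.ZJV hy)) (hWj hv)
    have c1 : Commute a w := h'.fr.AC i' a ha w (h'.fr.WjC i' j' hij' hw)
    have c2 : Commute a z := hAJ a ha z hz
    exact (c1.mul_right c2).eq.symm

/-- **`FixU` at stage `-1`.** -/
theorem fixU {i j : Fin 2} (hij : i ≠ j) (hTI : TI (Z 0))
    (hnl : NonLoc (normalizer (Z 0 : Set G)) (normalizer (Z 1 : Set G))) : FixU (S : Subgroup G) P W Z i j := by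
  have D : FQ Z W (bau (S : Subgroup G)) q := NO3S.EThree.FQ.of_bg h hTI hnl
  intro R _ _ _ r _ w hw hn hcom
  obtain ⟨h1, h2⟩ := (NO3S.EThree.BgQ.mem_Q_iff h).1 hn
  rw [NO3S.EThree.BgQ.V_eq h]
  refine D.fix hij (fixA h h' hq hij) h1 h2 ?_ fun b hb hbU => ?_
  · have e : (r * w * r⁻¹) ^ 2 = r * w ^ 2 * r⁻¹ := by rw [conj_pow]
    rw [e, h.fr.Vsq (h.fr.WV i hw), mul_one, mul_inv_cancel]
  · exact hcom b ((NO3S.EThree.BgQ.mem_Q_iff h).2 ⟨hb, hbU⟩)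

end fix

/-- **`QFr` at stage `-1`.** -/
theorem qfr_neg [Finite G] {S : Sylow 2 G} {P K' : Subgroup G} {L W Z C : Fin 2 → Subgroup G} {q : ℕ}
    (hFF : FFThm.Stmt.{u}) (h : MQ S P K' (bau (S : Subgroup G)) (zj (S : Subgroup G)) L W Z C q)
    (hj : ¬ jj (S : Subgroup G) ≤ o2 P) (hW : ∀ i, W i ≤ Nn Z i) :
    QFr Z W (bau (S : Subgroup G)) ((S : Subgroup G) ⊓ centralizer (Z 0 : Set G)) := by
  obtain ⟨s, p⟩ := h.exists_pa
  obtain ⟨F, _, _, _, hF, ⟨N⟩⟩ := h.mul.nat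
  have hJ : HypJ S P := ⟨h.mul.hyp.toHypN, hj⟩
  obtain ⟨L', W', Z', C', A', -, -, -, -, h'⟩ := Line.exists_nat hJ le_rfl N.toNatK
  rw [hF] at h'
  have hq : 2 < q := lt_of_lt_of_le (by norm_num) h.hq
  have h1 : QFr ![Z 0, Z 1] ![W 0, W 1] (bau (S : Subgroup G)) ((S : Subgroup G) ⊓ centralizer (Z 0 : Set G)) := by
    refine qfr_of h.bg p (fun l => fin2 l) (h.ti 0) h.nonloc ?_
      (genU h.bg h' hq p (fun l => fin2 l) (h.ti 0) hFF) (fixU h.bg h' hq p.ne (h.ti 0) h.nonloc)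
    rw [vec2]
    exact hW 0
  rwa [vec2, vec2] at h1

/-- The level half of `QIn`. -/
def QLev (K : Cls.{u}) : Prop :=
  ∀ (G : Type u) [Group G] [Finite G], K G → ∀ (S : Sylow 2 G) (P : Subgroup G) (n : ℕ)
    (L W Z C : Fin 2 → Subgroup G) (q : ℕ),
    (∀ R, MinPar.IsParS (S : Subgroup G) R → lev (S : Subgroup G) n ≤ o2 R) → lev (S : Subgroup G) n ≤ o2 P →
    ¬ lev (S : Subgroup G) (n + 1) ≤ o2 P →
    MQ S P (lev (S : Subgroup G) (n + 1)) ((S : Subgroup G) ⊓ centralizer (zc (lev (S : Subgroup G) (n + 1)) : Set G))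
      (zc (lev (S : Subgroup G) (n + 1))) L W Z C q → (∀ i, W i ≤ Nn Z i) →
      ∃ T : Subgroup G, QFr Z W ((S : Subgroup G) ⊓ centralizer (zc (lev (S : Subgroup G) (n + 1)) : Set G)) T

/-- **`QIn`** from `FFThm` and its level half. -/
theorem qIn_of {K : Cls.{u}} (hFF : FFThm.Stmt.{u}) (hL : QLev K) : KIn.QIn K := by
  intro G _ _ hG S P K' B ZJ L W Z C q h hW
  have hs := h.mul.stg
  cases hs with
  | neg hj => exact ⟨_, qfr_neg hFF h hj hW⟩
  | lev n hall hn hn1 => exact hL G hG S P n L W Z C q hall hn hn1 h hW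

end Cfsg.Agent.Omega.KL.QF.OfNeg
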