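import Cfsg.Agent.Omega.KL.QF.Frame
import Cfsg.Agent.Omega.NO3S.EThree.TPlug
import Cfsg.Agent.Lib.NormalAbelian

/-!
# The frame `Bg`, `k = 2`: points of `V_P`, the action of `T = C_S(Z i)` (#22723, #22058; helper20)

* `exists_fix_mod` : a 2-group has fixed points modulo a normal subgroup;
* `C_eq`, `ZJ_le` : `C i = W j`, `Z_J = Z i Z j`;
* `ptV` : an element of `V_P` conjugate into `Z i` lies in `W i` or in `W j`; `cjW` : `(W l)^g ≤ V_P` is `W i` or `W j`;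
* `syl_T`, `TB`, `com`, `nB`, `nT` : the fields of `QFr` on `T`.
-/

set_option autoImplicit false
set_option linter.unusedSectionVars false
set_option maxHeartbeats 400000

namespace Cfsg.Agent.Omega.KL.QF.PtV

open Subgroup Cfsg Cfsg.Agent.ZN.ChoiceBase
open Cfsg.Agent.ZN (jj zj bau zc zl o2)
open Cfsg.Agent.ZN.ChoiceSit (Syl exists_syl syl_conj)
open Cfsg.Agent.Omega.OM Cfsg.Agent.Omega.OM.Uni
open Cfsg.Agent.Omega.NO3S.EThree.Frame
open Cfsg.Agent.Omega.MinPar (NonLoc)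
open scoped Pointwise

universe u

variable {G : Type u} [Group G]

/-- A 2-group `X` acting on `T / K` has a fixed point. -/
theorem exists_fix_mod [Finite G] {X K T : Subgroup G} (hX : IsPGroup 2 X) (hT : T ≤ X)
    (hXT : X ≤ normalizer (T : Set G)) (hXK : X ≤ normalizer (K : Set G)) (hne : ¬ T ≤ K) :
    ∃ o ∈ T, o ∉ K ∧ ∀ x ∈ X, x * o * x⁻¹ * o⁻¹ ∈ K := by
  have hf : Fact (Nat.Prime 2) := ⟨Nat.prime_two⟩
  have hKn : (K.subgroupOf X).Normal := normal_subgroupOf_of_le_normalizer hXK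
  have hTn : (T.subgroupOf X).Normal := normal_subgroupOf_of_le_normalizer hXT
  have hQ : IsPGroup 2 (X ⧸ K.subgroupOf X) := hX.to_quotient _
  have hnil : Group.IsNilpotent (X ⧸ K.subgroupOf X) := hQ.isNilpotent
  have hTm : ((T.subgroupOf X).map (QuotientGroup.mk' (K.subgroupOf X))).Normal :=
    hTn.map _ (QuotientGroup.mk'_surjective _)
  have h1 : (T.subgroupOf X).map (QuotientGroup.mk' (K.subgroupOf X)) ≠ ⊥ := by
    intro h0
    apply hne
    intro t ht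
    have h2 : QuotientGroup.mk' (K.subgroupOf X) ⟨t, hT ht⟩ ∈
        (T.subgroupOf X).map (QuotientGroup.mk' (K.subgroupOf X)) := ⟨_, ht, rfl⟩
    rw [h0, mem_bot] at h2
    exact (QuotientGroup.eq_one_iff (⟨t, hT ht⟩ : X)).1 h2
  have h2 := Lib.NormalAbelian.normal_inf_center_ne_bot _ h1
  obtain ⟨⟨x, hx⟩, hx1⟩ := Subgroup.ne_bot_iff_exists_ne_one.1 h2
  obtain ⟨⟨o, ho, hox⟩, hcen⟩ := hx
  refine ⟨o, ho, fun hK => hx1 (Subtype.ext ?_), fun y hy => ?_⟩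
  · change x = 1
    rw [← hox]
    exact (QuotientGroup.eq_one_iff o).2 hK
  · have h3 := mem_center_iff.1 hcen (QuotientGroup.mk' (K.subgroupOf X) ⟨y, hy⟩)
    rw [← hox, ← map_mul, ← map_mul] at h3
    have h4 : QuotientGroup.mk' (K.subgroupOf X) ((⟨y, hy⟩ : X) * o * (⟨y, hy⟩ : X)⁻¹ * o⁻¹) = 1 := by
      rw [map_mul, map_mul, h3, ← map_mul, ← map_mul]
      have e : o * (⟨y, hy⟩ : X) * (⟨y, hy⟩ : X)⁻¹ * o⁻¹ = 1 := by group
      rw [e, map_one]
    exact mem_subgroupOf.1 ((QuotientGroup.eq_one_iff (N := K.subgroupOf X)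
      ((⟨y, hy⟩ : X) * o * (⟨y, hy⟩ : X)⁻¹ * o⁻¹)).1 h4)

section base

variable [Finite G] {S : Sylow 2 G} {P : Subgroup G} {ι : Type} [Finite ι] {B ZJ : Subgroup G}
  {L W Z C : ι → Subgroup G} {q : ℕ} (h : Bg S P B ZJ L W Z C q) {i j : ι} {s : G}
  (p : Pa (S : Subgroup G) W i j s) (h2 : ∀ l : ι, l = i ∨ l = j)

include h

theorem card_W (l : ι) : Nat.card (W l) = q * q := by rw [(h.fr.blk l).card, h.fr.cardZ l]

theorem comWZ {l m : ι} (hlm : l ≠ m) {x y : G} (hx : x ∈ centralizer (C l : Set G)) (hy : y ∈ W m) :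
    x * y * x⁻¹ = y := by
  rw [← mem_centralizer_iff.1 hx y (h.fr.WjC l m hlm hy), mul_inv_cancel_right]

/-- the hypothesis `p` is only used through `j ≠ i` and `s` -/
theorem B_cent (l : ι) : B ≤ centralizer (Z l : Set G) :=
  fun b hb => mem_centralizer_iff.2 fun z hz => ((h.fr.blk l).cZ b hb z hz).symm

theorem B_le_T (l : ι) : B ≤ (S : Subgroup G) ⊓ centralizer (Z l : Set G) := le_inf h.BS (B_cent h l)

theorem W_le_B (l : ι) : W l ≤ B := (h.fr.blk l).VB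

theorem syl_T (l : ι) : Syl ((S : Subgroup G) ⊓ centralizer (Z l : Set G)) (centralizer (Z l : Set G)) := by
  refine ⟨inf_le_right, S.isPGroup'.to_le inf_le_left, fun R hR h3 hle => ?_⟩
  obtain ⟨R', hR', hle'⟩ := exists_syl h3 (hR.trans (centralizer_le_normalizer _))
  obtain ⟨x, hx, e⟩ := syl_conj (h.syl l) hR'
  have h4 : R ≤ cj x ((S : Subgroup G) ⊓ centralizer (Z l : Set G)) := by
    rw [cj_inf, cj_centralizer, cj_eq_of_mem_normalizer hx]
    refine le_inf ?_ hR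
    refine (hle'.trans e.ge).trans (cj_mono x inf_le_left)
  symm
  refine Subgroup.eq_of_le_of_card_ge hle ?_
  rw [← card_cj x ((S : Subgroup G) ⊓ centralizer (Z l : Set G))]
  exact Subgroup.card_le_of_le h4

include h2

theorem C_eq (hij : i ≠ j) : C i = W j := by
  refine le_antisymm ((h.C_le i).trans (iSup_le fun l => ?_)) (h.fr.WjC i j hij)
  rcases h2 l with e | e
  · exact absurd e l.2
  · rw [e]

theorem ZJ_le (hij : i ≠ j) : ZJ ≤ Z i ⊔ Z j := by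
  intro z hz
  obtain ⟨w, hw, c, hc, hcz, rfl⟩ := h.fr.split_ZJ i hz
  rw [C_eq h h2 hij] at hc
  refine mul_mem (mem_sup_left hw) (mem_sup_right ?_)
  exact (h.fr.blk j).toMd.mem_Z_iff.2 ⟨hc, fun b hb => ((h.fr.mem_ZJ c).1 hcz).2 b hb⟩

theorem ZJ_eq (hij : i ≠ j) : ZJ = Z i ⊔ Z j :=
  le_antisymm (ZJ_le h h2 hij) (sup_le (h.fr.Z_le i) (h.fr.Z_le j))

theorem V_eq (hij : i ≠ j) : zl (S : Subgroup G) P = W i ⊔ W j := by
  refine le_antisymm (fun v hv => ?_) (sup_le (h.fr.WV i) (h.fr.WV j))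
  obtain ⟨w, hw, c, hc, rfl⟩ := h.fr.WC i v hv
  rw [C_eq h h2 hij] at hc
  exact mul_mem (mem_sup_left hw) (mem_sup_right hc)

/-- **points of `V_P`** -/
theorem ptV (hij : i ≠ j) {x g : G} (hx : x ∈ zl (S : Subgroup G) P) (hg : g⁻¹ * x * g ∈ Z i) : x ∈ W i ∨ x ∈ W j := by
  obtain ⟨w, hw, c, hc, rfl⟩ := h.fr.WC i x hx
  rw [C_eq h h2 hij] at hc
  by_cases hw1 : w = 1
  · right; rw [hw1, one_mul]; exact hc
  by_cases hc1 : c = 1
  · left; rw [hc1, mul_one]; exact hw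
  exfalso
  obtain ⟨l, -, hlc, z, hz, e⟩ := h.tr i w hw hw1
  obtain ⟨l', -, hlc', z', hz', e'⟩ := h.tr j c hc hc1
  have h3 : l' * z * l'⁻¹ = z := comWZ h hij.symm hlc' ((h.fr.blk i).ZV hz)
  have h4 : l * c * l⁻¹ = c := comWZ h hij hlc hc
  have h5 : (l * l') * (z * z') * (l * l')⁻¹ = w * c := by
    calc (l * l') * (z * z') * (l * l')⁻¹ = l * ((l' * z * l'⁻¹) * (l' * z' * l'⁻¹)) * l⁻¹ := by group
      _ = l * (z * c) * l⁻¹ := by rw [h3, e']
      _ = (l * z * l⁻¹) * (l * c * l⁻¹) := by group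
      _ = w * c := by rw [e, h4]
  have hzz : z * z' ∈ ZJ := mul_mem (h.fr.Z_le i hz) (h.fr.Z_le j hz')
  obtain ⟨m, hm⟩ := h.fus (i := i) (x := z * z') (g := (l * l')⁻¹ * g) hzz (by
    have e1 : ((l * l')⁻¹ * g)⁻¹ * (z * z') * ((l * l')⁻¹ * g) = g⁻¹ * ((l * l') * (z * z') * (l * l')⁻¹) * g := by
      group
    rw [e1, h5]
    exact hg)
  have hbot := h.Z_disj hij
  rcases h2 m with rfl | rfl
  · have h6 : z' ∈ Z m ⊓ Z j := ⟨((Z m).mul_mem_cancel_left hz).1 hm, hz'⟩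
    rw [hbot, mem_bot] at h6
    rw [h6] at e'
    apply hc1
    rw [← e']; group
  · have h6 : z ∈ Z i ⊓ Z m := ⟨hz, ((Z m).mul_mem_cancel_right hz').1 hm⟩
    rw [hbot, mem_bot] at h6
    rw [h6] at e
    apply hw1
    rw [← e]; group

include p

theorem W_pt (l : ι) {x : G} (hx : x ∈ W l) : ∃ g, g⁻¹ * x * g ∈ Z i := by
  by_cases hx1 : x = 1
  · exact ⟨1, by rw [hx1]; simp [one_mem]⟩
  obtain ⟨m, -, -, z, hz, rfl⟩ := h.tr l x hx hx1
  rcases h2 l with rfl | rfl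
  · refine ⟨m, ?_⟩
    have e : m⁻¹ * (m * z * m⁻¹) * m = z := by group
    rwa [e]
  · refine ⟨m * s, ?_⟩
    have e : (m * s)⁻¹ * (m * z * m⁻¹) * (m * s) = s⁻¹ * z * s := by group
    rw [e, ← mem_cj, h.cj_s_Z p]
    exact hz

theorem le_or {A : Subgroup G} (hA : A ≤ zl (S : Subgroup G) P) (hpt : ∀ x ∈ A, ∃ g, g⁻¹ * x * g ∈ Z i) :
    A ≤ W i ∨ A ≤ W j := by
  by_contra hcon
  push Not at hcon
  obtain ⟨h3, h4⟩ := hcon
  obtain ⟨x, hx, hxi⟩ := SetLike.not_le_iff_exists.1 h3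
  obtain ⟨y, hy, hyj⟩ := SetLike.not_le_iff_exists.1 h4
  have key : ∀ x ∈ A, x ∈ W i ∨ x ∈ W j := fun x hx => by
    obtain ⟨g, hg⟩ := hpt x hx
    exact ptV h h2 p.ne (hA hx) hg
  have hxj : x ∈ W j := (key x hx).resolve_left hxi
  have hyi : y ∈ W i := (key y hy).resolve_right hyj
  rcases key (x * y) (mul_mem hx hy) with h5 | h5
  · exact hxi (((W i).mul_mem_cancel_right hyi).1 h5)
  · exact hyj (((W j).mul_mem_cancel_left hxj).1 h5)

theorem cjW (l : ι) {g : G} (hg : cj g (W l) ≤ zl (S : Subgroup G) P) : cj g (W l) = W i ∨ cj g (W l) = W j := by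
  rcases le_or h p h2 hg (fun x hx => by
    obtain ⟨k, hk⟩ := W_pt h p h2 l (mem_cj.1 hx)
    refine ⟨g * k, ?_⟩
    have e : (g * k)⁻¹ * x * (g * k) = k⁻¹ * (g⁻¹ * x * g) * k := by group
    rwa [e]) with h3 | h3
  · left
    exact Subgroup.eq_of_le_of_card_ge h3 (by rw [card_cj, card_W h, card_W h])
  · right
    exact Subgroup.eq_of_le_of_card_ge h3 (by rw [card_cj, card_W h, card_W h])

/-- an element of `C(Z i)` normalising `V_P` (or mapping `W i` into `V_P`) normalises `W i` -/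
theorem cjWi {g : G} (hg : g ∈ centralizer (Z i : Set G)) (hgV : cj g (W i) ≤ zl (S : Subgroup G) P) :
    cj g (W i) = W i := by
  rcases cjW h p h2 i hgV with h3 | h3
  · exact h3
  exfalso
  apply h.Z_ne i
  rw [eq_bot_iff, ← h.W_disj p.ne]
  refine le_inf (h.fr.blk i).ZV ?_
  rw [← h3]
  intro z hz
  rw [mem_cj]
  have e : g⁻¹ * z * g = z := by
    rw [mul_assoc, mem_centralizer_iff.1 hg z hz]; group
  rw [e]
  exact (h.fr.blk i).ZV hz

/-- an element mapping `W j` into `W j Z i` normalises `W j` -/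
theorem cjWj {g : G} (hgV : cj g (W j) ≤ W j ⊔ Z i) :
    cj g (W j) = W j := by
  have hV : W j ⊔ Z i ≤ zl (S : Subgroup G) P := sup_le (h.fr.WV j) (h.fr.ZV i)
  rcases cjW h p h2 j (hgV.trans hV) with h3 | h3
  · exfalso
    have h4 : W i ≤ Z i := by
      intro x hx
      have h5 := hgV (h3 ▸ hx)
      obtain ⟨w, hw, z, hz, rfl⟩ := SQ1.Bau.mem_sup_comm
        (fun a ha b hb => h.fr.Vc (h.fr.WV j ha) (h.fr.ZV i hb)) h5
      have h6 : w ∈ W i ⊓ W j := ⟨((W i).mul_mem_cancel_right ((h.fr.blk i).ZV hz)).1 hx, hw⟩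
      rw [h.W_disj p.ne, mem_bot] at h6
      rw [h6, one_mul]
      exact hz
    have h5 := Subgroup.card_le_of_le h4
    rw [card_W h, h.fr.cardZ] at h5
    have h6 := (h.fr.blk i).one
    nlinarith
  · exact h3

theorem T_nor : (S : Subgroup G) ⊓ centralizer (Z i : Set G) ≤ (S : Subgroup G) ⊓ normalizer (Z i : Set G) :=
  inf_le_inf_left _ (centralizer_le_normalizer _)

theorem T1 : (S : Subgroup G) ⊓ centralizer (Z i : Set G) ≤ normalizer (Z j : Set G) :=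
  (T_nor h p h2).trans ((h.T_le p).trans inf_le_right)

theorem TU0 : (S : Subgroup G) ⊓ centralizer (Z i : Set G) ≤ normalizer (W i : Set G) := by
  refine (T_nor h p h2).trans ?_
  rw [h.inf_normalizer i]
  exact inf_le_right

theorem TU1 : (S : Subgroup G) ⊓ centralizer (Z i : Set G) ≤ normalizer (W j : Set G) := by
  have h3 : (S : Subgroup G) ⊓ centralizer (Z i : Set G) ≤ (S : Subgroup G) ⊓ normalizer (Z j : Set G) :=
    le_inf inf_le_left (T1 h p h2)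
  rw [h.inf_normalizer j] at h3
  exact h3.trans inf_le_right

theorem TB : ((S : Subgroup G) ⊓ centralizer (Z i : Set G)) ⊓ centralizer (Z j : Set G) = B := by
  conv_rhs => rw [h.eqB, ZJ_eq h h2 p.ne]
  rw [inf_assoc]
  congr 1
  apply le_antisymm
  · rintro x ⟨hx1, hx2⟩
    have h3 : Z i ⊔ Z j ≤ centralizer {x} := by
      refine sup_le (fun z hz => ?_) fun z hz => ?_
      · exact mem_centralizer_singleton_iff.2 (mem_centralizer_iff.1 hx1 z hz)
      · exact mem_centralizer_singleton_iff.2 (mem_centralizer_iff.1 hx2 z hz)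
    exact mem_centralizer_iff.2 fun z hz => mem_centralizer_singleton_iff.1 (h3 hz)
  · exact le_inf (centralizer_le (le_sup_left : Z i ≤ Z i ⊔ Z j)) (centralizer_le (le_sup_right : Z j ≤ Z i ⊔ Z j))

/-- **`[W i, T] ≤ Z i`** -/
theorem com {t : G} (ht : t ∈ (S : Subgroup G) ⊓ centralizer (Z i : Set G)) {x : G} (hx : x ∈ W i) :
    t * x * t⁻¹ * x⁻¹ ∈ Z i := by
  set T : Subgroup G := (S : Subgroup G) ⊓ centralizer (Z i : Set G) with hT
  have hfb := h.fr.blk i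
  have hcz : ∀ t ∈ T, ∀ z ∈ Z i, t * z * t⁻¹ = z := fun t ht z hz => by
    rw [← mem_centralizer_iff.1 ht.2 z hz, mul_inv_cancel_right]
  have hTB : ∀ t ∈ T, ∀ b ∈ B, t * b * t⁻¹ ∈ B := fun t ht b hb =>
    (mem_normalizer_iff.1 (h.S_norm_B ht.1) b).1 hb
  have hTW : ∀ t ∈ T, ∀ w ∈ W i, t * w * t⁻¹ ∈ W i := fun t ht w hw =>
    (mem_normalizer_iff.1 (TU0 h p h2 ht) w).1 hw
  have hne : ¬ W i ≤ Z i := by
    intro h4
    have h5 := Subgroup.card_le_of_le h4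
    rw [card_W h, h.fr.cardZ] at h5
    have h6 := hfb.one
    nlinarith
  obtain ⟨o, ho, hoZ, hfix⟩ := exists_fix_mod (X := T) (T := W i) (K := Z i) (S.isPGroup'.to_le inf_le_left)
    ((W_le_B h i).trans (B_le_T h i)) (TU0 h p h2) (inf_le_right.trans (centralizer_le_normalizer _)) hne
  -- `t = b t'`, `t'` centralises `o`
  obtain ⟨b, hb, -, hbo⟩ := h.root i o ho hoZ _ (hfix t ht)
  have hbT : b ∈ T := B_le_T h i hb
  set t' : G := b⁻¹ * t with ht'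
  have ht'T : t' ∈ T := T.mul_mem (inv_mem hbT) ht
  have ht'o : t' * o * t'⁻¹ = o := by
    have e1 : t * o * t⁻¹ = b * o * b⁻¹ := mul_right_cancel hbo.symm
    calc t' * o * t'⁻¹ = b⁻¹ * (t * o * t⁻¹) * b := by rw [ht']; group
      _ = b⁻¹ * (b * o * b⁻¹) * b := by rw [e1]
      _ = o := by group
  -- `[t', x] ∈ Z i`
  have h3 : t' * x * t'⁻¹ * x⁻¹ ∈ Z i := by
    refine hfb.toMd.mem_Z_iff.2 ⟨mul_mem (hTW t' ht'T x hx) (inv_mem hx), fun c hc => ?_⟩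
    -- `c' = t' c t'⁻¹` acts as `c`
    set c' := t' * c * t'⁻¹ with hc'
    have hc'B : c' ∈ B := hTB t' ht'T c hc
    have e1 : c' * o * c'⁻¹ * o⁻¹ = c * o * c⁻¹ * o⁻¹ := by
      have e2 : c' * o * c'⁻¹ * o⁻¹ = t' * (c * (t'⁻¹ * o * t') * c⁻¹ * (t'⁻¹ * o * t')⁻¹) * t'⁻¹ := by
        rw [hc']; group
      have e3 : t'⁻¹ * o * t' = o := by
        calc t'⁻¹ * o * t' = t'⁻¹ * (t' * o * t'⁻¹) * t' := by rw [ht'o]
          _ = o := by group
      rw [e2, e3]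
      exact hcz t' ht'T _ (hfb.com c hc o ho)
    have h4 : (c'⁻¹ * c) * o = o * (c'⁻¹ * c) := by
      have e2 : c' * o * c'⁻¹ = c * o * c⁻¹ := mul_right_cancel e1
      calc (c'⁻¹ * c) * o = c'⁻¹ * (c * o * c⁻¹) * c := by group
        _ = c'⁻¹ * (c' * o * c'⁻¹) * c := by rw [e2]
        _ = o * (c'⁻¹ * c) := by group
    have h5 := hfb.free (c'⁻¹ * c) (mul_mem (inv_mem hc'B) hc) o ho hoZ h4
    -- `c x c⁻¹ = c' x c'⁻¹` for all `x ∈ W i`
    have h6 : ∀ u ∈ W i, c' * u * c'⁻¹ = c * u * c⁻¹ := by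
      intro u hu
      have h7 := h5 u hu
      calc c' * u * c'⁻¹ = c' * (u * (c'⁻¹ * c)) * c⁻¹ := by group
        _ = c' * ((c'⁻¹ * c) * u) * c⁻¹ := by rw [h7]
        _ = c * u * c⁻¹ := by group
    -- `[c, t' x t'⁻¹] = [c', t' x t'⁻¹] = t' [c, x] t'⁻¹ = [c, x]`
    have h7 : c * (t' * x * t'⁻¹) * c⁻¹ * (t' * x * t'⁻¹)⁻¹ = c * x * c⁻¹ * x⁻¹ := by
      rw [← h6 _ (hTW t' ht'T x hx)]
      have e2 : c' * (t' * x * t'⁻¹) * c'⁻¹ * (t' * x * t'⁻¹)⁻¹ = t' * (c * x * c⁻¹ * x⁻¹) * t'⁻¹ := by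
        rw [hc']; group
      rw [e2]
      exact hcz t' ht'T _ (hfb.com c hc x hx)
    set y := t' * x * t'⁻¹ with hy
    have hyW : y ∈ W i := hTW t' ht'T x hx
    have e2 : c * (y * x⁻¹) * c⁻¹ = y * x⁻¹ := by
      have e3 : c * y * c⁻¹ = (c * x * c⁻¹ * x⁻¹) * y := by
        rw [← h7]; group
      have e4 : c * (y * x⁻¹) * c⁻¹ = (c * y * c⁻¹) * (c * x * c⁻¹)⁻¹ := by group
      have hz := hfb.com c hc x hx
      set z := c * x * c⁻¹ * x⁻¹ with hzd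
      have e5 : c * x * c⁻¹ = z * x := by rw [hzd]; group
      rw [e4, e3, e5]
      have e6 : z * y * (z * x)⁻¹ = z * (y * x⁻¹) * z⁻¹ := by group
      rw [e6, hfb.comm (hfb.ZV hz) (mul_mem hyW (inv_mem hx)), mul_inv_cancel_right]
    exact mul_inv_eq_iff_eq_mul.1 e2
  have e1 : t * x * t⁻¹ * x⁻¹ = b * (t' * x * t'⁻¹ * x⁻¹) * b⁻¹ * (b * x * b⁻¹ * x⁻¹) := by
    rw [ht']; group
  rw [e1, hcz b hbT _ h3]
  exact mul_mem h3 (hfb.com b hb x hx)

/-- **`C(Z i) ∩ N(B) ≤ N(Z j) ∩ N(W i)`** -/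
theorem nB' {g : G} (hg : g ∈ centralizer (Z i : Set G)) (hgB : g ∈ normalizer (B : Set G)) :
    cj g (Z j) = Z j ∧ cj g (W i) = W i := by
  obtain ⟨hV, hZ⟩ := h.nrm g hgB
  refine ⟨?_, cjWi h p h2 hg ((cj_mono g (h.fr.WV i)).trans hV.le)⟩
  obtain ⟨l, hl, -⟩ := hZ j
  rcases h2 l with rfl | rfl
  · exfalso
    have h3 : cj g (Z l) = Z l := cj_eq_of_mem_normalizer (centralizer_le_normalizer _ hg)
    have h4 : cj g⁻¹ (cj g (Z j)) = cj g⁻¹ (cj g (Z l)) := by rw [hl, h3]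
    rw [cj_inv_cj, cj_inv_cj] at h4
    exact p.ne (h.Z_inj h4).symm
  · exact hl

theorem nT' {g : G} (hgT : g ∈ normalizer (((S : Subgroup G) ⊓ centralizer (Z i : Set G) : Subgroup G) : Set G)) :
    g ∈ normalizer (B : Set G) := by
  refine mem_normalizer_iff_cj.2 (h.wc ((S : Subgroup G) ⊓ centralizer (Z i : Set G))
    (S.isPGroup'.to_le inf_le_left) (B_le_T h i) g ?_)
  have h3 := cj_mono g (B_le_T h i)
  rwa [cj_eq_of_mem_normalizer hgT] at h3

end base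

end Cfsg.Agent.Omega.KL.QF.PtV
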