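import Cfsg.Agent.Omega.KL.QF.OfTop
import Cfsg.Agent.Omega.KL.QF.KInG

/-!
# `QTopG K H` (651's literal) from the weird socket

* `WeirdIn K H` : in the situation `MH`, `Top S P K₀`, `W i ≤ N_i`: the minimal parabolics over `T = C_S(Z 0)` in
  `C(Z 0)` which move `Z 1` have `K₀ ≤ O₂(R)`;
* `qTopG_of : WeirdIn K H → QTopG K H`; `bInG_of` : **row (7), `W i ≤ N_i`, over `MulG` and `H`.**
-/

set_option autoImplicit false

namespace Cfsg.Agent.Omega.KL.QF.QTop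

open Subgroup Cfsg Cfsg.Agent.ZN.ChoiceBase
open Cfsg.Agent.ZN (jj zj bau zc zl o2)
open Cfsg.Agent.Omega.OM
open Cfsg.Agent.Omega.NO3S (FrP)
open Cfsg.Agent.Omega.NO3S.Level (nxt)
open Cfsg.Agent.Omega.NO3S.EThree.Row7 (vec2 fin2)
open Cfsg.Agent.Omega.Frame (Cls)
open Cfsg.Agent.Omega.Node.MulG
open KInG OfTop

universe u

/-- **The weird socket.** -/
def WeirdIn (K : Cls.{u}) (H : FrP.{u}) : Prop :=
  ∀ (G : Type u) [Group G] [Finite G], K G → ∀ (S : Sylow 2 G) (P K₀ : Subgroup G)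
    (L W Z C : Fin 2 → Subgroup G) (q : ℕ), H G S P → Top S P K₀ →
      MH S P (nxt (S : Subgroup G) K₀) ((S : Subgroup G) ⊓ centralizer (zc (nxt (S : Subgroup G) K₀) : Set G))
        (zc (nxt (S : Subgroup G) K₀)) L W Z C q → (∀ i, W i ≤ PG.NN Z (Z i)) →
      WeirdK (S : Subgroup G) K₀ Z 0 1

variable {K : Cls.{u}} {H : FrP.{u}}

theorem qTopG_of (hw : WeirdIn K H) : QTopG K H := by
  intro G _ _ hG S P K₀ L W Z C q hH hT h hW
  obtain ⟨s, p⟩ := exists_pa h.mul.bg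
  have h1 := qfr_top h.mul.bg p (fun l => fin2 l) (h.ti 0) h.nonloc (by rw [vec2]; exact hW 0) hT.lev hT.le hT.nxt rfl
    rfl h.mul.nat (hw G hG S P K₀ L W Z C q hH hT h hW)
  rw [vec2, vec2] at h1
  exact ⟨_, h1⟩

/-- **Row (7), (B), over `MulG` and `H`.** -/
theorem bInG_of (hFF : FFThm.Stmt.{u}) (hML : ML.Final.MLK.{u, u}) (hE : ML.Ex.Two.Ext.{u, u}) (hw : WeirdIn K H) :
    BInG K H := kInG_of hML hE (qInG_of hFF (qTopG_of hw))

end Cfsg.Agent.Omega.KL.QF.QTop
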