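import Cfsg.Agent.Omega.KL.QF.KInX
import Cfsg.Agent.Omega.NO3S.EThree.DoneQ
import Cfsg.Agent.Omega.NO3S.EMany.FourDQ

/-!
# UNI, weak form, over `MulL` (case (L) of GammaFF), `k = 2`, `q ≥ 3`, from the weird socket

* `T_nor` : a 2-group over `B` which centralises `Z i` normalises `Z j` and `W j`;
* `weirdK'` : `NoW S P Z j` gives `WeirdK S (o2 P) Z i j`;
* **`uniQ : UniQ Z W B`**.
-/

set_option autoImplicit false
set_option linter.unusedSectionVars false

namespace Cfsg.Agent.Omega.KL.QF.UniX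

open Subgroup Cfsg Cfsg.Agent.ZN.ChoiceBase
open Cfsg.Agent.ZN (jj zj bau zc zl o2)
open Cfsg.Agent.ZN.ChoiceSit (Syl)
open Cfsg.Agent.MinSimple.MinParabolic (IsMinPar)
open Cfsg.Agent.MinSimple.VModule (le_normalizer_o2 o2_isPGroup)
open Cfsg.Agent.Omega.OM
open Cfsg.Agent.Omega.OM.Uni
open Cfsg.Agent.Omega.MinPar (NonLoc)
open Cfsg.Agent.Omega.NO3S.Level (nxt normalizer_le_zc)
open Cfsg.Agent.Omega.NO3S.EThree
open Cfsg.Agent.Omega.NO3S.EThree.Frame
open Cfsg.Agent.Omega.NO3S.EThree.Row7 (vec2 fin2)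
open Cfsg.Agent.Omega.EK3.Q
open Cfsg.Agent.Omega.Node.MulG
open Cfsg.Agent.Omega.Node.MulX
open OfTop OfLev PtV KInX
open scoped Pointwise

universe u

variable {G : Type u} [Group G] [Finite G] {S : Sylow 2 G} {P B ZJ : Subgroup G} {q : ℕ}

section bg

variable {L W Z C : Fin 2 → Subgroup G}

/-- a 2-group over `B` which centralises `Z i` normalises `Z j` and `W j` -/
theorem T_nor (h : Bg S P B ZJ L W Z C q) {i j : Fin 2} (hij : i ≠ j) {T : Subgroup G} (hT2 : IsPGroup 2 T)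
    (hBT : B ≤ T) (hTi : T ≤ centralizer (Z i : Set G)) :
    T ≤ normalizer (Z j : Set G) ∧ T ≤ normalizer (W j : Set G) := by
  have key : ∀ t ∈ T, cj t (W j) = W j ∧ cj t (Z j) = Z j := by
    intro t ht
    obtain ⟨σ, hσ⟩ := h.perm_W (h.le_norm_B hT2 hBT ht)
    have h0 : cj t (Z i) = Z i := mem_normalizer_iff_cj.1 (centralizer_le_normalizer _ (hTi ht))
    have hσi : σ i = i := h.Z_inj ((hσ i).2.symm.trans h0)
    have hσj : σ j = j := by
      have hne : σ j ≠ i := fun e => hij (σ.injective (hσi.trans e.symm))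
      have h3 : ∀ a b c : Fin 2, a ≠ b → c ≠ a → c = b := by decide
      exact h3 i j (σ j) hij hne
    have h4 := hσ j
    rwa [hσj] at h4
  exact ⟨fun t ht => mem_normalizer_iff_cj.2 (key t ht).2, fun t ht => mem_normalizer_iff_cj.2 (key t ht).1⟩

/-- the partner of `i` -/
theorem exists_pa' (h : Bg S P B ZJ L W Z C q) {i j : Fin 2} (hij : i ≠ j) : ∃ s, Pa (S : Subgroup G) W i j s := by
  obtain ⟨l, s, p⟩ := h.exists_partner i
  have h3 : ∀ a b c : Fin 2, a ≠ b → a ≠ c → c = b := by decide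
  have e : l = j := h3 i j l hij p.ne
  subst e
  exact ⟨s, p⟩

/-- `WeirdK` from `NoW`. -/
theorem weirdK' (h : Bg S P B ZJ L W Z C q) (hti : ∀ i, TI (Z i)) {i j : Fin 2} (hij : i ≠ j) (hw : NoW S P Z j) :
    WeirdK (S : Subgroup G) (o2 P) Z i j := by
  obtain ⟨s, p⟩ := exists_pa' h hij
  have h2 : ∀ l : Fin 2, l = i ∨ l = j := by
    have h3 : ∀ a b : Fin 2, a ≠ b → ∀ l : Fin 2, l = a ∨ l = b := by decide
    exact h3 i j hij
  obtain rfl : j = i + 1 := by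
    have h3 : ∀ a b : Fin 2, a ≠ b → b = a + 1 := by decide
    exact h3 i j hij
  intro R hR hRC hne
  have e := TY_eq (S := S) Z i
  have hBT := B_le_T h i
  have hc := char2 h (i := i) (hBT.trans hR.le) hRC
  have hZ := not_cent h p h2 (hti i) hne
  exact hw R (e.symm ▸ hR) ((YQ_eq Z i).symm ▸ hRC) hc (e.symm ▸ hZ)

end bg

variable {L W Z C A : Fin 2 → Subgroup G}

/-- **UNI, weak form.** -/
theorem uni (h : MulL S P B ZJ L W Z C A q) (hq : 2 < q) (hti : ∀ i, TI (Z i)) {i j : Fin 2} (hij : i ≠ j)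
    (hw : WeirdK (S : Subgroup G) (o2 P) Z i j) {R : Subgroup G}
    (hR : IsMinPar ((S : Subgroup G) ⊓ centralizer (Z i : Set G)) R) (hRC : R ≤ centralizer (Z i : Set G))
    (hne : ¬ R ≤ normalizer (Z j : Set G)) : R ≤ normalizer (W j : Set G) := by
  obtain ⟨s, p⟩ := exists_pa' h.bg hij
  have h2 : ∀ l : Fin 2, l = i ∨ l = j := by
    have h3 : ∀ a b : Fin 2, a ≠ b → ∀ l : Fin 2, l = a ∨ l = b := by decide
    exact h3 i j hij
  have hT2 : IsPGroup 2 ((S : Subgroup G) ⊓ centralizer (Z i : Set G) : Subgroup G) := S.isPGroup'.to_le inf_le_left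
  have hBT := B_le_T h.bg i
  obtain ⟨hTZ, hTW⟩ := T_nor h.bg hij hT2 hBT inf_le_right
  have hS : Syl ((S : Subgroup G) ⊓ centralizer (Z i : Set G)) R :=
    ⟨hR.le, hT2, fun Q hQ h3 hle => (syl_T h.bg i).2.2 Q (hQ.trans hRC) h3 hle⟩
  have hc := char2 h.bg (i := i) (hBT.trans hR.le) hRC
  have hZ := not_cent h.bg p h2 (hti i) hne
  have hK := hw R hR hRC hne
  have hn : ¬ nxt (S : Subgroup G) (o2 P) ≤ o2 R := by
    intro h1
    refine hne (nor_Zj h.bg p h2 (hti i) hRC ?_)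
    rw [h.eZ]
    exact (le_normalizer_o2 R).trans fun g hg => normalizer_le_zc _ (mem_normalizer_iff_cj.2
      (LevD.norm_of_wc (Lev.Wc.wc_Lev h.cl.levQ.next) (o2_isPGroup R) h1 hg))
  obtain ⟨L', V', hLR, hb, hV, hRL⟩ := exists_fblk S h.cl.levQ h.eqB hS hBT hR hc hK hn hZ
  have hx : FBX B (zl (S : Subgroup G) P) L' V' := ⟨⟨hb.fb, hb.blk⟩, hV.trans h.cl.zc_eq.le⟩
  obtain ⟨Z', -, m, rfl, hN, hVW, hcen, -⟩ := h.uni hx
  have hm : m = j := by
    rcases h2 m with rfl | rfl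
    · exfalso
      apply h.bg.Z_ne m
      rw [eq_bot_iff]
      intro z hz
      exact mem_bot.2 (hN.cent hz fun x hx => (mem_centralizer_iff.1 (hRC (hLR hx)) z hz).symm)
    · rfl
  subst hm
  have e := NO3S.EMany.FourDQ.V_eq h.bg hq hN hVW fun z hz hzC => (hcen z hz).1 hzC
  refine hRL.trans (sup_le hTW fun x hx => ?_)
  refine mem_normalizer_of_cj_le ?_
  rintro _ ⟨v, hv, rfl⟩
  rw [← e] at hv ⊢
  exact hN.nV x hx v hv

/-- **`UniQ` over `MulL`.** -/
theorem uniQ (h : MulL S P B ZJ L W Z C A q) (hq : 2 < q) (hti : ∀ i, TI (Z i)) (hw : ∀ j, NoW S P Z j) :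
    UniQ Z W B := fun i j hij =>
  ⟨(S : Subgroup G) ⊓ centralizer (Z i : Set G), B_le_T h.bg i, syl_T h.bg i, fun _ hR hRC hne =>
    uni h hq hti hij (weirdK' h.bg hti hij (hw j)) hR hRC hne⟩

end Cfsg.Agent.Omega.KL.QF.UniX
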